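import Cfsg.Agent.SubdegThree.SmallPGL
import Cfsg.Agent.Classical.SmallSimple
import Cfsg.Agent.NsePGL.Main
import Cfsg.Agent.S0205
import Cfsg.Agent.S0219
import Cfsg.Agent.S0803
import Cfsg.Agent.S3322
import Cfsg.Agent.S3331

/-!
Primitive groups with a suborbit of length three and a small point stabiliser.
-/

set_option autoImplicit false

namespace Cfsg.Agent.SubdegThree

open Subgroup

theorem solvable_two_mul_odd {N : Type*} [Group N] [Finite N] {m : ℕ} (hm : Odd m)
    (hN : Nat.card N = 2 * m) : Group.IsSolvable N := by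
  haveI : Fact (Nat.Prime 2) := ⟨Nat.prime_two⟩
  obtain ⟨T⟩ : Nonempty (Sylow 2 N) := inferInstance
  have hT : Nat.card (T : Subgroup N) = 2 := by
    obtain ⟨k, hk⟩ := T.2.exists_card_eq
    have hd : 2 ^ k ∣ 2 * m := hk ▸ hN ▸ Subgroup.card_subgroup_dvd_card _
    rcases k with _ | _ | k
    · exfalso
      refine T.not_dvd_index ?_
      have := (T : Subgroup N).card_mul_index
      rw [hk, pow_zero, one_mul, hN] at this
      rw [this]; exact dvd_mul_right _ _
    · exact hk
    · exfalso
      have h4 : 2 * 2 ∣ 2 * m := dvd_trans ⟨2 ^ k, by ring⟩ hd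
      have := Nat.dvd_of_mul_dvd_mul_left (by norm_num) h4
      obtain ⟨r, hr⟩ := hm
      omega
  have hcyc : IsCyclic (T : Subgroup N) := isCyclic_of_prime_card hT
  obtain ⟨K, hK⟩ := S0219.result (by rw [hN]; exact even_two_mul m) T hcyc
  haveI : K.Normal := normal_of_index_eq_two hK
  have hKc : Odd (Nat.card K) := by
    have := K.card_mul_index
    rw [hK, hN, mul_comm] at this
    have : Nat.card K = m := by omega
    rwa [this]
  haveI := S0205.result hKc
  haveI : Group.IsSolvable (N ⧸ K) := by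
    haveI : IsCyclic (N ⧸ K) := isCyclic_of_prime_card (p := 2) (by rw [← index_eq_card, hK])
    exact Group.isSolvable_of_comm fun a b => (IsCyclic.isMulCommutative (α := N ⧸ K)).is_comm.comm a b
  exact Group.isSolvable_of_ker_le_range K.subtype (QuotientGroup.mk' K) (by simp)

theorem solvable_perm_three : Group.IsSolvable (Equiv.Perm (Fin 3)) := by
  refine solvable_two_mul_odd (m := 3) (by decide) ?_
  rw [Nat.card_perm, Nat.card_fin]; rfl

theorem card_centralizer_congr {G G' : Type*} [Group G] [Group G'] (e : G ≃* G') (x : G) :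
    Nat.card (centralizer ({e x} : Set G')) = Nat.card (centralizer ({x} : Set G)) := by
  symm
  refine Nat.card_congr (Equiv.subtypeEquiv e.toEquiv fun a => ?_)
  show a ∈ centralizer ({x} : Set G) ↔ e a ∈ centralizer ({e x} : Set G')
  rw [mem_centralizer_singleton_iff, mem_centralizer_singleton_iff, ← map_mul, ← map_mul,
    e.injective.eq_iff]

variable {G : Type*} [Group G] [Finite G]

/-- Stabiliser of order three or six: the self-centralising group of order three. -/
theorem three_case (hns : ¬ Group.IsSolvable G) (H : Subgroup G) (hH : IsCoatom H)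
    (hcore : ∀ N : Subgroup G, N.Normal → Group.IsSolvable N → N = ⊥)
    {P : Type*} [Group P] [Finite P] (e : H ≃* P) (hP : Nat.card P ≤ 6) (c : P) (hc : orderOf c = 3)
    (hn : ∀ g : P, g * c * g⁻¹ = c ∨ g * c * g⁻¹ = c ^ 2)
    (hcc : ∀ g : P, g * c = c * g → g = 1 ∨ g = c ∨ g = c ^ 2) :
    Nonempty (G ≃* alternatingGroup (Fin 5)) := by
  classical
  haveI : Fact (Nat.Prime 3) := ⟨Nat.prime_three⟩
  let φ : P →* G := H.subtype.comp e.symm.toMonoidHom
  have hφ : Function.Injective φ := H.subtype_injective.comp e.symm.injective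
  have hφr : φ.range = H := by
    rw [MonoidHom.range_comp, MonoidHom.range_eq_top.2 e.symm.surjective, ← MonoidHom.range_eq_map,
      H.range_subtype]
  set X := zpowers (φ c) with hXdef
  have hX : Nat.card X = 3 := by rw [hXdef, Nat.card_zpowers, orderOf_injective φ hφ, hc]
  have hXne : X ≠ ⊥ := fun h => by rw [h, card_bot] at hX; omega
  have hXH : X ≤ H := zpowers_le.2 (hφr.le ⟨c, rfl⟩)
  have hcard : Nat.card H ≤ 6 := (Nat.card_congr e.toEquiv).trans_le hP
  haveI hC0 : (zpowers c).Normal := by
    refine ⟨fun x hx g => ?_⟩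
    obtain ⟨i, rfl⟩ := hx
    show g * c ^ i * g⁻¹ ∈ zpowers c
    rw [← conj_zpow]
    refine zpow_mem ?_ i
    rcases hn g with h | h <;> rw [h]
    · exact mem_zpowers c
    · exact pow_mem (mem_zpowers c) 2
  have hXmap : (zpowers c).map φ = X := MonoidHom.map_zpowers φ c
  have hHN : H ≤ normalizer (X : Set G) := by
    have h := le_normalizer_map (H := zpowers c) φ
    rwa [normalizer_eq_top (zpowers c), ← MonoidHom.range_eq_map, hXmap, hφr] at h
  have hsolX : Group.IsSolvable X :=
    Group.isSolvable_of_comm fun a b => by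
      haveI : IsCyclic X := isCyclic_of_prime_card hX
      exact (IsCyclic.isMulCommutative (α := X)).is_comm.comm a b
  have hN : normalizer (X : Set G) = H := by
    refine (hH.le_iff_eq fun h => hXne ?_).1 hHN
    exact hcore X (normalizer_eq_top_iff.1 h) hsolX
  have hC : centralizer (X : Set G) = X := by
    refine le_antisymm (fun x hx => ?_) (fun x hx y hy => ?_)
    · have hxH : x ∈ H := hN ▸ centralizer_le_normalizer (X : Set G) hx
      obtain ⟨g, rfl⟩ : x ∈ φ.range := hφr.symm ▸ hxH
      have h : g * c = c * g :=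
        hφ (by rw [map_mul, map_mul]; exact (hx _ (mem_zpowers _)).symm)
      rcases hcc g h with h' | h' | h' <;> rw [h']
      · rw [map_one]; exact one_mem _
      · exact mem_zpowers _
      · rw [map_pow]; exact pow_mem (mem_zpowers _) 2
    · obtain ⟨i, rfl⟩ := hx
      obtain ⟨j, rfl⟩ := hy
      exact (Commute.zpow_zpow_self (φ c) j i).eq
  rcases S3331.result X hX hC with ⟨N, hN', hnil, -, hq⟩ | ⟨N, hN', hab, -, ⟨q⟩⟩ | hq7
  · exfalso
    haveI := hnil
    haveI hsN : Group.IsSolvable N := inferInstance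
    haveI : Group.IsSolvable (G ⧸ N) := by
      rcases hq with hq | ⟨⟨q⟩⟩
      · haveI : IsCyclic (G ⧸ N) := isCyclic_of_prime_card hq
        exact Group.isSolvable_of_comm fun a b =>
          (IsCyclic.isMulCommutative (α := G ⧸ N)).is_comm.comm a b
      · haveI := solvable_perm_three
        exact Group.isSolvable_of_isSolvable_injective (f := q.toMonoidHom) q.injective
    exact hns (Group.isSolvable_of_ker_le_range N.subtype (QuotientGroup.mk' N) (by simp))
  · have hbot := hcore N hN' (Group.isSolvable_of_comm fun a b => hab.is_comm.comm a b)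
    subst hbot
    exact ⟨(QuotientGroup.quotientBot (G := G)).symm.trans q⟩
  · exfalso
    obtain ⟨q⟩ := hq7
    haveI : Fact (Nat.Prime 7) := ⟨by norm_num⟩
    obtain ⟨S, ⟨s⟩⟩ := (S0803.result (F := ZMod 7) (q := 7) (ZMod.card 7)).2 (by norm_num)
    let ψ : Equiv.Perm (Fin 4) →* G := (q.symm.toMonoidHom.comp S.subtype).comp s.symm.toMonoidHom
    have hψ : Function.Injective ψ :=
      q.symm.injective.comp (S.subtype_injective.comp s.symm.injective)
    have hG : Nat.card G = 168 := by
      rw [Nat.card_congr q.toEquiv]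
      have h := Classical.card_psl_mul (ι := Fin 2) (F := ZMod 7)
      rw [Classical.card_sl2, Fintype.card_fin, ZMod.card] at h
      rw [show Nat.gcd 2 (7 - 1) = 2 from rfl, show 7 * (7 ^ 2 - 1) = 336 from rfl] at h
      omega
    let ι : Equiv.Perm (Fin 3) →* Equiv.Perm (Fin 4) :=
      Equiv.Perm.viaEmbeddingHom (Fin.castSuccEmb : Fin 3 ↪ Fin 4)
    have hι : Function.Injective ι := Equiv.Perm.viaEmbeddingHom_injective _
    let θ : Equiv.Perm (Fin 3) →* G := ψ.comp ι
    have hθ : Function.Injective θ := hψ.comp hι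
    set d : Equiv.Perm (Fin 3) := finRotate 3 with hd
    have hd3 : orderOf d = 3 := orderOf_eq_prime (by rw [hd]; decide) (by rw [hd]; decide)
    haveI hD : (zpowers d).Normal := by
      refine ⟨fun x hx g => ?_⟩
      obtain ⟨i, rfl⟩ := hx
      show g * d ^ i * g⁻¹ ∈ zpowers d
      rw [← conj_zpow]
      refine zpow_mem ?_ i
      have key : ∀ g : Equiv.Perm (Fin 3), g * finRotate 3 * g⁻¹ = finRotate 3 ∨
          g * finRotate 3 * g⁻¹ = finRotate 3 ^ 2 := by decide +kernel
      rcases key g with h | h <;> rw [hd, h]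
      · exact mem_zpowers _
      · exact pow_mem (mem_zpowers _) 2
    set Y := zpowers (θ d) with hYdef
    have hY : Nat.card Y = 3 := by rw [hYdef, Nat.card_zpowers, orderOf_injective θ hθ, hd3]
    have hYN : θ.range ≤ normalizer (Y : Set G) := by
      have h := le_normalizer_map (H := zpowers d) θ
      rwa [normalizer_eq_top (zpowers d), ← MonoidHom.range_eq_map, MonoidHom.map_zpowers] at h
    -- the subgroups of order three are Sylow subgroups, hence conjugate
    have hsyl : ∀ Z : Subgroup G, Nat.card Z = 3 → ∃ Q : Sylow 3 G, (Q : Subgroup G) = Z := by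
      intro Z hZ
      refine ⟨(IsPGroup.of_card (n := 1) (by rw [hZ, pow_one])).toSylow ?_, rfl⟩
      intro h
      have := Z.card_mul_index
      rw [hZ, hG] at this
      omega
    obtain ⟨Q, hQ⟩ := hsyl X hX
    obtain ⟨Q', hQ'⟩ := hsyl Y hY
    obtain ⟨g, hg⟩ := MulAction.exists_smul_eq G Q Q'
    have hYX : Y = X.map (MulAut.conj g).toMonoidHom := by
      rw [← hQ, ← hQ', ← hg]; rfl
    have hNY : normalizer (Y : Set G) = H.map (MulAut.conj g).toMonoidHom := by
      rw [hYX, ← hN, map_equiv_normalizer_eq]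
    set L := H.map (MulAut.conj g).toMonoidHom with hL
    have hLc : IsCoatom L := ((MulAut.conj g).mapSubgroup.isCoatom_iff H).2 hH
    have h6 : Nat.card θ.range = 6 := by
      rw [← Nat.card_congr (MonoidHom.ofInjective hθ).toEquiv, Nat.card_perm, Nat.card_fin]; rfl
    have hLθ : θ.range = L := eq_of_le_of_card_ge (hNY ▸ hYN)
      (by rw [h6, hL, card_map_of_injective (MulAut.conj g).injective]; exact hcard)
    have h24 : Nat.card ψ.range = 24 := by
      rw [← Nat.card_congr (MonoidHom.ofInjective hψ).toEquiv, Nat.card_perm, Nat.card_fin]; rfl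
    have hlt : L < ψ.range := by
      refine lt_of_le_of_ne (hLθ ▸ (by rintro _ ⟨x, rfl⟩; exact ⟨ι x, rfl⟩ : θ.range ≤ ψ.range))
        fun h => ?_
      rw [← h, ← hLθ, h6] at h24
      omega
    have htop := hLc.2 _ hlt
    rw [htop, card_top, hG] at h24
    omega

theorem dihedral_six_facts :
    (∀ x : DihedralGroup 6, x * DihedralGroup.r 3 = DihedralGroup.r 3 * x) ∧
    (∀ x : DihedralGroup 6, x * x = 1 → x ≠ 1 → (∀ y, y * x = x * y) → x = DihedralGroup.r 3) := by
  decide +kernel

theorem dihedral_six_case (hns : ¬ Group.IsSolvable G) (H : Subgroup G) (hH : IsCoatom H)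
    (hcore : ∀ N : Subgroup G, N.Normal → Group.IsSolvable N → N = ⊥)
    (e : H ≃* DihedralGroup 6) :
    Nonempty (G ≃* Equiv.Perm (Fin 5)) ∨
      Nonempty (G ≃* GL (Fin 2) (ZMod 7) ⧸ Subgroup.center (GL (Fin 2) (ZMod 7))) ∨
      Nonempty (G ≃* Matrix.ProjectiveSpecialLinearGroup (Fin 2) (ZMod 11)) ∨
      Nonempty (G ≃* Matrix.ProjectiveSpecialLinearGroup (Fin 2) (ZMod 13)) := by
  classical
  let φ : DihedralGroup 6 →* G := H.subtype.comp e.symm.toMonoidHom
  have hφ : Function.Injective φ := H.subtype_injective.comp e.symm.injective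
  have hφr : φ.range = H := by
    rw [MonoidHom.range_comp, MonoidHom.range_eq_top.2 e.symm.surjective, ← MonoidHom.range_eq_map,
      H.range_subtype]
  obtain ⟨hcen, huniq⟩ := dihedral_six_facts
  set j := φ (DihedralGroup.r 3) with hjdef
  have hj2 : orderOf j = 2 := by
    rw [hjdef, orderOf_injective φ hφ]
    exact orderOf_eq_prime (by decide) (by decide)
  have hHC : H ≤ centralizer ({j} : Set G) := by
    rw [← hφr]
    rintro _ ⟨x, rfl⟩
    rw [mem_centralizer_singleton_iff, hjdef, ← map_mul, ← map_mul, hcen]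
  have hC : centralizer ({j} : Set G) = H := by
    refine (hH.le_iff_eq fun h => ?_).1 hHC
    have hjc : zpowers j ≤ center G := zpowers_le.2 (mem_center_iff.2 fun y =>
      mem_centralizer_singleton_iff.1 (h ▸ mem_top y))
    have hn : (zpowers j).Normal :=
      ⟨fun x hx g => by rw [mem_center_iff.1 (hjc hx) g, mul_inv_cancel_right]; exact hx⟩
    haveI : IsCyclic (zpowers j) := isCyclic_zpowers j
    have hb := hcore _ hn (Group.isSolvable_of_comm fun a b =>
      (IsCyclic.isMulCommutative (α := zpowers j)).is_comm.comm a b)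
    rw [zpowers_eq_bot] at hb
    rw [hb, orderOf_one] at hj2
    omega
  have hH12 : Nat.card H = 12 := by
    rw [Nat.card_congr e.toEquiv, DihedralGroup.nat_card]
  set A := (zpowers (DihedralGroup.r 1 : DihedralGroup 6)).map φ with hA
  have hAH : A < H := by
    refine lt_of_le_of_ne (hφr ▸ map_le_range _ _) fun h => ?_
    have : Nat.card A = 6 := by
      rw [hA, card_map_of_injective hφ, Nat.card_zpowers, DihedralGroup.orderOf_r_one]
    rw [h, hH12] at this
    omega
  have hD : ∀ x ∈ H, x ∉ A → x ^ 2 = 1 := by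
    rw [← hφr]
    rintro _ ⟨x, rfl⟩ hx
    rw [← map_pow]
    suffices x ^ 2 = 1 by rw [this, map_one]
    rcases x with i | i
    · refine absurd (mem_map_of_mem φ ?_) hx
      exact ⟨(i.val : ℤ), by simp [zpow_natCast, DihedralGroup.r_one_pow]⟩
    · rw [pow_two, DihedralGroup.sr_mul_self]
  have hCj : ∀ k ∈ H, orderOf k = 2 → (∀ h ∈ H, h * k = k * h) →
      centralizer ({k} : Set G) = H := by
    rw [← hφr]
    rintro _ ⟨x, rfl⟩ ho hc
    have ho' : orderOf x = 2 := by rwa [orderOf_injective φ hφ] at ho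
    have hx : x = DihedralGroup.r 3 := huniq x (by rw [← pow_two, ← ho', pow_orderOf_eq_one])
      (fun h => by rw [h, orderOf_one] at ho'; omega)
      (fun y => hφ (by rw [map_mul, map_mul]; exact hc _ ⟨y, rfl⟩))
    rw [hx, ← hjdef, hC, hφr]
  obtain ⟨N, hN', hodd, F, iF, iFF, h3, hiso⟩ :=
    S3322.result H A hAH hD (by rw [hH12]; norm_num) hCj hns
  have hbot : N = ⊥ := by
    refine hcore N hN' ?_
    rcases hodd with h | ⟨m, hm, h⟩
    · exact S0205.result h
    · exact solvable_two_mul_odd hm h
  subst hbot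
  let q0 : G ≃* G ⧸ (⊥ : Subgroup G) := (QuotientGroup.quotientBot (G := G)).symm
  have psl : (G ≃* Matrix.ProjectiveSpecialLinearGroup (Fin 2) F) →
      Nonempty (G ≃* Matrix.ProjectiveSpecialLinearGroup (Fin 2) (ZMod 11)) ∨
        Nonempty (G ≃* Matrix.ProjectiveSpecialLinearGroup (Fin 2) (ZMod 13)) := by
    intro E
    rcases psl_twelve (x := E j) (by rw [MulEquiv.orderOf_eq, hj2])
      (by rw [card_centralizer_congr E j, hC, hH12]) with hq | hq
    · haveI : Fact (Nat.Prime 11) := ⟨by norm_num⟩
      obtain ⟨c⟩ := Classical.Small.psl_congr (n := 2) (ZMod.ringEquivOfPrime F (by norm_num) hq).symm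
      exact Or.inl ⟨E.trans c⟩
    · haveI : Fact (Nat.Prime 13) := ⟨by norm_num⟩
      obtain ⟨c⟩ := Classical.Small.psl_congr (n := 2) (ZMod.ringEquivOfPrime F (by norm_num) hq).symm
      exact Or.inr ⟨E.trans c⟩
  rcases hiso with ⟨⟨E⟩⟩ | ⟨⟨E⟩⟩
  · exact Or.inr (Or.inr (psl (q0.trans E)))
  · rcases Nat.even_or_odd (Fintype.card F) with heven | hodd'
    · obtain ⟨c⟩ := pgl_equiv_psl heven
      exact Or.inr (Or.inr (psl ((q0.trans E).trans c)))
    · set E' := q0.trans E with hE'
      have hb := pgl_cent_bound hodd' (x := E' j) (by rw [MulEquiv.orderOf_eq, hj2])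
      rw [card_centralizer_congr E' j, hC, hH12] at hb
      obtain ⟨k, hk⟩ := hodd'
      rcases (show Fintype.card F = 5 ∨ Fintype.card F = 7 by omega) with hq | hq
      · obtain ⟨p5⟩ := pgl_five hq fun M hM hMs => by
          have h1 := hcore (M.comap E'.toMonoidHom) (hM.comap _) (by
            haveI := hMs
            exact Group.isSolvable_of_isSolvable_injective (f := E'.toMonoidHom.subgroupComap M)
              fun a b h => Subtype.ext (E'.injective (congrArg Subtype.val h)))
          exact comap_injective (f := E'.toMonoidHom) E'.surjective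
            (h1.trans (by rw [MonoidHom.comap_bot]; exact (MonoidHom.ker_eq_bot_iff _).2 E'.injective |>.symm))
        exact Or.inl ⟨E'.trans p5⟩
      · haveI : Fact (Nat.Prime 7) := ⟨by norm_num⟩
        obtain ⟨c⟩ := NsePGL.pgl_congr (ZMod.ringEquivOfPrime F (by norm_num) hq).symm
        exact Or.inr (Or.inl ⟨E'.trans c⟩)

/-- The small point stabilisers. -/
theorem smallCases {G : Type*} [Group G] [Finite G] (hns : ¬ Group.IsSolvable G) (H : Subgroup G) (hH : IsCoatom H)
    (hcore : ∀ N : Subgroup G, N.Normal → Group.IsSolvable N → N = ⊥)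
    (h : Nonempty (H ≃* Multiplicative (ZMod 3)) ∨ Nonempty (H ≃* Equiv.Perm (Fin 3)) ∨ Nonempty (H ≃* DihedralGroup 6)) :
    Nonempty (G ≃* alternatingGroup (Fin 5)) ∨ Nonempty (G ≃* Equiv.Perm (Fin 5)) ∨
      Nonempty (G ≃* GL (Fin 2) (ZMod 7) ⧸ Subgroup.center (GL (Fin 2) (ZMod 7))) ∨
      Nonempty (G ≃* Matrix.ProjectiveSpecialLinearGroup (Fin 2) (ZMod 11)) ∨
      Nonempty (G ≃* Matrix.ProjectiveSpecialLinearGroup (Fin 2) (ZMod 13)) := by
  rcases h with ⟨⟨e⟩⟩ | ⟨⟨e⟩⟩ | ⟨⟨e⟩⟩
  · refine Or.inl (three_case hns H hH hcore e (by simp) (Multiplicative.ofAdd 1) ?_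
      (by decide +kernel) (by decide +kernel))
    exact orderOf_eq_prime (by decide) (by decide)
  · refine Or.inl (three_case hns H hH hcore e ?_ (finRotate 3) ?_
      (by decide +kernel) (by decide +kernel))
    · rw [Nat.card_perm, Nat.card_fin]; exact le_rfl
    · haveI : Fact (Nat.Prime 3) := ⟨Nat.prime_three⟩
      exact orderOf_eq_prime (by decide) (by decide)
  · exact Or.inr (dihedral_six_case hns H hH hcore e)

end Cfsg.Agent.SubdegThree
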