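import Cfsg.Agent.S0307
import Cfsg.Agent.Classical.PSLFour
import Cfsg.Agent.Classical.Linear2

/-!
`PGL(2, q)` has a subgroup of index two for odd `q` and equals `PSL(2, q)` for even `q`.
-/

set_option autoImplicit false

namespace Cfsg.Agent.SubdegThree

open Matrix

variable {F : Type*} [Field F] [Fintype F]

theorem pgl_index_two (hodd : Odd (Fintype.card F)) :
    ∃ M : Subgroup (ProjGenLinGroup (Fin 2) F), M.index = 2 := by
  obtain ⟨g, hg, -⟩ := S0307.result (F := F) rfl 2 (by norm_num)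
  refine ⟨g.ker, ?_⟩
  have hd : 2 ∣ Fintype.card F - 1 := by
    obtain ⟨m, hm⟩ := hodd
    omega
  rw [Subgroup.index_ker, MonoidHom.range_eq_top.2 hg, Subgroup.card_top,
    Nat.card_congr Multiplicative.toAdd, Nat.gcd_eq_left hd, Nat.card_zmod]

theorem pgl_equiv_psl (heven : Even (Fintype.card F)) :
    Nonempty (ProjGenLinGroup (Fin 2) F ≃* ProjectiveSpecialLinearGroup (Fin 2) F) := by
  obtain ⟨g, -, hk⟩ := S0307.result (F := F) rfl 2 (by norm_num)
  have h1 : Nat.gcd 2 (Fintype.card F - 1) = 1 := by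
    obtain ⟨m, hm⟩ := heven
    have := Fintype.one_lt_card (α := F)
    exact Nat.coprime_two_left.2 ⟨m - 1, by omega⟩
  have : Subsingleton (Multiplicative (ZMod (Nat.gcd 2 (Fintype.card F - 1)))) := by
    rw [h1]; infer_instance
  have htop : g.ker = ⊤ := eq_top_iff.2 fun y _ => MonoidHom.mem_ker.2 (Subsingleton.elim _ _)
  rw [htop] at hk
  exact ⟨(MulEquiv.ofBijective ProjectiveSpecialLinearGroup.toPGL
    ⟨ProjectiveSpecialLinearGroup.toPGL_injective, MonoidHom.range_eq_top.1 hk.symm⟩).symm⟩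

theorem card_mod_sixteen {q : ℕ} (hodd : Odd q) (h : 16 * 2 ∣ q * (q ^ 2 - 1)) :
    q % 16 = 1 ∨ q % 16 = 15 := by
  have hc : Nat.Coprime (16 * 2) q := by
    have : Nat.Coprime 2 q := Nat.coprime_two_left.2 hodd
    simpa using this.pow_left 5
  have hd : 32 ∣ q ^ 2 - 1 := hc.dvd_of_dvd_mul_left h
  have hq1 : 1 ≤ q := hodd.pos
  have hz : (q : ZMod 32) ^ 2 = 1 := by
    have h1 : ((q ^ 2 - 1 : ℕ) : ZMod 32) = 0 := (ZMod.natCast_eq_zero_iff _ _).2 hd
    rw [Nat.cast_sub (Nat.one_le_pow _ _ hq1), Nat.cast_pow, Nat.cast_one, sub_eq_zero] at h1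
    exact h1
  have key : ∀ a : ZMod 32, a ^ 2 = 1 → a.val % 16 = 1 ∨ a.val % 16 = 15 := by decide +kernel
  have := key _ hz
  rw [ZMod.val_natCast] at this
  omega

end Cfsg.Agent.SubdegThree
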