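import Cfsg.Agent.SubdegThree.Dihedral
import Cfsg.Agent.SubdegThree.Quot
import Cfsg.Agent.S3322

/-!
The dihedral case gives `PSL(2, q)` with `q ≡ ±1 (mod 16)`.
-/

set_option autoImplicit false

namespace Cfsg.Agent.SubdegThree

open Subgroup

variable {K : Type*} [Group K] [Finite K] {z v h x : K} {T : Sylow 2 K} {n : ℕ}

theorem dihedral_psl (B : Base z v h) (D : TData z v T x n) (hinv : v * x * v⁻¹ = x⁻¹)
    (hidx : ∀ M : Subgroup K, M.index ≠ 2)
    (hodd : ∀ N : Subgroup K, N.Normal → Odd (Nat.card N) → N = ⊥)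
    (htrick : Trick z v h) (hns : ¬ Group.IsSolvable K) :
    ∃ (F : Type) (_ : Field F) (_ : Fintype F), Odd (Fintype.card F) ∧
      (Fintype.card F % 16 = 1 ∨ Fintype.card F % 16 = 15) ∧
      Nonempty (K ≃* Matrix.ProjectiveSpecialLinearGroup (Fin 2) F) := by
  classical
  have : Fact (Nat.Prime 2) := ⟨Nat.prime_two⟩
  have hn := D.hn
  have hX := fixed_eq_bot B D hinv hidx htrick
  have hxz : Commute x z := D.half ▸ (Commute.refl x).pow_right _
  obtain ⟨u, hu⟩ : ∃ u, u = v * x := ⟨_, rfl⟩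
  have huz : Commute u z := hu ▸ B.zv_comm.mul_left hxz
  have huu : u * u = 1 := by
    rw [hu, ← mul_assoc]
    nth_rewrite 2 [← inv_eq_of_order_two B.hv]
    rw [hinv, inv_mul_cancel]
  have hvv : v⁻¹ = v := inv_eq_of_order_two B.hv
  -- `u` inverts the core, so `x` centralizes it
  have hxW : ∀ w ∈ Wc z, Commute x w := by
    intro w hw
    have hu1 : u ≠ 1 := fun e => D.vx (by
      rw [hu] at e
      rw [eq_inv_of_mul_eq_one_left e]; exact inv_mem (mem_zpowers x))
    have hinvu : u * w * u⁻¹ = w⁻¹ := by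
      have hmem : ∀ w : Wc z, u * w * u⁻¹ ∈ Wc z := fun w => Wc_conj w.2 huz
      let f : Wc z →* Wc z := MonoidHom.mk' (fun w => ⟨u * w * u⁻¹, hmem w⟩) fun a b => Subtype.ext (by
        simp only [Subgroup.coe_mul]; group)
      have hfix : MonoidHom.FixedPointFree f := by
        intro a ha
        have e : u * a * u⁻¹ = a := congrArg Subtype.val ha
        have hm : (a : K) ∈ Wc z ⊓ centralizer ({v * x} : Set K) :=
          ⟨a.2, mem_centralizer_singleton_iff.2 (hu ▸ (mul_inv_eq_iff_eq_mul.1 e).symm)⟩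
        rw [hX] at hm
        exact Subtype.ext (mem_bot.1 hm)
      have hinvol : Function.Involutive f := by
        intro a
        refine Subtype.ext ?_
        show u * (u * a * u⁻¹) * u⁻¹ = a
        rw [show u * (u * a * u⁻¹) * u⁻¹ = (u * u) * a * (u * u)⁻¹ by group, huu]
        simp
      exact congrArg Subtype.val (congrFun (hfix.coe_eq_inv_of_involutive hinvol) ⟨w, hw⟩)
    refine mul_inv_eq_iff_eq_mul.1 ?_
    calc x * w * x⁻¹ = v⁻¹ * (u * w * u⁻¹) * v := by rw [hu]; group
      _ = v * w⁻¹ * v⁻¹ := by rw [hinvu, hvv]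
      _ = w := by rw [← conj_inv, B.inverts hw, inv_inv]
  set C := centralizer ({z} : Set K) with hCdef
  set A := C ⊓ centralizer ({x} : Set K) with hAdef
  have hvC : v ∈ C := mem_centralizer_singleton_iff.2 B.comm
  have hvA : v ∉ A := by
    intro hA
    have hc : Commute v x := mem_centralizer_singleton_iff.1 hA.2
    rw [hc.eq, mul_inv_cancel_right] at hinv
    have h2 := D.xo ▸ orderOf_dvd_of_pow_eq_one (x := x) (n := 2)
      (by rw [pow_two]; nth_rewrite 1 [hinv]; rw [inv_mul_cancel])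
    have := Nat.le_of_dvd two_pos h2
    have : 2 ^ 3 ≤ 2 ^ n := Nat.pow_le_pow_right two_pos hn
    omega
  have hle := D.le_cent B.comm
  have hD : ∀ y ∈ C, y ∉ A → y ^ 2 = 1 := by
    intro y hy hyA
    have hyz : Commute y z := mem_centralizer_singleton_iff.1 hy
    obtain ⟨w, hw, t, ht, rfl⟩ := decomp B D hinv hyz
    obtain ⟨i, rfl | rfl⟩ := cases_of_index_two D.xT D.vT D.xo D.card D.vx ht
    · exact absurd ⟨hy, mem_centralizer_singleton_iff.2
        (((hxW w hw).symm).mul_left ((Commute.refl x).zpow_left i)).eq⟩ hyA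
    · have e1 : (x ^ i * v) * w * (x ^ i * v)⁻¹ = w⁻¹ := by
        rw [show (x ^ i * v) * w * (x ^ i * v)⁻¹ = x ^ i * (v * w * v⁻¹) * (x ^ i)⁻¹ by group,
          B.inverts hw, (((hxW w hw).inv_right).zpow_left i).eq, mul_inv_cancel_right]
      have e2 : (x ^ i * v) * (x ^ i * v) = 1 := by
        rw [mul_assoc, ← mul_assoc v, swap_inverting hinv, ← mul_assoc, ← mul_assoc,
          ← zpow_add, add_neg_cancel, zpow_zero, one_mul, B.vv]
      calc (w * (x ^ i * v)) ^ 2
          = w * ((x ^ i * v) * w * (x ^ i * v)⁻¹) * ((x ^ i * v) * (x ^ i * v)) := by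
            rw [pow_two]; group
        _ = 1 := by rw [e1, e2, mul_one, mul_inv_cancel]
  have h4 : 4 ∣ Nat.card C := by
    refine Dvd.dvd.trans ?_ (card_dvd_of_le hle)
    rw [D.card, show 4 = 2 ^ 2 by norm_num]
    exact pow_dvd_pow 2 (by omega)
  have hcen : ∀ j ∈ C, orderOf j = 2 → (∀ c ∈ C, c * j = j * c) →
      centralizer ({j} : Set K) = C := by
    intro j hj hj2 hjc
    have hzC : z ∈ C := mem_centralizer_singleton_iff.2 rfl
    have hxC : x ∈ C := hle D.xT
    rcases B.cent j (mem_centralizer_singleton_iff.1 hj) (hjc v hvC).symm with e | e | e | e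
    · exact absurd e (ne_one_of_order_two hj2)
    · rw [e]
    · exact absurd ⟨hvC, mem_centralizer_singleton_iff.2 (e ▸ hjc x hxC).symm⟩ hvA
    · refine absurd ⟨hvC, mem_centralizer_singleton_iff.2 ?_⟩ hvA
      have h1 : Commute x (z * v) := e ▸ hjc x hxC
      have h2 := hxz.mul_right h1
      rw [← mul_assoc, B.zz, one_mul] at h2
      exact h2.symm.eq
  obtain ⟨N, hN, hcase, F, iF, iT, hF3, hiso⟩ :=
    S3322.result C A (lt_of_le_of_ne inf_le_left fun e => hvA (e ▸ hvC)) hD h4 hcen hns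
  have hvx' : ¬ Commute x v := fun hc =>
    hvA ⟨hvC, mem_centralizer_singleton_iff.2 hc.symm.eq⟩
  have hN1 : N = ⊥ := by
    by_contra hne
    have h2 : 2 ∣ Nat.card N := by
      by_contra h2
      exact hne (hodd N hN (Nat.odd_iff.2 (by omega)))
    have hzN := B.z_mem_normal D hvx' N h2
    have hvN : v ∈ N := B.hh ▸ hN.conj_mem z hzN h
    have hdvd : 4 ∣ Nat.card N := by
      have hsub : ({1, z, v, z * v} : Set K) = (closure ({z, v} : Set K) : Set K) := by
        ext y
        refine ⟨fun hy => ?_, fun hy => mem_closure_pair B.zz B.vv B.comm hy⟩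
        rcases hy with rfl | rfl | rfl | rfl
        exacts [one_mem _, subset_closure (Or.inl rfl), subset_closure (Or.inr rfl),
          mul_mem (subset_closure (Or.inl rfl)) (subset_closure (Or.inr rfl))]
      have hc4 : Nat.card (closure ({z, v} : Set K)) = 4 := by
        rw [← SetLike.coe_sort_coe, Nat.card_coe_set_eq, ← hsub, Set.ncard_insert_of_notMem,
          Set.ncard_insert_of_notMem, Set.ncard_pair B.zv_ne.symm]
        · simp only [Set.mem_insert_iff, Set.mem_singleton_iff, not_or]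
          exact ⟨B.ne.symm, B.zv_ne'.symm⟩
        · simp only [Set.mem_insert_iff, Set.mem_singleton_iff, not_or]
          exact ⟨(ne_one_of_order_two B.hz).symm, (ne_one_of_order_two B.hv).symm, B.zv_one.symm⟩
      refine hc4 ▸ card_dvd_of_le ((closure_le N).2 ?_)
      rintro y (rfl | rfl)
      exacts [hzN, hvN]
    rcases hcase with ho | ⟨m, hm, hc⟩
    · exact absurd ((dvd_of_mul_left_dvd (a := 2) hdvd)) (by
        rw [Nat.two_dvd_ne_zero]; exact Nat.odd_iff.1 ho)
    · obtain ⟨c, rfl⟩ := hm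
      omega
  subst hN1
  have hpsl : ∀ (E : Type) (_ : Field E) (_ : Fintype E),
      Nonempty (K ≃* Matrix.ProjectiveSpecialLinearGroup (Fin 2) E) →
      Odd (Fintype.card E) ∧ (Fintype.card E % 16 = 1 ∨ Fintype.card E % 16 = 15) := by
    intro E _ _ ⟨e⟩
    have hodd' : Odd (Fintype.card E) := by
      by_contra he
      rw [Nat.not_odd_iff_even] at he
      refine Classical.PKlein.no_order_four (Classical.PKlein.two_eq_zero_of_even he)
        (e (x ^ (2 ^ (n - 2)))) ?_
      rw [MulEquiv.orderOf_eq, orderOf_pow_of_dvd (by positivity) (by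
        rw [D.xo]; exact pow_dvd_pow 2 (by omega)), D.xo, Nat.pow_div (by omega) two_pos,
        show n - (n - 2) = 2 by omega]
      norm_num
    refine ⟨hodd', card_mod_sixteen hodd' ?_⟩
    have hT16 : 2 ^ 4 ∣ Nat.card K :=
      (D.card ▸ pow_dvd_pow 2 (by omega) : 2 ^ 4 ∣ Nat.card (T : Subgroup K)).trans
        (card_subgroup_dvd_card _)
    have h := Classical.A5InPSL.card_psl (F := E)
    rw [← Nat.card_congr e.toEquiv, Nat.gcd_eq_left (by obtain ⟨c, hc⟩ := hodd'; omega)] at h
    rw [← h]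
    obtain ⟨c, hc⟩ := hT16
    exact ⟨c, by rw [hc]; ring⟩
  obtain ⟨e0⟩ : Nonempty (K ≃* K ⧸ (⊥ : Subgroup K)) := ⟨(QuotientGroup.quotientBot).symm⟩
  rcases hiso with he1 | he1 <;> obtain ⟨e⟩ := he1
  · exact ⟨F, iF, iT, (hpsl F iF iT ⟨e0.trans e⟩).1, (hpsl F iF iT ⟨e0.trans e⟩).2, ⟨e0.trans e⟩⟩
  · rcases Nat.even_or_odd (Fintype.card F) with he | ho
    · obtain ⟨e'⟩ := pgl_equiv_psl (F := F) he
      exact ⟨F, iF, iT, (hpsl F iF iT ⟨(e0.trans e).trans e'⟩).1,
        (hpsl F iF iT ⟨(e0.trans e).trans e'⟩).2, ⟨(e0.trans e).trans e'⟩⟩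
    · exfalso
      obtain ⟨M, hM⟩ := pgl_index_two (F := F) ho
      refine hidx (M.comap (e0.trans e).toMonoidHom) ?_
      rw [index_comap_of_surjective _ (e0.trans e).surjective, hM]

end Cfsg.Agent.SubdegThree
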