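import Cfsg.Agent.Classical.Dickson2.PGL.Base
import Cfsg.Agent.Classical.PSLKlein
import Cfsg.Agent.Classical.PSLFour
import Cfsg.Agent.Classical.SubfieldPSL
import Cfsg.Agent.DGroupPSL.Pgl

/-!
A maximal subgroup isomorphic to `S₄` of `PSL(2, q)`, `q ≡ ±1 (mod 16)`, forces `q` to be prime.
-/

set_option autoImplicit false

namespace Cfsg.Agent.SubdegThree

open Matrix Cfsg.Agent.SL2Class
open Cfsg.Agent.Classical Cfsg.Agent.Classical.Dickson2

namespace LinPrime

variable {F : Type*} [Field F] [Fintype F]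

local notation "SG" => Matrix.SpecialLinearGroup (Fin 2) F
local notation "PG" => Matrix.ProjectiveSpecialLinearGroup (Fin 2) F
local notation "PL" => Matrix.ProjGenLinGroup (Fin 2) F
local notation "ιP" => ProjectiveSpecialLinearGroup.toPGL (n := Fin 2) (R := F)

omit [Fintype F] in
theorem isKleinFour_of_equiv {A B : Type*} [Group A] [Group B] (e : A ≃* B) [IsKleinFour B] : IsKleinFour A :=
  ⟨(Nat.card_congr e.toEquiv).trans IsKleinFour.card_four,
    (Monoid.exponent_eq_of_mulEquiv e).trans IsKleinFour.exponent_two⟩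

omit [Fintype F] in
theorem isKleinFour_mapι (V : Subgroup PG) [IsKleinFour V] : IsKleinFour (V.map ιP) :=
  isKleinFour_of_equiv (V.equivMapOfInjective _ ProjectiveSpecialLinearGroup.toPGL_injective).symm

theorem centralizer_image (hodd : Odd (Fintype.card F)) (V : Subgroup PG) [IsKleinFour V] :
    Subgroup.centralizer ((V.map ιP : Subgroup PL) : Set PL) ≤ V.map ιP := by
  classical
  have h2 : (2 : F) ≠ 0 := Classical.two_ne_zero_of_odd hodd
  obtain ⟨x, y, hx, hy, x1, y1, hxy⟩ := KleinN.exists_basis V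
  have hxx : ∀ z ∈ V, z * z = 1 := fun z hz =>
    congrArg Subtype.val (IsKleinFour.mul_self (⟨z, hz⟩ : V))
  have hcxy : x * y = y * x := congrArg Subtype.val
    (mul_comm_of_exponent_two IsKleinFour.exponent_two (⟨x, hx⟩ : V) ⟨y, hy⟩)
  obtain ⟨g, rfl⟩ := proj_surjective x
  obtain ⟨h, rfl⟩ := proj_surjective y
  have hg : g * g = -1 := (PKlein.involution_iff h2).1 ⟨x1, hxx _ hx⟩
  have hh : h * h = -1 := (PKlein.involution_iff h2).1 ⟨y1, hxx _ hy⟩
  have hanti : g * h = -(h * g) := (PKlein.anti_iff h2 hg hh).1 ⟨hcxy, hxy⟩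
  set A : GL (Fin 2) F := Matrix.SpecialLinearGroup.toGL g with hA
  set B : GL (Fin 2) F := Matrix.SpecialLinearGroup.toGL h with hB
  have eAB : (A : Matrix (Fin 2) (Fin 2) F) * B = -((B : Matrix (Fin 2) (Fin 2) F) * A) := by
    have := congrArg (fun z : SG => (z : Matrix (Fin 2) (Fin 2) F)) hanti
    simpa [hA, hB] using this
  have hne : (A : Matrix (Fin 2) (Fin 2) F) * B ≠ (B : Matrix (Fin 2) (Fin 2) F) * A := by
    intro e
    have e0 : ((A * B : GL (Fin 2) F) : Matrix (Fin 2) (Fin 2) F) = 0 := by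
      rw [Units.val_mul]
      have hs : (2 : F) • ((A : Matrix (Fin 2) (Fin 2) F) * B) = 0 := by
        rw [two_smul]; nth_rw 2 [eAB]; rw [e, add_neg_cancel]
      exact (smul_eq_zero.1 hs).resolve_left h2
    exact (A * B).ne_zero e0
  -- an element commuting with both lifts is trivial
  have key : ∀ M : GL (Fin 2) F, (M : Matrix (Fin 2) (Fin 2) F) * A = A * M →
      (M : Matrix (Fin 2) (Fin 2) F) * B = B * M → ProjGenLinGroup.mk M = 1 := by
    intro M ha hb
    refine DGroupPSL.Pgl2.isScal_iff.1 (Classical.byContradiction fun hns => hne ?_)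
    exact DGroupPSL.Pgl2.comm_of_comm_nonscalar hns ha.symm hb.symm
  intro p hp
  induction p using Matrix.ProjGenLinGroup.induction_on with | mk M => ?_
  have hmemA : ProjGenLinGroup.mk A ∈ V.map ιP := ⟨_, hx, PGLMax.toPGL_proj g⟩
  have hmemB : ProjGenLinGroup.mk B ∈ V.map ιP := ⟨_, hy, PGLMax.toPGL_proj h⟩
  have cA : Commute (ProjGenLinGroup.mk M) (ProjGenLinGroup.mk A) :=
    (Subgroup.mem_centralizer_iff.1 hp _ hmemA).symm
  have cB : Commute (ProjGenLinGroup.mk M) (ProjGenLinGroup.mk B) :=
    (Subgroup.mem_centralizer_iff.1 hp _ hmemB).symm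
  have eBA : (B : Matrix (Fin 2) (Fin 2) F) * A = -((A : Matrix (Fin 2) (Fin 2) F) * B) := by
    rw [eAB, neg_neg]
  rcases DGroupPSL.Pgl2.comm_or_anti cA with a | a <;> rcases DGroupPSL.Pgl2.comm_or_anti cB with b | b
  · rw [key M a b]; exact one_mem _
  · have := key (M * A) (by simp only [Units.val_mul]; rw [a]; simp only [Matrix.mul_assoc]; rw [a])
      (by
        simp only [Units.val_mul]
        rw [Matrix.mul_assoc, eAB, Matrix.mul_neg, ← Matrix.mul_assoc, b, Matrix.neg_mul, neg_neg,
          Matrix.mul_assoc])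
    rw [map_mul, mul_eq_one_iff_eq_inv] at this
    rw [this]; exact inv_mem hmemA
  · have := key (M * B) (by
        simp only [Units.val_mul]
        rw [Matrix.mul_assoc, eBA, Matrix.mul_neg, ← Matrix.mul_assoc, a, Matrix.neg_mul, neg_neg,
          Matrix.mul_assoc])
      (by simp only [Units.val_mul]; rw [b]; simp only [Matrix.mul_assoc]; rw [b])
    rw [map_mul, mul_eq_one_iff_eq_inv] at this
    rw [this]; exact inv_mem hmemB
  · have := key (M * (A * B)) (by
        simp only [Units.val_mul]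
        rw [Matrix.mul_assoc, Matrix.mul_assoc (A : Matrix (Fin 2) (Fin 2) F), eBA, Matrix.mul_neg,
          Matrix.mul_neg, ← Matrix.mul_assoc, a, Matrix.neg_mul, neg_neg, Matrix.mul_assoc])
      (by
        simp only [Units.val_mul]
        rw [eAB, Matrix.mul_neg, Matrix.mul_neg, Matrix.neg_mul, Matrix.mul_assoc,
          Matrix.mul_assoc (B : Matrix (Fin 2) (Fin 2) F), eAB, Matrix.mul_neg, Matrix.mul_neg, neg_neg,
          ← Matrix.mul_assoc, b, Matrix.neg_mul]
        simp only [Matrix.mul_assoc])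
    rw [map_mul, mul_eq_one_iff_eq_inv] at this
    rw [this, map_mul]; exact inv_mem (mul_mem hmemA hmemB)

/-- Every four-group of `PSL(2, F)` has normalizer of order 24 in `PGL(2, F)`, and they are all conjugate there. -/
theorem pgl_facts (hodd : Odd (Fintype.card F)) (V : Subgroup PG) [IsKleinFour V] :
    Nat.card (Subgroup.normalizer ((V.map ιP : Subgroup PL) : Set PL)) = 24 ∧
      ∀ V' : Subgroup PG, IsKleinFour V' →
        ∃ x : PL, V'.map ιP = (V.map ιP).map (MulAut.conj x).toMonoidHom := by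
  classical
  haveI := isKleinFour_mapι V
  set W : Subgroup PL := V.map ιP with hW
  set N := Subgroup.normalizer (W : Set PL)
  have hcap := (KleinN.normalizer_cap W (centralizer_image hodd V)).1
  have horb := KleinN.card_orbit W
  haveI := PGLMax.special_normal (F := F) hodd
  have hin : ∀ x : PL, W.map (MulAut.conj x).toMonoidHom ≤ (PGLMax.special : Subgroup PL) := by
    rintro x _ ⟨w, ⟨v, -, rfl⟩, rfl⟩
    exact Subgroup.Normal.conj_mem (PGLMax.special_normal hodd) _ (PGLMax.toPGL_mem v) x
  have hback : ∀ x : PL, ((W.map (MulAut.conj x).toMonoidHom).comap ιP).map ιP =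
      W.map (MulAut.conj x).toMonoidHom := fun x => Subgroup.map_comap_eq_self (hin x)
  let Orb := {U : Subgroup PL // ∃ g : PL, U = W.map (MulAut.conj g).toMonoidHom}
  have hback' : ∀ U : Orb, (U.1.comap ιP).map ιP = U.1 := by
    rintro ⟨U, g, rfl⟩; exact hback g
  let f : Orb → {U : Subgroup PG // IsKleinFour U} := fun U => ⟨U.1.comap ιP, by
    haveI : IsKleinFour U.1 := by
      obtain ⟨g, hg⟩ := U.2
      exact isKleinFour_of_equiv ((MulEquiv.subgroupCongr hg).trans
        (W.equivMapOfInjective _ (MulAut.conj g).injective).symm)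
    exact isKleinFour_of_equiv (((U.1.comap ιP).equivMapOfInjective _
      ProjectiveSpecialLinearGroup.toPGL_injective).trans (MulEquiv.subgroupCongr (hback' U)))⟩
  have hf : Function.Injective f := fun U U' h => Subtype.ext (by
    rw [← hback' U, ← hback' U', show U.1.comap ιP = U'.1.comap ιP from congrArg Subtype.val h])
  have hS := PKlein.twelve_mul_card (F := F) (Classical.two_ne_zero_of_odd hodd)
  have hP : Nat.card PL = 2 * Nat.card PG := by
    rw [← (PGLMax.special : Subgroup PL).card_mul_index, PGLMax.card_special, PGLMax.special_index hodd, mul_comm]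
  have hle : Nat.card Orb ≤ Nat.card {U : Subgroup PG // IsKleinFour U} := Nat.card_le_card_of_injective f hf
  have hprod : Nat.card Orb * Nat.card N = 24 * Nat.card {U : Subgroup PG // IsKleinFour U} := by
    rw [horb, hP, ← hS]; ring
  have hN0 : 0 < Nat.card N := Nat.card_pos
  have hS0 : 0 < Nat.card {U : Subgroup PG // IsKleinFour U} :=
    Nat.card_pos_iff.2 ⟨⟨⟨V, inferInstance⟩⟩, inferInstance⟩
  have hN : Nat.card N = 24 := by
    refine le_antisymm hcap (Nat.le_of_mul_le_mul_left ?_ hS0)
    calc Nat.card {U : Subgroup PG // IsKleinFour U} * 24 = Nat.card Orb * Nat.card N := by rw [hprod, mul_comm]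
      _ ≤ _ := Nat.mul_le_mul_right _ hle
  refine ⟨hN, fun V' hV' => ?_⟩
  have heq : Nat.card Orb = Nat.card {U : Subgroup PG // IsKleinFour U} := by
    rw [hN, mul_comm] at hprod
    exact Nat.eq_of_mul_eq_mul_left (by norm_num) hprod
  obtain ⟨U, hU⟩ := ((Nat.bijective_iff_injective_and_card f).2 ⟨hf, heq⟩).2 ⟨V', hV'⟩
  obtain ⟨g, hg⟩ := U.2
  have hU' : U.1.comap ιP = V' := congrArg Subtype.val hU
  exact ⟨g, by rw [← hU', hback' U, hg]⟩

omit [Fintype F] in
theorem exists_klein_of_sym_four {A : Type*} [Group A] (e : A ≃* Equiv.Perm (Fin 4)) :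
    ∃ V : Subgroup A, V.Normal ∧ IsKleinFour V := by
  have h4 : Nat.card (Fin 4) = 4 := by simp
  have := alternatingGroup.kleinFour_isKleinFour h4
  have hn : (alternatingGroup.kleinFour (Fin 4)).Characteristic := by
    rw [alternatingGroup.kleinFour_eq_commutator h4]; infer_instance
  let V4 := (alternatingGroup.kleinFour (Fin 4)).map (alternatingGroup (Fin 4)).subtype
  have hV4 : V4.Normal := ConjAct.normal_of_characteristic_of_normal
  refine ⟨V4.map e.symm.toMonoidHom, hV4.map _ e.symm.surjective, ?_⟩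
  exact isKleinFour_of_equiv (((V4.equivMapOfInjective _ e.symm.injective).symm).trans
    ((alternatingGroup.kleinFour (Fin 4)).equivMapOfInjective _ Subtype.val_injective).symm)

/-- A subgroup isomorphic to `S₄` contains a four-group that it normalizes. -/
theorem exists_klein_le {A : Type*} [Group A] (X : Subgroup A) (e : Nonempty (X ≃* Equiv.Perm (Fin 4))) :
    ∃ V : Subgroup A, IsKleinFour V ∧ V ≤ X ∧ X ≤ Subgroup.normalizer (V : Set A) := by
  obtain ⟨e⟩ := e
  obtain ⟨V, hn, hk⟩ := exists_klein_of_sym_four e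
  refine ⟨V.map X.subtype, isKleinFour_of_equiv (V.equivMapOfInjective _ Subtype.val_injective).symm,
    Subgroup.map_subtype_le V, fun x hx => ?_⟩
  rw [Subgroup.mem_normalizer_iff]
  intro v
  constructor
  · rintro ⟨w, hw, rfl⟩
    exact ⟨⟨x, hx⟩ * w * ⟨x, hx⟩⁻¹, hn.conj_mem w hw _, rfl⟩
  · rintro ⟨w, hw, hwv⟩
    refine ⟨⟨x, hx⟩⁻¹ * w * ⟨x, hx⟩, ?_, ?_⟩
    · simpa using hn.conj_mem w hw ⟨x, hx⟩⁻¹
    · show x⁻¹ * (w : A) * x = v
      rw [show (w : A) = x * v * x⁻¹ from hwv]; group

/-- No proper subgroup of order more than 24 has 24 elements normalizing one of its four-groups. -/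
theorem eq_top_of_klein (hodd : Odd (Fintype.card F)) {H : Subgroup PG} (hH : IsCoatom H)
    (e : Nonempty (H ≃* Equiv.Perm (Fin 4))) (L : Subgroup PG) (V : Subgroup PG) [IsKleinFour V]
    (hN : 24 ≤ Nat.card ↥(L ⊓ Subgroup.normalizer (V : Set PG))) (hL : 24 < Nat.card L) : L = ⊤ := by
  classical
  obtain ⟨V0, hV0, -, hHN⟩ := exists_klein_le H e
  haveI := hV0
  obtain ⟨h24, htr⟩ := pgl_facts hodd V0
  obtain ⟨x, hx⟩ := htr V inferInstance
  obtain ⟨P0, rfl⟩ := ProjGenLinGroup.mk_surjective x
  obtain ⟨α, hα⟩ : ∃ α : PG ≃* PG, ∀ v, ιP (α v) = (ProjGenLinGroup.mk P0)⁻¹ * ιP v * ProjGenLinGroup.mk P0 :=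
    ⟨AutPSL.conjA P0⁻¹, fun v => by rw [PGLMax.toPGL_conjA, map_inv, inv_inv]⟩
  have hαV : ∀ v, v ∈ V ↔ α v ∈ V0 := fun v => by
    constructor
    · intro hv
      obtain ⟨w, hw, hwv⟩ : ιP v ∈ (V0.map ιP).map (MulAut.conj (ProjGenLinGroup.mk P0)).toMonoidHom :=
        hx ▸ Subgroup.mem_map_of_mem _ hv
      obtain ⟨u, hu, rfl⟩ := hw
      have : α v = u := ProjectiveSpecialLinearGroup.toPGL_injective (by
        rw [hα, ← hwv]; simp [mul_assoc])
      rwa [this]
    · intro hv
      have : ιP v ∈ V.map ιP := by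
        rw [hx]
        exact ⟨_, Subgroup.mem_map_of_mem _ hv, by rw [hα]; simp [mul_assoc]⟩
      obtain ⟨u, hu, hue⟩ := this
      rwa [← ProjectiveSpecialLinearGroup.toPGL_injective hue]
  have hsub : (L ⊓ Subgroup.normalizer (V : Set PG)).map α.toMonoidHom ≤ Subgroup.normalizer (V0 : Set PG) := by
    rintro _ ⟨n, hn, rfl⟩
    rw [Subgroup.mem_normalizer_iff]
    intro w
    obtain ⟨v, rfl⟩ := α.surjective w
    show α v ∈ V0 ↔ α n * α v * (α n)⁻¹ ∈ V0
    rw [← map_mul, ← map_inv, ← map_mul, ← hαV, ← hαV]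
    exact Subgroup.mem_normalizer_iff.1 hn.2 v
  have hcard0 : Nat.card (Subgroup.normalizer (V0 : Set PG)) ≤ 24 := by
    rw [← h24, ← Subgroup.card_map_of_injective (ProjectiveSpecialLinearGroup.toPGL_injective (n := Fin 2) (R := F))]
    exact Subgroup.card_le_of_le (Subgroup.le_normalizer_map ιP)
  have hHc : Nat.card H = 24 := by
    obtain ⟨e'⟩ := e
    rw [Nat.card_congr e'.toEquiv, Nat.card_perm, Nat.card_fin]; rfl
  have e1 : H = Subgroup.normalizer (V0 : Set PG) := Subgroup.eq_of_le_of_card_ge hHN (by omega)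
  have hcm : Nat.card ((L ⊓ Subgroup.normalizer (V : Set PG)).map α.toMonoidHom) =
      Nat.card ↥(L ⊓ Subgroup.normalizer (V : Set PG)) := Subgroup.card_map_of_injective α.injective
  have e2 : (L ⊓ Subgroup.normalizer (V : Set PG)).map α.toMonoidHom = Subgroup.normalizer (V0 : Set PG) :=
    Subgroup.eq_of_le_of_card_ge hsub (by omega)
  have hlt : H < L.map α.toMonoidHom := by
    refine lt_of_le_of_ne (by rw [e1, ← e2]; exact Subgroup.map_mono inf_le_left) fun h => ?_
    rw [h, Subgroup.card_map_of_injective α.injective] at hHc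
    omega
  have := hH.2 _ hlt
  exact Subgroup.map_injective (f := α.toMonoidHom) α.injective
    (this.trans (Subgroup.map_top_of_surjective _ α.surjective).symm)

end LinPrime

open LinPrime in
theorem card_prime_of_coatom_sym_four {F : Type*} [Field F] [Fintype F]
    (hq : Fintype.card F % 16 = 1 ∨ Fintype.card F % 16 = 15)
    (H : Subgroup (Matrix.ProjectiveSpecialLinearGroup (Fin 2) F)) (hH : IsCoatom H)
    (e : Nonempty (H ≃* Equiv.Perm (Fin 4))) : (Fintype.card F).Prime := by
  classical
  obtain ⟨p, hpF⟩ := CharP.exists F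
  obtain ⟨f, hp, hf⟩ := FiniteField.card F p
  obtain ⟨f, hf0⟩ := f
  simp only [PNat.mk_coe] at hf
  haveI : Fact p.Prime := ⟨hp⟩
  have hodd : Odd (Fintype.card F) := by rw [Nat.odd_iff]; omega
  have hpodd : Odd p := (Nat.odd_pow_iff (by omega)).1 (hf ▸ hodd)
  by_contra hnp
  have hf2 : 2 ≤ f := by
    by_contra h
    have : f = 1 := by omega
    subst this
    exact hnp (by rw [hf, pow_one]; exact hp)
  -- order comparison for a smaller field
  have hsmall : ∀ {k : ℕ}, 5 ≤ k → k ∣ Fintype.card F → k * k ≤ Fintype.card F →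
      2 * (k * (k ^ 2 - 1)) < Nat.card (Matrix.ProjGenLinGroup (Fin 2) F) := by
    intro k hk _ hkk
    rw [Classical.Dickson2.card_pgl_two]
    have h1 : k ^ 2 - 1 ≤ Fintype.card F ^ 2 - 1 := Nat.sub_le_sub_right (Nat.pow_le_pow_left (by nlinarith) 2) 1
    have h3 : 0 < Fintype.card F ^ 2 - 1 := by
      have : 1 < Fintype.card F ^ 2 := Nat.one_lt_pow (by norm_num) (by nlinarith)
      omega
    calc 2 * (k * (k ^ 2 - 1)) ≤ 2 * k * (Fintype.card F ^ 2 - 1) := by rw [← mul_assoc]; exact Nat.mul_le_mul_left _ h1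
      _ < Fintype.card F * (Fintype.card F ^ 2 - 1) := Nat.mul_lt_mul_of_pos_right (by nlinarith) h3
  rcases Nat.even_or_odd f with ⟨r, hr⟩ | hfodd
  · -- PGL(2, sqrt q)
    have hr0 : r ≠ 0 := by omega
    letI : Fintype (GaloisField p r) := Fintype.ofFinite _
    have hK : Fintype.card (GaloisField p r) = p ^ r := by
      rw [← Nat.card_eq_fintype_card, GaloisField.card p r hr0]
    have hKK : Fintype.card (GaloisField p r) ^ 2 = Fintype.card F := by
      rw [hK, hf, ← pow_mul, hr]; congr 1; omega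
    have hKodd : Odd (Fintype.card (GaloisField p r)) := by rw [hK]; exact hpodd.pow
    have hK5 : 5 ≤ Fintype.card (GaloisField p r) := by
      by_contra h
      have h3 : Fintype.card (GaloisField p r) = 3 := by
        have := Fintype.one_lt_card (α := GaloisField p r)
        obtain ⟨m, hm⟩ := hKodd
        omega
      rw [h3] at hKK
      omega
    obtain ⟨L, ⟨eL⟩⟩ := (Classical.SubfieldPSL.main (F := F) (K := GaloisField p r) rfl hodd 2 hKK).2.2
      even_two
    obtain ⟨U, hU⟩ := PKlein.exists_klein (F := GaloisField p r) (Classical.two_ne_zero_of_odd hKodd)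
    haveI := hU
    obtain ⟨h24, -⟩ := pgl_facts hKodd U
    let j : Matrix.ProjGenLinGroup (Fin 2) (GaloisField p r) →* Matrix.ProjectiveSpecialLinearGroup (Fin 2) F :=
      L.subtype.comp eL.symm.toMonoidHom
    have hj : Function.Injective j := Subtype.val_injective.comp eL.symm.injective
    let W := U.map ProjectiveSpecialLinearGroup.toPGL
    haveI := isKleinFour_mapι U
    haveI : IsKleinFour (W.map j) := isKleinFour_of_equiv (W.equivMapOfInjective j hj).symm
    have hjL : ∀ a, j a ∈ L := fun a => (eL.symm a).2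
    have hPc : Nat.card (Matrix.ProjGenLinGroup (Fin 2) (GaloisField p r)) = Nat.card L :=
      (Nat.card_congr eL.toEquiv).symm
    have hge : 24 ≤ Nat.card ↥(L ⊓ Subgroup.normalizer ((W.map j : Subgroup _) : Set _)) := by
      rw [← h24, ← Subgroup.card_map_of_injective hj]
      refine Subgroup.card_le_of_le (le_inf ?_ (Subgroup.le_normalizer_map j))
      rintro _ ⟨a, -, rfl⟩; exact hjL a
    have hLgt : 24 < Nat.card L := by
      rw [← hPc, Classical.Dickson2.card_pgl_two]
      have : 24 ≤ Fintype.card (GaloisField p r) ^ 2 - 1 := by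
        have := Nat.pow_le_pow_left hK5 2
        omega
      calc 24 < 5 * 24 := by norm_num
        _ ≤ _ := Nat.mul_le_mul hK5 this
    have htop := eq_top_of_klein hodd hH e L (W.map j) hge hLgt
    have hlt := hsmall hK5 (hKK ▸ dvd_pow_self _ two_ne_zero) (by rw [← hKK, sq])
    rw [← Classical.Dickson2.card_pgl_two, hPc, htop, Subgroup.card_top,
      ← (Classical.Dickson2.PGLMax.special : Subgroup (Matrix.ProjGenLinGroup (Fin 2) F)).card_mul_index,
      Classical.Dickson2.PGLMax.card_special, Classical.Dickson2.PGLMax.special_index hodd] at hlt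
    omega
  · -- PSL(2, p)
    have hp8 : p ^ 2 % 16 = 1 := by
      obtain ⟨m, hm⟩ := hfodd
      have hq8 : Fintype.card F % 8 = 1 ∨ Fintype.card F % 8 = 7 := by omega
      have hsq : p * p % 8 = 1 := by
        have h := Nat.odd_iff.1 hpodd
        have : ∀ a < 8, a % 2 = 1 → a * a % 8 = 1 := by decide
        rw [Nat.mul_mod]; exact this _ (Nat.mod_lt _ (by norm_num)) (by omega)
      have hpq : Fintype.card F % 8 = p % 8 := by
        rw [hf, hm, pow_succ, pow_mul, pow_two, Nat.mul_mod, Nat.pow_mod, hsq, one_pow]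
        simp
      have : ∀ a < 16, (a % 8 = 1 ∨ a % 8 = 7) → a * a % 16 = 1 := by decide
      rw [pow_two, Nat.mul_mod]
      exact this _ (Nat.mod_lt _ (by norm_num)) (by omega)
    have hp7 : 7 ≤ p := by
      by_contra h
      have h2 := hp.two_le
      interval_cases p <;> norm_num at hp8
    have hcK : Fintype.card (ZMod p) = p := ZMod.card p
    have hKF : Fintype.card (ZMod p) ^ f = Fintype.card F := by rw [hcK, hf]
    obtain ⟨L, ⟨eL⟩⟩ := (Classical.SubfieldPSL.main (F := F) (K := ZMod p) rfl hodd f hKF).1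
    obtain ⟨X, hX⟩ := (PKlein.sym_four_iff (F := ZMod p) hcK).2 hp8
    obtain ⟨U, hU, hUX, hXU⟩ := exists_klein_le X hX
    haveI := hU
    let j : Matrix.ProjectiveSpecialLinearGroup (Fin 2) (ZMod p) →* Matrix.ProjectiveSpecialLinearGroup (Fin 2) F :=
      L.subtype.comp eL.symm.toMonoidHom
    have hj : Function.Injective j := Subtype.val_injective.comp eL.symm.injective
    haveI : IsKleinFour (U.map j) := isKleinFour_of_equiv (U.equivMapOfInjective j hj).symm
    have hjL : ∀ a, j a ∈ L := fun a => (eL.symm a).2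
    have hPc : Nat.card (Matrix.ProjectiveSpecialLinearGroup (Fin 2) (ZMod p)) = Nat.card L :=
      (Nat.card_congr eL.toEquiv).symm
    have hge : 24 ≤ Nat.card ↥(L ⊓ Subgroup.normalizer ((U.map j : Subgroup _) : Set _)) := by
      have h24 : Nat.card X = 24 := by
        obtain ⟨eX⟩ := hX
        rw [Nat.card_congr eX.toEquiv, Nat.card_perm, Nat.card_fin]; rfl
      rw [← h24, ← Subgroup.card_map_of_injective hj]
      refine Subgroup.card_le_of_le (le_inf ?_ ((Subgroup.map_mono hXU).trans (Subgroup.le_normalizer_map j)))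
      rintro _ ⟨a, -, rfl⟩; exact hjL a
    have hpl : Nat.card (Matrix.ProjGenLinGroup (Fin 2) (ZMod p)) = 2 * Nat.card L := by
      rw [← (Classical.Dickson2.PGLMax.special : Subgroup (Matrix.ProjGenLinGroup (Fin 2) (ZMod p))).card_mul_index,
        Classical.Dickson2.PGLMax.card_special, Classical.Dickson2.PGLMax.special_index (by rw [hcK]; exact hpodd),
        hPc, mul_comm]
    have hLgt : 24 < Nat.card L := by
      have h := Classical.Dickson2.card_pgl_two (ZMod p)
      rw [hpl, hcK] at h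
      have h48 : 48 ≤ p ^ 2 - 1 := by
        have := Nat.pow_le_pow_left hp7 2
        omega
      have := Nat.mul_le_mul hp7 h48
      omega
    have htop := eq_top_of_klein hodd hH e L (U.map j) hge hLgt
    have hlt := hsmall (k := p) (by omega) (hf ▸ dvd_pow_self p (by omega))
      (by rw [hf, ← pow_two]; exact Nat.pow_le_pow_right hp.pos hf2)
    have h := Classical.Dickson2.card_pgl_two (ZMod p)
    rw [hpl, hcK, htop, Subgroup.card_top] at h
    rw [← (Classical.Dickson2.PGLMax.special : Subgroup (Matrix.ProjGenLinGroup (Fin 2) F)).card_mul_index,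
      Classical.Dickson2.PGLMax.card_special, Classical.Dickson2.PGLMax.special_index hodd] at hlt
    omega

end Cfsg.Agent.SubdegThree
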