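import Cfsg.Agent.S1602
import Cfsg.Agent.Compute.M11Involutions
import Cfsg.Agent.Compute.MathieuActions
import Cfsg.Agent.Compute.Quartets

/-!
`M11` has no maximal subgroup isomorphic to the symmetric group of degree four.
-/

set_option autoImplicit false
open scoped Pointwise

namespace Cfsg.Agent.SubdegThree

open Subgroup

set_option synthInstance.maxSize 2000

theorem gl23_involution_conj (A : Matrix (Fin 2) (Fin 2) (ZMod 3)) :
    A * A = 1 → A ≠ 1 → A ≠ -1 →
      ∃ B : Matrix (Fin 2) (Fin 2) (ZMod 3), B.det ≠ 0 ∧ B * A = !![1, 0; 0, -1] * B := by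
  revert A
  decide +kernel

theorem gl23_central_involution (Z : Matrix (Fin 2) (Fin 2) (ZMod 3)) :
    Z * Z = 1 → Z ≠ 1 → (∀ A : Matrix (Fin 2) (Fin 2) (ZMod 3), A.det ≠ 0 → Z * A = A * Z) →
      Z = -1 := by
  revert Z
  decide +kernel

local notation "GL3" => GL (Fin 2) (ZMod 3)

theorem gl23_pair {A Z : GL3} (hA : A * A = 1) (hA1 : A ≠ 1) (hAZ : A ≠ Z) (hZ : Z * Z = 1)
    (hZ1 : Z ≠ 1) (hZc : ∀ B : GL3, Z * B = B * Z) :
    ∃ (B : GL3) (d : GL3), (d : Matrix (Fin 2) (Fin 2) (ZMod 3)) = !![1, 0; 0, -1] ∧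
      B * A * B⁻¹ = d := by
  haveI : Fact (Nat.Prime 3) := ⟨Nat.prime_three⟩
  have hZm : (Z : Matrix (Fin 2) (Fin 2) (ZMod 3)) = -1 :=
    gl23_central_involution _ (by rw [← Units.val_mul, hZ, Units.val_one])
      (fun h => hZ1 (Units.ext h)) fun M hM =>
      congrArg Units.val (hZc (Matrix.GeneralLinearGroup.mkOfDetNeZero M hM))
  obtain ⟨M, hM, he⟩ := gl23_involution_conj (A : Matrix (Fin 2) (Fin 2) (ZMod 3))
    (by rw [← Units.val_mul, hA, Units.val_one]) (fun h => hA1 (Units.ext h))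
    (fun h => hAZ (Units.ext (h.trans hZm.symm)))
  refine ⟨Matrix.GeneralLinearGroup.mkOfDetNeZero M hM,
    Matrix.GeneralLinearGroup.mkOfDetNeZero !![1, 0; 0, -1] (by rw [Matrix.det_fin_two_of]; exact fun h => absurd h (by simp)), rfl, ?_⟩
  rw [mul_inv_eq_iff_eq_mul]
  exact Units.ext he

/-- Any two ordered pairs of commuting distinct involutions of `M11` are conjugate. -/
theorem m11_pairs_conj {z v z' v' : ↥Spor.M11} (hz : orderOf z = 2) (hv : orderOf v = 2)
    (hne : v ≠ z) (hc : v * z = z * v) (hz' : orderOf z' = 2) (hv' : orderOf v' = 2)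
    (hne' : v' ≠ z') (hc' : v' * z' = z' * v') :
    ∃ k : ↥Spor.M11, k * z * k⁻¹ = z' ∧ k * v * k⁻¹ = v' := by
  obtain ⟨t, ht, hcent, hconj⟩ := Compute.m11_involutions
  obtain ⟨Z, hZ⟩ : t ∈ Compute.glM11.range := hcent ▸ mem_centralizer_singleton_iff.2 rfl
  have hsq : ∀ {x : ↥Spor.M11}, orderOf x = 2 → x * x = 1 := fun {x} h => by
    rw [← pow_two, ← h, pow_orderOf_eq_one]
  have hne1 : ∀ {x : ↥Spor.M11}, orderOf x = 2 → x ≠ 1 := fun {x} h e => by
    rw [e, orderOf_one] at h; omega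
  obtain ⟨d, hd⟩ : ∃ d : GL3, (d : Matrix (Fin 2) (Fin 2) (ZMod 3)) = !![1, 0; 0, -1] :=
    ⟨⟨!![1, 0; 0, -1], !![1, 0; 0, -1], by decide +kernel, by decide +kernel⟩, rfl⟩
  -- every pair is conjugate to `(t, glM11 d)`
  suffices key : ∀ a b : ↥Spor.M11, orderOf a = 2 → orderOf b = 2 → b ≠ a → b * a = a * b →
      ∃ k, k * a * k⁻¹ = t ∧ k * b * k⁻¹ = Compute.glM11 d by
    obtain ⟨k, h1, h2⟩ := key z v hz hv hne hc
    obtain ⟨k', h1', h2'⟩ := key z' v' hz' hv' hne' hc'
    refine ⟨k'⁻¹ * k, ?_, ?_⟩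
    · calc k'⁻¹ * k * z * (k'⁻¹ * k)⁻¹ = k'⁻¹ * (k * z * k⁻¹) * k' := by group
        _ = k'⁻¹ * (k' * z' * k'⁻¹) * k' := by rw [h1, h1']
        _ = z' := by group
    · calc k'⁻¹ * k * v * (k'⁻¹ * k)⁻¹ = k'⁻¹ * (k * v * k⁻¹) * k' := by group
        _ = k'⁻¹ * (k' * v' * k'⁻¹) * k' := by rw [h2, h2']
        _ = v' := by group
  intro a b ha hb hba hcab
  obtain ⟨g, hg⟩ := isConj_iff.1 (hconj a ha).symm
  have hgc : (g * b * g⁻¹) * t = t * (g * b * g⁻¹) := by
    rw [← hg, show g * b * g⁻¹ * (g * a * g⁻¹) = g * (b * a) * g⁻¹ by group, hcab]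
    group
  obtain ⟨A, hA⟩ : g * b * g⁻¹ ∈ Compute.glM11.range :=
    hcent ▸ mem_centralizer_singleton_iff.2 hgc
  have hi := Compute.glM11_injective
  have hA2 : A * A = 1 := hi (by
    rw [map_mul, map_one, hA, show g * b * g⁻¹ * (g * b * g⁻¹) = g * (b * b) * g⁻¹ by group, hsq hb]
    group)
  have hA1 : A ≠ 1 := fun e => hne1 hb (by
    rw [e, map_one] at hA
    exact conj_eq_one_iff.1 hA.symm)
  have hAZ : A ≠ Z := fun e => hba (by
    rw [e, hZ, ← hg] at hA
    exact (MulAut.conj g).injective hA.symm)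
  have hZ2 : Z * Z = 1 := hi (by rw [map_mul, map_one, hZ, hsq ht])
  have hZ1 : Z ≠ 1 := fun e => hne1 ht (by rw [← hZ, e, map_one])
  have hZc : ∀ B : GL3, Z * B = B * Z := fun B => hi (by
    have hB : Compute.glM11 B ∈ centralizer ({t} : Set ↥Spor.M11) := hcent ▸ ⟨B, rfl⟩
    rw [map_mul, map_mul, hZ]
    exact (mem_centralizer_singleton_iff.1 hB).symm)
  obtain ⟨B, d', hd', hB⟩ := gl23_pair hA2 hA1 hAZ hZ2 hZ1 hZc
  have hdd : d' = d := Units.ext (hd'.trans hd.symm)
  refine ⟨Compute.glM11 B * g, ?_, ?_⟩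
  · calc Compute.glM11 B * g * a * (Compute.glM11 B * g)⁻¹
        = Compute.glM11 B * (g * a * g⁻¹) * (Compute.glM11 B)⁻¹ := by group
      _ = Compute.glM11 B * t * (Compute.glM11 B)⁻¹ := by rw [hg]
      _ = t := by rw [← hZ, ← map_mul, ← hZc, map_mul, mul_inv_cancel_right]
  · calc Compute.glM11 B * g * b * (Compute.glM11 B * g)⁻¹
        = Compute.glM11 B * (g * b * g⁻¹) * (Compute.glM11 B)⁻¹ := by group
      _ = Compute.glM11 d := by rw [← hA, ← map_inv, ← map_mul, ← map_mul, hB, hdd]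

/-- `M11` contains a symmetric group of degree five. -/
theorem m11_exists_sym_five : ∃ f : Equiv.Perm (Fin 5) →* ↥Spor.M11, Function.Injective f := by
  classical
  have hd := Compute.dodecad_root_mem
  set D := Compute.suppM Compute.cfgDodRoot with hD
  have h12 : D.card = 12 := by
    rw [hD, Compute.card_suppM]; decide +kernel
  obtain ⟨p, hp⟩ := Finset.card_pos.1 (by omega : 0 < D.card)
  obtain ⟨q, hq, q', hq', hqq'⟩ := Finset.one_lt_card.1 (show 1 < Dᶜ.card by
    rw [Finset.card_compl, h12, show Fintype.card GolayPt = 24 by decide +kernel]; norm_num)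
  rw [Finset.mem_compl] at hq hq'
  obtain ⟨e⟩ := S1602.result D hd p q q' hp hq hq' hqq'
  obtain ⟨e'⟩ := Compute.nonempty_stab_dodecad_point hd hp
  have hle := (inf_le_left : MulAction.stabilizer M24 D ⊓ MulAction.stabilizer M24 p ⊓
    MulAction.stabilizer M24 ({q, q'} : Finset GolayPt) ≤
      MulAction.stabilizer M24 D ⊓ MulAction.stabilizer M24 p)
  refine ⟨e'.toMonoidHom.comp ((inclusion hle).comp e.symm.toMonoidHom), ?_⟩
  exact e'.injective.comp ((inclusion_injective hle).comp e.symm.injective)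

theorem perm_four_facts' :
    let a : Equiv.Perm (Fin 4) := Equiv.swap 0 1 * Equiv.swap 2 3
    let b : Equiv.Perm (Fin 4) := Equiv.swap 0 2 * Equiv.swap 1 3
    a * a = 1 ∧ b * b = 1 ∧ a ≠ 1 ∧ b ≠ 1 ∧ b ≠ a ∧ b * a = a * b ∧
      (∀ g : Equiv.Perm (Fin 4), (g * a * g⁻¹ = a ∨ g * a * g⁻¹ = b ∨ g * a * g⁻¹ = a * b) ∧
        (g * b * g⁻¹ = a ∨ g * b * g⁻¹ = b ∨ g * b * g⁻¹ = a * b)) := by
  decide +kernel

theorem m11_excl {K : Type*} [Group K] [Finite K] (hM : Cfsg.Spor.IsoM11 K) (H : Subgroup K)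
    (hH : IsCoatom H) (hH4 : Nonempty (H ≃* Equiv.Perm (Fin 4))) : False := by
  obtain ⟨m⟩ := hM
  obtain ⟨e⟩ := hH4
  haveI := Compute.isSimpleGroup_m11
  -- transport to `M11`
  let E : Subgroup K ≃o Subgroup ↥Spor.M11 := m.mapSubgroup
  set L := H.map m.toMonoidHom with hL
  have hLc : IsCoatom L := (E.isCoatom_iff H).2 hH
  let φ : Equiv.Perm (Fin 4) →* ↥Spor.M11 :=
    (m.toMonoidHom.comp H.subtype).comp e.symm.toMonoidHom
  have hφ : Function.Injective φ := m.injective.comp (H.subtype_injective.comp e.symm.injective)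
  have hφr : φ.range = L := by
    rw [MonoidHom.range_comp, MonoidHom.range_eq_top.2 e.symm.surjective, ← MonoidHom.range_eq_map,
      MonoidHom.range_comp, H.range_subtype]
  obtain ⟨f, hf⟩ := m11_exists_sym_five
  let ι : Equiv.Perm (Fin 4) →* Equiv.Perm (Fin 5) :=
    Equiv.Perm.viaEmbeddingHom (Fin.castSuccEmb : Fin 4 ↪ Fin 5)
  have hι : Function.Injective ι := Equiv.Perm.viaEmbeddingHom_injective _
  set a : Equiv.Perm (Fin 4) := Equiv.swap 0 1 * Equiv.swap 2 3
  set b : Equiv.Perm (Fin 4) := Equiv.swap 0 2 * Equiv.swap 1 3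
  obtain ⟨haa, hbb, ha1, hb1, hba, hab, hnorm⟩ := perm_four_facts'
  have ho : ∀ {ψ : Equiv.Perm (Fin 4) →* ↥Spor.M11}, Function.Injective ψ →
      ∀ {x : Equiv.Perm (Fin 4)}, x * x = 1 → x ≠ 1 → orderOf (ψ x) = 2 := fun {ψ} hψ {x} h h1 => by
    rw [orderOf_injective _ hψ]
    exact orderOf_eq_prime (by rw [pow_two, h]) h1
  have hfi : Function.Injective (f.comp ι) := hf.comp hι
  obtain ⟨k, hka, hkb⟩ := m11_pairs_conj (ho hfi haa ha1) (ho hfi hbb hb1) (fun h => hba (hfi h))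
    (by rw [← map_mul, hab, map_mul]) (ho hφ haa ha1) (ho hφ hbb hb1) (fun h => hba (hφ h))
    (by rw [← map_mul, hab, map_mul])
  let g : Equiv.Perm (Fin 5) →* ↥Spor.M11 := (MulAut.conj k).toMonoidHom.comp f
  have hg : Function.Injective g := (MulAut.conj k).injective.comp hf
  let ψ : Equiv.Perm (Fin 4) →* ↥Spor.M11 := g.comp ι
  have hψa : ψ a = φ a := hka
  have hψb : ψ b = φ b := hkb
  set S : Set (Equiv.Perm (Fin 4)) := {a, b} with hS
  set V := closure S with hV
  haveI hVn : V.Normal := by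
    refine ⟨fun x hx y => ?_⟩
    have hle : V ≤ V.comap (MulAut.conj y).toMonoidHom := by
      rw [hV, closure_le]
      rintro z (rfl | rfl)
      · rcases (hnorm y).1 with h | h | h <;> rw [SetLike.mem_coe, mem_comap] <;>
          change y * a * y⁻¹ ∈ closure S <;> rw [h]
        exacts [subset_closure (Or.inl rfl), subset_closure (Or.inr rfl),
          mul_mem (subset_closure (Or.inl rfl)) (subset_closure (Or.inr rfl))]
      · rcases (hnorm y).2 with h | h | h <;> rw [SetLike.mem_coe, mem_comap] <;>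
          change y * b * y⁻¹ ∈ closure S <;> rw [h]
        exacts [subset_closure (Or.inl rfl), subset_closure (Or.inr rfl),
          mul_mem (subset_closure (Or.inl rfl)) (subset_closure (Or.inr rfl))]
    exact hle hx
  set W := V.map φ with hW
  have hWψ : V.map ψ = W := by
    rw [hW, hV, MonoidHom.map_closure, MonoidHom.map_closure, hS, Set.image_pair, Set.image_pair,
      hψa, hψb]
  have hWφ : φ.range ≤ normalizer (W : Set ↥Spor.M11) := by
    have h := le_normalizer_map (H := V) φ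
    rwa [normalizer_eq_top V, ← MonoidHom.range_eq_map] at h
  have hψN : ψ.range ≤ normalizer (W : Set ↥Spor.M11) := by
    have h := le_normalizer_map (H := V) ψ
    rwa [normalizer_eq_top V, ← MonoidHom.range_eq_map, hWψ] at h
  have hWne : W ≠ ⊥ := fun h => by
    have : φ a ∈ W := mem_map_of_mem _ (subset_closure (Or.inl rfl))
    rw [h, mem_bot] at this
    exact ha1 (hφ (this.trans φ.map_one.symm))
  have hWtop : W ≠ ⊤ := fun h => hLc.1 (top_le_iff.1 (by
    rw [← h, ← hφr]; exact map_le_range _ _))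
  have hN : normalizer (W : Set ↥Spor.M11) ≠ ⊤ := fun h => by
    haveI := normalizer_eq_top_iff.1 h
    rcases Subgroup.Normal.eq_bot_or_eq_top (inferInstance : W.Normal) with h' | h'
    · exact hWne h'
    · exact hWtop h'
  have hNL : normalizer (W : Set ↥Spor.M11) = L :=
    (hLc.le_iff_eq hN).1 (hφr ▸ hWφ)
  have hcard4 : Nat.card L = 24 := by
    rw [← hφr, ← Nat.card_congr (MonoidHom.ofInjective hφ).toEquiv, Nat.card_perm, Nat.card_fin]
    rfl
  have hψi : Function.Injective ψ := hg.comp hι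
  have hψL : ψ.range = L := by
    refine eq_of_le_of_card_ge (hNL ▸ hψN) ?_
    rw [hcard4, ← Nat.card_congr (MonoidHom.ofInjective hψi).toEquiv, Nat.card_perm, Nat.card_fin]
    rfl
  have h120 : Nat.card g.range = 120 := by
    rw [← Nat.card_congr (MonoidHom.ofInjective hg).toEquiv, Nat.card_perm, Nat.card_fin]
    rfl
  have hlt : L < g.range := by
    refine lt_of_le_of_ne (hψL ▸ (by rintro _ ⟨x, rfl⟩; exact ⟨ι x, rfl⟩ : ψ.range ≤ g.range)) fun h => ?_
    rw [h, h120] at hcard4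
    omega
  have htop := hLc.2 _ hlt
  rw [htop, card_top, Compute.card_m11] at h120
  omega

end Cfsg.Agent.SubdegThree
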