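import Cfsg.Agent.SubdegThree.Setup
import Cfsg.Agent.TwoTransfer.Basic

/-!
Transfer: fusion of the involutions and elements of order four outside a maximal subgroup of the
Sylow 2-subgroup.
-/

set_option autoImplicit false

namespace Cfsg.Agent.SubdegThree

open Subgroup

variable {K : Type*} [Group K] [Finite K]

theorem relIndex_zpowers {T : Sylow 2 K} {x : K} {n : ℕ} (hx : x ∈ (T : Subgroup K))
    (hxo : orderOf x = 2 ^ n) (hT : Nat.card (T : Subgroup K) = 2 ^ (n + 1)) :
    (zpowers x).relIndex (T : Subgroup K) = 2 := by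
  have h := ((zpowers x).subgroupOf (T : Subgroup K)).card_mul_index
  rw [Nat.card_congr (subgroupOfEquivOfLe (zpowers_le.2 hx)).toEquiv, Nat.card_zpowers, hxo, hT,
    pow_succ] at h
  exact Nat.eq_of_mul_eq_mul_left (Nat.two_pow_pos n) h

/-- An involution outside the cyclic maximal subgroup is fused to `z`. -/
theorem isConj_of_no_index_two (hidx : ∀ M : Subgroup K, M.index ≠ 2) {z v u x : K} {T : Sylow 2 K}
    {n : ℕ} (D : TData z v T x n) (hu : u ∈ (T : Subgroup K)) (hu2 : orderOf u = 2) :
    IsConj z u := by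
  by_contra hc
  refine (TwoTransfer.exists_index_two T (zpowers x)
    (relIndex_zpowers D.xT D.xo D.card) u hu (fun k g hk _ => ?_) fun g hg hgM => ?_).elim
      fun N hN => hidx N hN.2.1
  · obtain ⟨i, rfl⟩ : ∃ i, k = i + 1 := ⟨k - 1, by omega⟩
    rw [pow_succ', pow_mul, pow_two, mul_self_eq_one hu2, one_pow, mul_one, inv_mul_cancel]
    exact one_mem _
  · obtain ⟨i, hi⟩ := mem_zpowers_iff.1 hgM
    have hn := D.hn
    have ho : orderOf (g⁻¹ * u * g) = 2 := by
      have := orderOf_conj' g⁻¹ u
      rw [inv_inv, hu2] at this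
      exact this
    rcases zpow_eq_half (by omega) D.xo D.half (i := i) (hi ▸ mul_self_eq_one ho) with e | e
    · rw [hi] at e
      exact ne_one_of_order_two ho e
    · rw [hi] at e
      refine hc (IsConj.symm (isConj_iff.2 ⟨g⁻¹, ?_⟩))
      rw [inv_inv]
      exact e

end Cfsg.Agent.SubdegThree
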