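import Cfsg.Agent.SubdegThree.SDEnd.Chars
import Cfsg.Agent.SubdegThree.SDEnd.RepUse
import Cfsg.Agent.Invol.ZStar
import Cfsg.Agent.Core.PCore

/-!
# The semidihedral endgame: the odd kernel is trivial

An involution centraliser mapping onto GL(2,3) with odd kernel `W`, with a self-centralising fours
group: if `W` is not trivial then the centraliser of a nontrivial element of `W` lies in the
involution centraliser, and counting the conjugates of the involution modulo the order of `W` gives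
a contradiction.
-/

set_option autoImplicit false
open Cfsg

namespace Cfsg.Agent.SubdegThree.SDEnd

open Cfsg.Agent.InvolGL23

universe u

local notation "GL23" => Matrix.GeneralLinearGroup (Fin 2) (ZMod 3)

variable {K : Type u} [Group K] [Finite K] {z v h : K}
  {π : ↥(Subgroup.centralizer ({z} : Set K)) →* GL23}
  {V : Type*} [AddCommGroup V] [Module ℂ V] [FiniteDimensional ℂ V]

/-- The odd core of the centraliser of `a`, as a subgroup of `K`. -/
def oc (a : K) : Subgroup K :=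
  (oddCore ↥(Subgroup.centralizer ({a} : Set K))).map (Subgroup.centralizer ({a} : Set K)).subtype

theorem oc_comm {a o : K} (ho : o ∈ oc a) : Commute o a :=
  Subgroup.mem_centralizer_singleton_iff.1 (Subgroup.map_subtype_le _ ho)

theorem oc_odd (a : K) : Odd (Nat.card (oc a)) := by
  rw [oc, Subgroup.card_map_of_injective (Subgroup.subtype_injective _)]
  exact Nat.coprime_two_right.1 Core.coprime_card_pPrimeCore

theorem oc_conj {a g : K} (hg : ∀ x : K, Commute x a → Commute (g * x * g⁻¹) a) {o : K}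
    (ho : o ∈ oc a) : g * o * g⁻¹ ∈ oc a := by
  set H := Subgroup.centralizer ({a} : Set K) with hH
  have hgH : ∀ x ∈ H, g * x * g⁻¹ ∈ H := fun x hx =>
    Subgroup.mem_centralizer_singleton_iff.2 (hg x (Subgroup.mem_centralizer_singleton_iff.1 hx))
  let f : H →* H :=
    { toFun := fun x => ⟨g * x * g⁻¹, hgH x x.2⟩
      map_one' := Subtype.ext (by simp)
      map_mul' := fun x y => Subtype.ext (by simp only [Subgroup.coe_mul]; group) }
  have hf : Function.Bijective f :=
    Finite.injective_iff_bijective.1 fun x y e => Subtype.ext (conj_injective (congrArg Subtype.val e))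
  have : ((oddCore H).map f).Normal := (inferInstance : (oddCore H).Normal).map f hf.2
  have hle : (oddCore H).map f ≤ oddCore H :=
    Core.le_pPrimeCore (Core.coprime_card_pPrimeCore.coprime_dvd_left (Subgroup.card_map_dvd _ _))
  obtain ⟨x, hx, rfl⟩ := ho
  exact ⟨f x, hle ⟨x, hx, rfl⟩, rfl⟩

namespace Hyp

variable (H : Hyp z v h π)
include H

/-- An element of the centraliser commuting with a nontrivial element of `W` has determinant one. -/
theorem det_of_comm {w c : ↥(Subgroup.centralizer ({z} : Set K))} (hw : w ∈ π.ker) (hw1 : w ≠ 1)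
    (hc : Commute (c : K) (w : K)) : qdet (toQ (π c)) = 1 := by
  by_contra hd
  have h1 := H.conj_ker (c := c) hw
  rw [if_neg hd] at h1
  have h2 : c * w * c⁻¹ = w := Subtype.ext (by
    simp only [Subgroup.coe_mul, Subgroup.coe_inv]
    rw [hc.eq, mul_inv_cancel_right])
  rw [h2] at h1
  exact hw1 (H.eq_one hw (by nth_rewrite 1 [h1]; exact inv_mul_cancel w))

/-- The central involution is isolated in the centraliser of `w`. -/
theorem isolated {w : ↥(Subgroup.centralizer ({z} : Set K))} (hw : w ∈ π.ker) (hw1 : w ≠ 1)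
    {g : K} (hg : Commute g (w : K)) (hc : Commute z (g * z * g⁻¹)) : g * z * g⁻¹ = z := by
  set u : ↥(Subgroup.centralizer ({z} : Set K)) :=
    ⟨g * z * g⁻¹, Subgroup.mem_centralizer_singleton_iff.2 hc.symm⟩
  have hu2 : u * u = 1 := Subtype.ext (by
    show g * z * g⁻¹ * (g * z * g⁻¹) = 1
    rw [show g * z * g⁻¹ * (g * z * g⁻¹) = g * (z * z) * g⁻¹ by group, H.z_sq, mul_one, mul_inv_cancel])
  have hu1 : u ≠ 1 := fun e => H.z_ne (conj_eq_one_iff.1 (congrArg Subtype.val e))
  exact H.eq_z_of_det hu2 hu1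
    (H.det_of_comm hw hw1 ((hg.mul_left H.z_comm_ker).mul_left hg.inv_left))

/-- An element of determinant one carrying `v` to `z v`. -/
theorem exists_v_zv : ∃ g : ↥(Subgroup.centralizer ({z} : Set K)), qdet (toQ (π g)) = 1 ∧
    (g : K) * v * (g : K)⁻¹ = z * v := by
  obtain ⟨q, hq, hdet, hgq⟩ := refl_neg _ H.pi_v
  obtain ⟨q', rfl⟩ := toQ_surj hq
  obtain ⟨c, rfl⟩ := H.hsurj q'
  set zc : ↥(Subgroup.centralizer ({z} : Set K)) := ⟨z, z_mem⟩ with hzc
  set t : ↥(Subgroup.centralizer ({z} : Set K)) := ⟨v, H.v_mem⟩ with ht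
  have hk : (zc * t)⁻¹ * (c * t * c⁻¹) ∈ π.ker := by
    have e : π (c * t) = π (zc * t) * π c := toQ_injective (by
      simp only [map_mul, toQ_mul, hzc, H.pi_z]; exact hgq)
    rw [MonoidHom.mem_ker, map_mul _ (zc * t)⁻¹, map_mul _ (c * t), e, map_inv, map_inv]
    group
  obtain ⟨a, ha, ha'⟩ : ∃ a ∈ π.ker, c * t * c⁻¹ = zc * t * a := ⟨_, hk, (mul_inv_cancel_left _ _).symm⟩
  obtain ⟨b, hb, hbb⟩ := H.exists_sqrt ha
  refine ⟨b * c, ?_, ?_⟩
  · rw [map_mul, MonoidHom.mem_ker.1 hb, one_mul]; exact hdet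
  have hinv : t * b⁻¹ * t⁻¹ = b := by rw [H.v_inverts (inv_mem hb), inv_inv]
  have hbt : b * t = t * b⁻¹ := by
    conv_lhs => rw [← hinv]
    rw [inv_mul_cancel_right]
  have e : b * c * t * (b * c)⁻¹ = zc * t := by
    calc b * c * t * (b * c)⁻¹ = b * (c * t * c⁻¹) * b⁻¹ := by group
      _ = b * zc * t * (b * b) * b⁻¹ := by rw [ha', hbb]; group
      _ = zc * (b * t) * b := by rw [← show zc * b = b * zc from cz_central b]; group
      _ = zc * t := by rw [hbt]; group
  simpa using congrArg Subtype.val e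

variable {R : K →* Module.End ℂ V} {n : ℕ} (hR : SmallRep π R n)
include hR

/-- The odd core of the centraliser of `w` centralises `z`. -/
theorem oc_le {w : ↥(Subgroup.centralizer ({z} : Set K))} (hw : w ∈ π.ker) (hw1 : w ≠ 1)
    {o : K} (ho : o ∈ oc (w : K)) : Commute o z := by
  classical
  set O := oc (w : K) with hO
  have hzw : Commute z (w : K) := H.z_comm_ker
  have hzO : ∀ a ∈ O, z * a * z ∈ O := fun a ha => by
    have := oc_conj (g := z) (fun x hx => (hzw.mul_left hx).mul_left hzw.inv_left) ha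
    rwa [H.z_inv] at this
  have hz3 : ∀ a b : K, z * (a * b) * z = z * a * z * (z * b * z) := fun a b => by
    rw [show z * a * z * (z * b * z) = z * a * (z * z) * b * z by group, H.z_sq]; group
  have hzz : ∀ a : K, z * (z * a * z) * z = a := fun a => by
    rw [show z * (z * a * z) * z = z * z * a * (z * z) by group, H.z_sq, one_mul, mul_one]
  have hzinv : ∀ a : K, (z * a * z)⁻¹ = z * a⁻¹ * z := fun a => by
    rw [mul_inv_rev, mul_inv_rev, H.z_inv]; group
  have hzker : ∀ c : ↥(Subgroup.centralizer ({z} : Set K)), z * (c : K) * z = c := fun c => by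
    rw [← coe_comm c, mul_assoc, H.z_sq, mul_one]
  obtain ⟨m, hm⟩ := oc_odd (w : K)
  have hroot : ∀ a ∈ O, a ^ (2 * m + 1) = 1 := fun a ha => by
    have := congrArg Subtype.val (pow_card_eq_one' (x := (⟨a, ha⟩ : O)))
    simp only [Subgroup.coe_pow, Subgroup.coe_one] at this
    rwa [show Nat.card O = 2 * m + 1 from hm] at this
  have hzpow : ∀ (a : K) (j : ℕ), (z * a * z) ^ j = z * a ^ j * z := fun a j => by
    induction j with
    | zero => rw [pow_zero, pow_zero, mul_one, H.z_sq]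
    | succ j ih =>
      rw [pow_succ, ih, show z * a ^ j * z * (z * a * z) = z * a ^ j * (z * z) * a * z by group, H.z_sq,
        mul_one, pow_succ]
      group
  -- the part in the centraliser
  have hinter : O.subgroupOf (Subgroup.centralizer ({z} : Set K)) ≤ π.ker := by
    refine H.le_ker ((oc_odd (w : K)).of_dvd_nat
      (Subgroup.card_comap_dvd_of_injective _ _ (Subgroup.subtype_injective _))) fun c hc a ha => ?_
    have hcw : Commute (c : K) (w : K) := congrArg Subtype.val (H.comm_of_det hc hw)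
    exact oc_conj (g := (c : K)) (fun x hx => (hcw.mul_left hx).mul_left hcw.inv_left) ha
  have hdec : ∀ a ∈ O, ∃ c ∈ π.ker, ∃ s ∈ O, a = (c : K) * s ∧ z * s * z = s⁻¹ := by
    intro a ha
    set b := a⁻¹ * (z * a * z) with hb
    have hbO : b ∈ O := mul_mem (inv_mem ha) (hzO a ha)
    have hbi : z * b * z = b⁻¹ := by
      rw [hb, hz3, hzz, mul_inv_rev, inv_inv, hzinv]
    set s := b ^ (m + 1) with hs
    have hss : s * s = b := by
      rw [hs, ← pow_add, show m + 1 + (m + 1) = 2 * m + 1 + 1 by ring, pow_succ, hroot b hbO, one_mul]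
    have hsi : z * s * z = s⁻¹ := by
      rw [hs, ← inv_pow, ← hbi, hzpow]
    have hcz : z * (a * s) * z = a * s := by
      rw [hz3, hsi, show z * a * z = a * b by rw [hb, mul_inv_cancel_left], ← hss]; group
    have hcC : a * s ∈ Subgroup.centralizer ({z} : Set K) := by
      rw [Subgroup.mem_centralizer_singleton_iff]
      conv_lhs => rw [← hcz]
      rw [mul_assoc, H.z_sq, mul_one]
    refine ⟨⟨a * s, hcC⟩, hinter (show a * s ∈ O from mul_mem ha (pow_mem hbO _)), s⁻¹,
      inv_mem (pow_mem hbO _), (mul_inv_cancel_right _ _).symm, ?_⟩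
    rw [← hzinv, hsi]
  have hcomm : ∀ a ∈ O, ∀ c ∈ π.ker, Commute a ((c : ↥(Subgroup.centralizer ({z} : Set K))) : K) :=
    fun a ha c hc => H.cent hR hw hw1 (oc_comm ha) hc
  have htwist : ∀ a ∈ O, ∃ c ∈ π.ker, z * a * z = (c : K) * a⁻¹ := by
    intro a ha
    obtain ⟨c, hc, s, hs, rfl, hsi⟩ := hdec a ha
    refine ⟨c * c, mul_mem hc hc, ?_⟩
    rw [hz3, hzker, hsi, mul_inv_rev, Subgroup.coe_mul, ((hcomm s hs c hc).inv_left.inv_right).eq]
    group
  have habel : ∀ a ∈ O, ∀ b ∈ O, a * b = b * a := by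
    intro a ha b hb
    obtain ⟨c1, hc1, e1⟩ := htwist a ha
    obtain ⟨c2, hc2, e2⟩ := htwist b hb
    obtain ⟨c3, hc3, e3⟩ := htwist (a * b) (mul_mem ha hb)
    rw [hz3, e1, e2] at e3
    have hmove := ((hcomm a ha c2 hc2).inv_left).eq
    have h4 : a⁻¹ * b⁻¹ = (((c1 * c2)⁻¹ * c3 : ↥(Subgroup.centralizer ({z} : Set K))) : K) * b⁻¹ * a⁻¹ := by
      simp only [Subgroup.coe_mul, Subgroup.coe_inv]
      calc a⁻¹ * b⁻¹ = ((c1 : K) * (c2 : K))⁻¹ * ((c1 : K) * ((c2 : K) * a⁻¹) * b⁻¹) := by group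
        _ = ((c1 : K) * (c2 : K))⁻¹ * ((c1 : K) * a⁻¹ * ((c2 : K) * b⁻¹)) := by rw [← hmove]; group
        _ = _ := by rw [e3]; group
    have h5 := H.comm_eq_one hR hw hw1 (oc_comm (inv_mem ha)) (oc_comm (inv_mem hb))
      (mul_mem (inv_mem (mul_mem hc1 hc2)) hc3) h4
    rw [h5, Subgroup.coe_one, one_mul] at h4
    calc a * b = (b⁻¹ * a⁻¹)⁻¹ := by group
      _ = (a⁻¹ * b⁻¹)⁻¹ := by rw [h4]
      _ = b * a := by group
  let E : Subgroup K :=
    { carrier := {a | a ∈ O ∧ z * a * z = a⁻¹}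
      one_mem' := ⟨one_mem _, by rw [mul_one, H.z_sq, inv_one]⟩
      mul_mem' := fun {a b} ha hb => ⟨mul_mem ha.1 hb.1, by
        rw [hz3, ha.2, hb.2, mul_inv_rev, habel _ (inv_mem ha.1) _ (inv_mem hb.1)]⟩
      inv_mem' := fun {a} ha => ⟨inv_mem ha.1, by rw [← hzinv, ha.2]⟩ }
  suffices hE : ∀ a ∈ E, a = 1 by
    obtain ⟨c, hc, s, hs, rfl, hsi⟩ := hdec o ho
    rw [hE s ⟨hs, hsi⟩, mul_one]
    exact coe_comm c
  by_contra hne
  push Not at hne
  obtain ⟨e₀, he₀, he₀1⟩ := hne
  have hvO : ∀ a ∈ O, v * a * v⁻¹ ∈ O := fun a ha => oc_conj (g := v) (fun x hx => by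
    have hvw : v * (w : K) * v⁻¹ = (w : K)⁻¹ := congrArg Subtype.val (H.v_inverts hw)
    have h1 : Commute (v * x * v⁻¹) (v * (w : K) * v⁻¹) := hx.map (MulAut.conj v).toMonoidHom
    rw [hvw] at h1
    exact Commute.inv_right_iff.1 h1) ha
  have hvE : ∀ a ∈ E, v * a * v⁻¹ ∈ E := fun a ha => ⟨hvO a ha.1, by
    rw [show z * (v * a * v⁻¹) * z = z * v * a * (v⁻¹ * z) by group,
      show v⁻¹ * z = z * v⁻¹ from (show Commute v z from H.hvz).inv_left.eq, ← H.hvz,
      show v * z * a * (z * v⁻¹) = v * (z * a * z) * v⁻¹ by group, ha.2]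
    group⟩
  have hconjE : ∀ c : ↥(Subgroup.centralizer ({z} : Set K)), Commute (c : K) (w : K) →
      ∀ a ∈ E, (c : K) * a * (c : K)⁻¹ ∈ E := fun c hc a ha =>
    ⟨oc_conj (g := (c : K)) (fun x hx => (hc.mul_left hx).mul_left hc.inv_left) ha.1, by
      have e1 := hz3 ((c : K) * a) (c : K)⁻¹
      rw [hz3 (c : K) a, hzker, ha.2, ← hzinv, hzker] at e1
      rw [e1]; group⟩
  -- elements centralised by `v`
  have hB : Nat.card (E ⊓ Subgroup.centralizer ({v} : Set K) : Subgroup K) ∣ 3 := by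
    set B : Subgroup K := E ⊓ Subgroup.centralizer ({v} : Set K)
    have hin : ∀ b ∈ B, h⁻¹ * b * h ∈ Subgroup.centralizer ({z} : Set K) := fun b hb => by
      rw [Subgroup.mem_centralizer_singleton_iff]
      have hbv : b * v = v * b := Subgroup.mem_centralizer_singleton_iff.1 hb.2
      rw [← H.hh] at hbv
      calc h⁻¹ * b * h * z = h⁻¹ * (b * (h * z * h⁻¹)) * h := by group
        _ = z * (h⁻¹ * b * h) := by rw [hbv]; group
    let f : B →* GL23 :=
      { toFun := fun b => π ⟨h⁻¹ * b * h, hin b b.2⟩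
        map_one' := by rw [← map_one π]; congr 1; exact Subtype.ext (by simp)
        map_mul' := fun a b => by
          rw [← map_mul]; congr 1; exact Subtype.ext (by simp only [Subgroup.coe_mul]; group) }
    have hinj : Function.Injective f := (injective_iff_map_eq_one f).2 fun b hb => by
      have e : h * (h⁻¹ * (b : K) * h) * h⁻¹ = b := by group
      have h1 := H.htrick w hw hw1 ⟨h⁻¹ * b * h, hin b b.2⟩ (MonoidHom.mem_ker.2 hb) (by
        show h * (h⁻¹ * (b : K) * h) * h⁻¹ * (w : K) = (w : K) * (h * (h⁻¹ * (b : K) * h) * h⁻¹)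
        rw [e]; exact (oc_comm b.2.1.1).eq)
      refine Subtype.ext ?_
      rw [← e, show h⁻¹ * (b : K) * h = 1 from congrArg Subtype.val h1]
      simp
    have h48 := card_gl23 ▸ Subgroup.card_dvd_of_injective f hinj
    have hodd' : Odd (Nat.card B) := (oc_odd (w : K)).of_dvd_nat
      (Subgroup.card_dvd_of_le (show B ≤ O from fun b hb => hb.1.1))
    exact (Nat.Coprime.pow_right 4 (Nat.coprime_two_right.2 hodd')).dvd_of_dvd_mul_left
      (show Nat.card B ∣ 2 ^ 4 * 3 by norm_num; exact h48)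
  obtain ⟨g, hg, hgv⟩ := H.exists_v_zv
  have hgw : Commute (g : K) (w : K) := congrArg Subtype.val (H.comm_of_det hg hw)
  have hB' : Nat.card (E ⊓ Subgroup.centralizer ({z * v} : Set K) : Subgroup K) ∣ 3 := by
    refine (Subgroup.card_dvd_of_injective
      (({ toFun := fun b => ⟨(g : K)⁻¹ * (b : K) * (g : K), ?_⟩
          map_one' := Subtype.ext (by simp)
          map_mul' := fun a b => Subtype.ext (by simp only [Subgroup.coe_mul]; group) } :
        (E ⊓ Subgroup.centralizer ({z * v} : Set K) : Subgroup K) →*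
          (E ⊓ Subgroup.centralizer ({v} : Set K) : Subgroup K))) ?_).trans hB
    · refine ⟨?_, ?_⟩
      · have := hconjE g⁻¹ (by simpa using hgw.inv_left) b b.2.1
        simpa using this
      · have hb : (b : K) * (z * v) = z * v * b := Subgroup.mem_centralizer_singleton_iff.1 b.2.2
        have hb' : ∀ x : K, x * (z * v) = z * v * x →
            (g : K)⁻¹ * x * g * v = v * ((g : K)⁻¹ * x * g) := fun x hx => by
          rw [← hgv] at hx
          calc (g : K)⁻¹ * x * g * v = (g : K)⁻¹ * (x * (g * v * (g : K)⁻¹)) * g := by group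
            _ = v * ((g : K)⁻¹ * x * g) := by rw [hx]; group
        exact Subgroup.mem_centralizer_singleton_iff.2 (hb' _ hb)
    · intro a b hab
      exact Subtype.ext (mul_left_cancel (mul_right_cancel (congrArg Subtype.val hab)))
  set f₁ : K → K := fun a => a * (v * a * v⁻¹)
  set f₂ : K → K := fun a => a * (v * a * v⁻¹)⁻¹
  have hf₁ : ∀ a ∈ E, f₁ a ∈ (E ⊓ Subgroup.centralizer ({v} : Set K) : Subgroup K) := fun a ha => by
    refine ⟨mul_mem ha (hvE a ha), Subgroup.mem_centralizer_singleton_iff.2 ?_⟩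
    show a * (v * a * v⁻¹) * v = v * (a * (v * a * v⁻¹))
    refine (mul_inv_eq_iff_eq_mul.1 ?_).symm
    calc v * (a * (v * a * v⁻¹)) * v⁻¹ = v * a * v⁻¹ * ((v * v) * a * (v * v)⁻¹) := by group
      _ = a * (v * a * v⁻¹) := by
        rw [H.v_sq, inv_one, one_mul, mul_one, habel a ha.1 (v * a * v⁻¹) (hvO a ha.1)]
  have hf₂ : ∀ a ∈ E, f₂ a ∈ (E ⊓ Subgroup.centralizer ({z * v} : Set K) : Subgroup K) := fun a ha => by
    have hmem : f₂ a ∈ E := mul_mem ha (inv_mem (hvE a ha))
    refine ⟨hmem, Subgroup.mem_centralizer_singleton_iff.2 ?_⟩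
    show f₂ a * (z * v) = z * v * f₂ a
    have hvv : v⁻¹ = v := inv_eq_of_mul_eq_one_right H.v_sq
    have h1 : v * f₂ a * v⁻¹ = (f₂ a)⁻¹ := by
      show v * (a * (v * a * v⁻¹)⁻¹) * v⁻¹ = (a * (v * a * v⁻¹)⁻¹)⁻¹
      calc v * (a * (v * a * v⁻¹)⁻¹) * v⁻¹ = v * a * v⁻¹ * ((v * v) * a * (v * v)⁻¹)⁻¹ := by group
        _ = (a * (v * a * v⁻¹)⁻¹)⁻¹ := by rw [H.v_sq, inv_one, one_mul, mul_one]; group
    have h2 : z * (v * f₂ a * v⁻¹) * z = f₂ a := by rw [h1, ← hzinv, hmem.2, inv_inv]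
    calc f₂ a * (z * v) = z * (v * f₂ a * v⁻¹) * (z * z) * v := by
          conv_lhs => rw [← h2]
          group
      _ = z * v * f₂ a := by rw [H.z_sq]; group
  have hprod : ∀ a ∈ E, f₁ a * f₂ a = a * a := fun a ha => by
    show a * (v * a * v⁻¹) * (a * (v * a * v⁻¹)⁻¹) = a * a
    rw [habel a ha.1 (v * a * v⁻¹) (hvO a ha.1), mul_assoc, ← mul_assoc a a,
      habel (v * a * v⁻¹) (hvO a ha.1) _ (mul_mem (mul_mem ha.1 ha.1) (inv_mem (hvO a ha.1))),
      mul_assoc, inv_mul_cancel, mul_one]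
  have hsqinj : ∀ a ∈ E, ∀ b ∈ E, a * a = b * b → a = b := fun a ha b hb hab => by
    have e : ∀ x ∈ E, (x * x) ^ (m + 1) = x := fun x hx => by
      rw [← sq, ← pow_mul, show 2 * (m + 1) = 2 * m + 1 + 1 by ring, pow_succ, hroot x hx.1, one_mul]
    rw [← e a ha, ← e b hb, hab]
  have hE9 : Nat.card E ≤ 9 := by
    have h1 := Nat.card_le_card_of_injective
      (fun a : E => ((⟨f₁ a, hf₁ a a.2⟩ : (E ⊓ Subgroup.centralizer ({v} : Set K) : Subgroup K)),
        (⟨f₂ a, hf₂ a a.2⟩ : (E ⊓ Subgroup.centralizer ({z * v} : Set K) : Subgroup K))))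
      (fun a b hab => Subtype.ext (hsqinj a a.2 b b.2 (by
        simp only [Prod.mk.injEq] at hab
        have e1 : f₁ a = f₁ b := congrArg Subtype.val hab.1
        have e2 : f₂ a = f₂ b := congrArg Subtype.val hab.2
        rw [← hprod a a.2, ← hprod b b.2, e1, e2])))
    rw [Nat.card_prod] at h1
    exact h1.trans (Nat.mul_le_mul (Nat.le_of_dvd (by norm_num) hB) (Nat.le_of_dvd (by norm_num) hB'))
  have hexp : ∀ a ∈ E, a ^ 3 = 1 := fun a ha => by
    have hp : ∀ (S : Subgroup K), Nat.card S ∣ 3 → ∀ x ∈ S, x ^ 3 = 1 := fun S hS x hx =>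
      orderOf_dvd_iff_pow_eq_one.1 ((Subgroup.orderOf_dvd_natCard S hx).trans hS)
    have hc : Commute (f₁ a) (f₂ a) := habel _ (hf₁ a ha).1.1 _ (hf₂ a ha).1.1
    have h6 : (a * a) ^ 3 = 1 := by
      rw [← hprod a ha, hc.mul_pow, hp _ hB _ (hf₁ a ha), hp _ hB' _ (hf₂ a ha), one_mul]
    refine eq_one_of_odd (m := 2 * m + 1) ⟨m, rfl⟩ (hroot _ (pow_mem ha.1 3)) ?_
    rw [← (Commute.refl a).mul_pow, h6]
  -- the quaternion lifts act freely
  have hfree : ∀ x : ↥(Subgroup.centralizer ({z} : Set K)), toQ (π x) ∈ quat → toQ (π x) ≠ qone →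
      Commute (x : K) e₀ → False := by
    intro x hxq hx1 hxe
    obtain ⟨y, hy, hye⟩ : ∃ y : ↥(Subgroup.centralizer ({z} : Set K)),
        toQ (π y) = qneg ∧ Commute (y : K) e₀ := by
      rcases quat_pow _ hxq hx1 with h2 | h2
      · exact ⟨x ^ 2, by rw [map_pow, toQ_pow, h2], by rw [Subgroup.coe_pow]; exact hxe.pow_left 2⟩
      · exact ⟨x, h2, hxe⟩
    set zc : ↥(Subgroup.centralizer ({z} : Set K)) := ⟨z, z_mem⟩ with hzc
    have hk : zc * y ∈ π.ker := by
      rw [MonoidHom.mem_ker, map_mul, toQ_injective (hy.trans H.pi_z.symm), ← map_mul,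
        show zc * zc = 1 from Subtype.ext H.z_sq, map_one]
    have h1 : Commute (((zc * y : ↥(Subgroup.centralizer ({z} : Set K)))) : K) e₀ :=
      (hcomm e₀ he₀.1 _ hk).symm
    have h2 : Commute z e₀ := by
      have := h1.mul_left hye.inv_left
      rwa [Subgroup.coe_mul, show ((zc : K)) = z from rfl, mul_inv_cancel_right] at this
    have h3 := he₀.2
    rw [h2.eq, mul_assoc, H.z_sq, mul_one] at h3
    exact he₀1 (eq_one_of_odd (m := 2 * m + 1) ⟨m, rfl⟩ (hroot _ he₀.1) (by
      nth_rewrite 1 [h3]; exact inv_mul_cancel e₀))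
  have hlift : ∀ q : {q // q ∈ quat}, ∃ c : ↥(Subgroup.centralizer ({z} : Set K)), toQ (π c) = q := by
    intro q
    obtain ⟨a, ha⟩ := toQ_surj (syl_facts.1 (syl_facts.2.1 q.2))
    obtain ⟨c, rfl⟩ := H.hsurj a
    exact ⟨c, ha⟩
  choose L hL using hlift
  have hLw : ∀ q, Commute (L q : K) (w : K) := fun q =>
    congrArg Subtype.val (H.comm_of_det (by rw [hL]; exact quat_det _ q.2) hw)
  have : Fintype K := Fintype.ofFinite K
  set Φ : {q // q ∈ quat} → K := fun q => (L q : K) * e₀ * (L q : K)⁻¹ with hΦ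
  have hΦinj : Function.Injective Φ := by
    intro p q hpq
    by_contra hne
    obtain ⟨c, hc, hc1, hpc⟩ := quat_diff _ p.2 _ q.2 fun e => hne (Subtype.ext e)
    obtain ⟨c', rfl⟩ := toQ_surj (syl_facts.1 (syl_facts.2.1 hc))
    have himg : π ((L p)⁻¹ * L q) = c' := by
      rw [map_mul, map_inv, inv_mul_eq_iff_eq_mul]
      exact toQ_injective (by rw [toQ_mul, hL, hL, hpc])
    refine hfree ((L p)⁻¹ * L q) (by rw [himg]; exact hc) (by rw [himg]; exact hc1) ?_
    simp only [Subgroup.coe_mul, Subgroup.coe_inv]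
    have hpq' : (L p : K) * e₀ * (L p : K)⁻¹ = (L q : K) * e₀ * (L q : K)⁻¹ := hpq
    show (L p : K)⁻¹ * (L q : K) * e₀ = e₀ * ((L p : K)⁻¹ * (L q : K))
    calc (L p : K)⁻¹ * (L q : K) * e₀
        = (L p : K)⁻¹ * ((L q : K) * e₀ * (L q : K)⁻¹) * (L q : K) := by group
      _ = e₀ * ((L p : K)⁻¹ * (L q : K)) := by rw [← hpq']; group
  set S := (Finset.univ.filter fun a : K => a ∈ E).erase 1 with hS
  have hScard : S.card = Nat.card E - 1 := by
    rw [hS, Finset.card_erase_of_mem (by simp), Nat.card_eq_fintype_card, Fintype.card_subtype]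
  have hsub : (Finset.univ.image Φ) ⊆ S := by
    intro a ha
    obtain ⟨q, -, rfl⟩ := Finset.mem_image.1 ha
    exact Finset.mem_erase.2 ⟨fun e => he₀1 (conj_eq_one_iff.1 e),
      Finset.mem_filter.2 ⟨Finset.mem_univ _, hconjE _ (hLw q) _ he₀⟩⟩
  have hc8 : (Finset.univ.image Φ).card = 8 := by
    rw [Finset.card_image_of_injective _ hΦinj, Finset.card_univ, Fintype.card_coe, syl_facts.2.2.2.2.2.2.2.1]
  have hle := Finset.card_le_card hsub
  have hcard : Nat.card E = 9 := by omega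
  have hsurj : ∀ a ∈ E, a ≠ 1 → ∃ q, Φ q = a := fun a ha ha1 => by
    have : a ∈ Finset.univ.image Φ := by
      rw [Finset.eq_of_subset_of_card_le hsub (by omega)]
      exact Finset.mem_erase.2 ⟨ha1, Finset.mem_filter.2 ⟨Finset.mem_univ _, ha⟩⟩
    simpa using this
  refine H.no_nine hR hw hw1 E hcard hexp (fun a ha => ha.2) (fun a ha => oc_comm ha.1)
    fun a ha ha1 b hb hb1 => ?_
  obtain ⟨p, rfl⟩ := hsurj a ha ha1
  obtain ⟨q, rfl⟩ := hsurj b hb hb1
  exact ⟨(L q : K) * (L p : K)⁻¹, (hLw q).mul_left (hLw p).inv_left, by simp only [hΦ]; group⟩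

/-- The centraliser of a nontrivial element of `W` lies in the involution centraliser. -/
theorem centralizer_le {w : ↥(Subgroup.centralizer ({z} : Set K))} (hw : w ∈ π.ker) (hw1 : w ≠ 1)
    {g : K} (hg : Commute g (w : K)) : Commute g z := by
  set Hw := Subgroup.centralizer ({(w : K)} : Set K) with hHw
  set zH : Hw := ⟨z, Subgroup.mem_centralizer_singleton_iff.2 (H.z_comm_ker (a := w)).eq⟩ with hzH
  have hiso : Cfsg.IsIsolatedInvolution zH := by
    refine ⟨by rw [← Subgroup.orderOf_coe]; exact H.hz, fun a ha => Subtype.ext ?_⟩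
    exact H.isolated hw hw1 (Subgroup.mem_centralizer_singleton_iff.1 a.2) (ha.map Hw.subtype)
  set gH : Hw := ⟨g, Subgroup.mem_centralizer_singleton_iff.2 hg⟩
  have ho : z * g * z⁻¹ * g⁻¹ ∈ oc (w : K) := ⟨_, Invol.zstar hiso gH, rfl⟩
  have h1 := H.oc_le hR hw hw1 ho
  have h2 : Commute z (g * z * g⁻¹) := by
    have h3 : g * z * g⁻¹ = z * (z * g * z⁻¹ * g⁻¹) := by
      rw [H.z_inv, ← mul_assoc, ← mul_assoc, ← mul_assoc, H.z_sq, one_mul]
    rw [h3]
    exact (Commute.refl z).mul_right h1.symm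
  exact mul_inv_eq_iff_eq_mul.1 (H.isolated hw hw1 hg h2)

/-- The order of `W` divides the number of conjugates of `z` less one. -/
theorem dvd_index {w₀ : ↥(Subgroup.centralizer ({z} : Set K))} (hw₀ : w₀ ∈ π.ker) (hw₀1 : w₀ ≠ 1) :
    Nat.card π.ker ∣ (Subgroup.centralizer ({z} : Set K)).index - 1 := by
  classical
  set W := π.ker.map (Subgroup.centralizer ({z} : Set K)).subtype with hW
  have : Fintype W := Fintype.ofFinite W
  have : Fintype (K ⧸ Subgroup.centralizer ({z} : Set K)) := Fintype.ofFinite _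
  have hfix : ∀ a : W, a ≠ 1 → ∀ x : K ⧸ Subgroup.centralizer ({z} : Set K), a • x = x ↔ x = ((1 : K) : K ⧸ Subgroup.centralizer ({z} : Set K)) := by
    intro a ha x
    obtain ⟨c, hc, hca⟩ := a.2
    have hc1 : c ≠ 1 := fun e => ha (Subtype.ext (by rw [← hca, e]; rfl))
    constructor
    · induction x using QuotientGroup.induction_on with
      | H k =>
        intro hx
        have hk' : ((a : K) * k)⁻¹ * k ∈ Subgroup.centralizer ({z} : Set K) := QuotientGroup.eq.1 hx
        have hkz := Subgroup.mem_centralizer_singleton_iff.1 hk'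
        have hu : Commute (k * z * k⁻¹) (c : K) := by
          rw [show (c : K) = a from hca]
          refine Commute.inv_right_iff.1 ?_
          show k * z * k⁻¹ * (a : K)⁻¹ = (a : K)⁻¹ * (k * z * k⁻¹)
          calc k * z * k⁻¹ * (a : K)⁻¹ = k * (z * (((a : K) * k)⁻¹ * k)) * k⁻¹ := by group
            _ = (a : K)⁻¹ * (k * z * k⁻¹) := by rw [← hkz]; group
        have h1 := H.centralizer_le hR hc hc1 hu
        set u : ↥(Subgroup.centralizer ({z} : Set K)) := ⟨k * z * k⁻¹, Subgroup.mem_centralizer_singleton_iff.2 h1⟩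
        have hu2 : u * u = 1 := Subtype.ext (by
          show k * z * k⁻¹ * (k * z * k⁻¹) = 1
          rw [show k * z * k⁻¹ * (k * z * k⁻¹) = k * (z * z) * k⁻¹ by group, H.z_sq, mul_one, mul_inv_cancel])
        have hu1 : u ≠ 1 := fun e => H.z_ne (conj_eq_one_iff.1 (congrArg Subtype.val e))
        have h3 : k * z = z * k := mul_inv_eq_iff_eq_mul.1 (H.eq_z_of_det hu2 hu1 (H.det_of_comm hc hc1 hu))
        rw [QuotientGroup.eq, mul_one]
        exact inv_mem (Subgroup.mem_centralizer_singleton_iff.2 h3)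
    · rintro rfl
      show (((a : K) * 1 : K) : K ⧸ Subgroup.centralizer ({z} : Set K)) = ((1 : K) : K ⧸ Subgroup.centralizer ({z} : Set K))
      rw [QuotientGroup.eq, mul_one, mul_one]
      exact inv_mem (by rw [← hca]; exact c.2)
  have hsum := MulAction.sum_card_fixedBy_eq_card_orbits_mul_card_group W (K ⧸ Subgroup.centralizer ({z} : Set K))
  rw [← Finset.add_sum_erase _ _ (Finset.mem_univ (1 : W)),
    Finset.sum_congr rfl (g := fun _ => 1) (fun a ha => by
      rw [Fintype.card_eq_one_iff]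
      refine ⟨⟨((1 : K) : K ⧸ Subgroup.centralizer ({z} : Set K)), (hfix a (Finset.ne_of_mem_erase ha) _).2 rfl⟩, fun x =>
        Subtype.ext ((hfix a (Finset.ne_of_mem_erase ha) x.1).1 x.2)⟩),
    Finset.sum_const, Finset.card_erase_of_mem (Finset.mem_univ _), Finset.card_univ, smul_eq_mul, mul_one] at hsum
  have h1 : Fintype.card (MulAction.fixedBy (K ⧸ Subgroup.centralizer ({z} : Set K)) (1 : W)) = (Subgroup.centralizer ({z} : Set K)).index := by
    rw [Subgroup.index, Nat.card_eq_fintype_card]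
    exact Fintype.card_congr (Equiv.subtypeUnivEquiv fun x => one_smul W x)
  have hWc : Nat.card π.ker = Fintype.card W := by
    rw [← Nat.card_eq_fintype_card, hW, Subgroup.card_map_of_injective (Subgroup.centralizer ({z} : Set K)).subtype_injective]
  have hpos : 0 < Fintype.card W := Fintype.card_pos
  have hpos' : 0 < (Subgroup.centralizer ({z} : Set K)).index := Nat.pos_of_ne_zero Subgroup.index_ne_zero_of_finite
  rw [h1] at hsum
  rw [hWc]
  obtain ⟨q, hq⟩ : ∃ q, (Subgroup.centralizer ({z} : Set K)).index + (Fintype.card W - 1) = q * Fintype.card W :=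
    ⟨_, hsum⟩
  have hdvd : Fintype.card W ∣ (Subgroup.centralizer ({z} : Set K)).index - 1 + Fintype.card W :=
    ⟨q, by rw [mul_comm]; omega⟩
  exact (Nat.dvd_add_left dvd_rfl).1 hdvd

end Hyp

end Cfsg.Agent.SubdegThree.SDEnd

namespace Cfsg.Agent.SubdegThree

open Cfsg.Agent.InvolGL23 SDEnd

universe u

set_option linter.unusedVariables false in
/-- The semidihedral endgame. -/
theorem sdEnd {K : Type*} [Group K] [Finite K] (z v h : K) (hz : orderOf z = 2)
    (π : ↥(Subgroup.centralizer ({z} : Set K)) →* Matrix.GeneralLinearGroup (Fin 2) (ZMod 3))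
    (hsurj : Function.Surjective π) (hodd : Odd (Nat.card π.ker))
    (hv : orderOf v = 2) (hvz : v * z = z * v) (hne : v ≠ z)
    (hh : h * z * h⁻¹ = v)
    (hCV : Subgroup.centralizer ({z, v} : Set K) = Subgroup.closure ({z, v} : Set K))
    (hidx : ∀ M : Subgroup K, M.index ≠ 2)
    (hnorm : ∀ N : Subgroup K, N.Normal → N ≠ ⊥ → z ∈ N)
    (htrick : ∀ w ∈ π.ker, w ≠ 1 → ∀ b ∈ π.ker,
      h * (b : K) * h⁻¹ * (w : K) = (w : K) * (h * (b : K) * h⁻¹) → b = 1) :
    π.ker = ⊥ := by
  classical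
  have : Fintype K := Fintype.ofFinite K
  have H : Hyp z v h π := ⟨hz, hsurj, hodd, hv, hvz, hne, hh, hCV, hnorm, htrick⟩
  by_contra hW
  obtain ⟨w, hw, hw1⟩ := (Subgroup.ne_bot_iff_exists_ne_one.1 hW) |> fun ⟨⟨w, hw⟩, h1⟩ =>
    (⟨w, hw, fun e => h1 (Subtype.ext e)⟩ : ∃ w, w ∈ π.ker ∧ w ≠ 1)
  obtain ⟨n, χ, hdeg, hn, hval⟩ := H.exists_char
  obtain ⟨d, ρ, -, hρ⟩ := χ.2
  have hdim : Module.finrank ℂ (Fin d → ℂ) = n := by
    rw [← hρ, Representation.char_one] at hdeg
    exact_mod_cast hdeg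
  have hn' : 8 < n ∧ n ≤ 12 := by rcases hn with ⟨rfl, -⟩ | ⟨rfl, -⟩ <;> norm_num
  have htr : ∀ a ∈ π.ker, LinearMap.trace ℂ (Fin d → ℂ) (ρ (z * (a : K))) = ((n - 8 : ℕ) : ℂ) :=
    fun a ha => by rw [← hval a ha, ← hρ]; rfl
  have hinj : Function.Injective ρ := by
    refine (MonoidHom.ker_eq_bot_iff ρ).1 ?_
    by_contra hne'
    have hz1 : ρ z = 1 := hnorm _ inferInstance hne'
    have := htr 1 (one_mem _)
    rw [Subgroup.coe_one, mul_one, hz1, LinearMap.trace_one, hdim] at this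
    have : n = n - 8 := by exact_mod_cast this
    omega
  have hR : SmallRep π ρ n := ⟨hinj, hdim, hn'.2, hn'.1.le, htr⟩
  have hdvd := H.dvd_index hR hw hw1
  have hC := (Subgroup.centralizer ({z} : Set K)).card_mul_index
  rw [H.card_C] at hC
  have hgt : 1 < Nat.card π.ker := by
    refine (Nat.one_lt_iff_ne_zero_and_ne_one).2 ⟨Nat.card_pos.ne', fun e => hW ?_⟩
    exact Subgroup.card_eq_one.1 e
  have hmul : Nat.card π.ker ∣ (Subgroup.centralizer ({z} : Set K)).index := by
    rcases hn with ⟨-, hN⟩ | ⟨-, hN⟩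
    · refine ⟨117 * Nat.card π.ker, Nat.eq_of_mul_eq_mul_left (by positivity : 0 < 48 * Nat.card π.ker) ?_⟩
      rw [hC, hN]; ring
    · refine ⟨165 * Nat.card π.ker, Nat.eq_of_mul_eq_mul_left (by positivity : 0 < 48 * Nat.card π.ker) ?_⟩
      rw [hC, hN]; ring
  have hpos : 1 ≤ (Subgroup.centralizer ({z} : Set K)).index :=
    Nat.pos_of_ne_zero Subgroup.index_ne_zero_of_finite
  have h1 : Nat.card π.ker ∣ 1 := by
    have := Nat.dvd_sub hmul hdvd
    rwa [Nat.sub_sub_self hpos] at this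
  have := Nat.le_of_dvd one_pos h1
  omega

end Cfsg.Agent.SubdegThree
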