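import Cfsg.Agent.SubdegThree.SDQuot
import Cfsg.Agent.SubdegThree.SDEnd
import Cfsg.Agent.SubdegThree.Fusion
import Cfsg.Agent.S2916
import Cfsg.Agent.Classical.SmallSimple

/-!
The semidihedral case gives `PSL(3,3)` or `M₁₁`.
-/

set_option autoImplicit false

namespace Cfsg.Agent.SubdegThree

open Subgroup

variable {K : Type*} [Group K] [Finite K] {z v h x : K} {T : Sylow 2 K} {n : ℕ}

theorem semidihedral (B : Base z v h) (D : TData z v T x n) (hsd : v * x * v⁻¹ = x⁻¹ * z)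
    (hidx : ∀ M : Subgroup K, M.index ≠ 2)
    (hodd : ∀ N : Subgroup K, N.Normal → Odd (Nat.card N) → N = ⊥) (htrick : Trick z v h) :
    Nonempty (K ≃* Matrix.ProjectiveSpecialLinearGroup (Fin 3) (ZMod 3)) ∨ Cfsg.Spor.IsoM11 K := by
  classical
  have : Fact (Nat.Prime 2) := ⟨Nat.prime_two⟩
  have : Fact (Nat.Prime 3) := ⟨Nat.prime_three⟩
  have hn := D.hn
  obtain ⟨e⟩ := sd_quot B D hsd hidx
  set C := centralizer ({z} : Set K) with hC
  set π : C →* GL (Fin 2) (ZMod 3) := e.toMonoidHom.comp (QuotientGroup.mk' (Cfsg.oddCore ↥C)) with hπ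
  have hker : π.ker = Cfsg.oddCore ↥C := by
    ext c
    rw [MonoidHom.mem_ker, hπ, MonoidHom.comp_apply, MulEquiv.coe_toMonoidHom,
      MulEquiv.map_eq_one_iff, QuotientGroup.mk'_apply, QuotientGroup.eq_one_iff]
  have hW : ∀ c : C, c ∈ π.ker → (c : K) ∈ Wc z := fun c hc => ⟨c, hker ▸ hc, rfl⟩
  have hoddk : Odd (Nat.card π.ker) := by
    rw [hker]; exact Nat.coprime_two_right.1 (Core.coprime_card_pPrimeCore (p := 2))
  have hCV : centralizer ({z, v} : Set K) = closure ({z, v} : Set K) := by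
    refine le_antisymm (fun y hy => ?_) ((closure_le _).2 ?_)
    · have hy' := mem_centralizer_iff.1 hy
      rcases B.cent y (hy' z (Or.inl rfl)).symm (hy' v (Or.inr rfl)).symm with e1 | e1 | e1 | e1 <;> rw [e1]
      exacts [one_mem _, subset_closure (Or.inl rfl), subset_closure (Or.inr rfl),
        mul_mem (subset_closure (Or.inl rfl)) (subset_closure (Or.inr rfl))]
    · rintro y (rfl | rfl) <;> rw [SetLike.mem_coe, mem_centralizer_iff] <;>
        rintro w (rfl | rfl) <;> first | rfl | exact B.comm | exact B.comm.symm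
  have hvx : ¬ Commute x v := by
    intro hc
    rw [hc.symm.eq, mul_inv_cancel_right] at hsd
    have h2 : x ^ 2 = z := by rw [pow_two]; nth_rewrite 2 [hsd]; rw [mul_inv_cancel_left]
    have h4 := orderOf_dvd_of_pow_eq_one (x := x) (n := 4)
      (by rw [show 4 = 2 * 2 from rfl, pow_mul, h2, pow_two, B.zz])
    rw [D.xo] at h4
    have := Nat.le_of_dvd (by norm_num) h4
    have : 2 ^ 3 ≤ 2 ^ n := Nat.pow_le_pow_right two_pos hn
    omega
  have hnorm : ∀ N : Subgroup K, N.Normal → N ≠ ⊥ → z ∈ N := by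
    intro N hN hne
    refine B.z_mem_normal D hvx N ?_
    by_contra h2
    exact hne (hodd N hN (Nat.odd_iff.2 (by omega)))
  have htr : ∀ w ∈ π.ker, w ≠ 1 → ∀ b ∈ π.ker,
      h * (b : K) * h⁻¹ * (w : K) = (w : K) * (h * (b : K) * h⁻¹) → b = 1 := by
    intro w hw hw1 b hb hc
    have hrz : Commute (x ^ (2 ^ (n - 2))) z := D.xz.pow_left _
    have hrv : x ^ (2 ^ (n - 2)) * v * (x ^ (2 ^ (n - 2)))⁻¹ = z * v := by
      refine B.quarter_conj D (sd_x_even D hsd) (o := ((2 ^ (n - 2) : ℕ) : ℤ) - 1) ?_ ?_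
      · refine Int.odd_iff.2 ?_
        obtain ⟨m, hm⟩ : ∃ m, n - 2 = m + 1 := ⟨n - 3, by omega⟩
        rw [hm, pow_succ]
        push_cast
        omega
      · rw [show n - 1 = (n - 2) + 1 by omega, pow_succ]
        push_cast
        ring
    refine Subtype.ext (B.trick_apply htrick hrz hrv (fun w' hw' => (sd_comm_Wc B D hsd hidx hw').1)
      (Y := zpowers (w : K)) (zpowers_le.2 (hW w hw)) (fun e1 => hw1 (Subtype.ext ?_)) (hW b hb)
      fun y hy => ?_)
    · exact zpowers_eq_bot.1 e1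
    · obtain ⟨i, rfl⟩ := mem_zpowers_iff.1 hy
      exact (show Commute (h * (b : K) * h⁻¹) (w : K) from hc).zpow_right i
  have hsurj : Function.Surjective π := e.surjective.comp (QuotientGroup.mk'_surjective _)
  have hbot := sdEnd z v h B.hz π hsurj hoddk B.hv B.comm B.ne B.hh hCV hidx hnorm htr
  have hiso : Nonempty (C ≃* GL (Fin 2) (ZMod 3)) :=
    ⟨MulEquiv.ofBijective π ⟨(MonoidHom.ker_eq_bot_iff π).1 hbot, hsurj⟩⟩
  rcases S2916.result (pResidual_eq_top hidx) z B.hz hiso with ⟨F, iF, iT, hF, ⟨e'⟩⟩ | h11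
  · left
    obtain ⟨ψ⟩ := Classical.Small.psl_congr (n := 3)
      (FiniteField.ringEquivOfCardEq (K := F) (K' := ZMod 3) (hF.trans (ZMod.card 3).symm))
    exact ⟨e'.trans ψ⟩
  · exact Or.inr h11

end Cfsg.Agent.SubdegThree
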