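import Cfsg.Agent.SubdegThree.Transport
import Cfsg.Agent.SubdegThree.DihedralPSL
import Cfsg.Agent.SubdegThree.SD
import Cfsg.Agent.SubdegThree.LinPrime
import Cfsg.Agent.SubdegThree.M11Excl
import Cfsg.Agent.OrderType.Count

/-!
The case of a point stabiliser isomorphic to the symmetric group of degree four.
-/

set_option autoImplicit false

namespace Cfsg.Agent.SubdegThree

open Subgroup

variable {G : Type*} [Group G] [Finite G]

theorem symFour (hns : ¬ Group.IsSolvable G) (H : Subgroup G) (hH : IsCoatom H)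
    (hcore : ∀ N : Subgroup G, N.Normal → Group.IsSolvable N → N = ⊥) (g : G) (hg : g ∉ H)
    (hD : Nat.card (H ⊓ H.map (MulAut.conj g).toMonoidHom : Subgroup G) = 8)
    (e : H ≃* Equiv.Perm (Fin 4)) :
    (∃ p : ℕ, p.Prime ∧ (p % 16 = 1 ∨ p % 16 = 15) ∧
      Nonempty (G ≃* Matrix.ProjectiveSpecialLinearGroup (Fin 2) (ZMod p))) ∨
      Nonempty (G ≃* Matrix.ProjectiveSpecialLinearGroup (Fin 3) (ZMod 3)) := by
  classical
  have : Fact (Nat.Prime 2) := ⟨Nat.prime_two⟩
  set ι : P4.S4 →* G := H.subtype.comp e.symm.toMonoidHom with hιdef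
  have hι : Function.Injective ι := H.subtype_injective.comp e.symm.injective
  have hιH : ∀ k, ι k ∈ H := fun k => (e.symm k).2
  have hsurj : ∀ y ∈ H, ∃ k, ι k = y := fun y hy =>
    ⟨e ⟨y, hy⟩, congrArg Subtype.val (e.symm_apply_apply ⟨y, hy⟩)⟩
  set V := fourOf ι with hVdef
  have hVH : V ≤ H := by
    intro y hy
    obtain ⟨a, -, rfl⟩ := mem_fourOf hy
    exact hιH a
  have hHN : H ≤ normalizer (V : Set G) := by
    intro y hy
    obtain ⟨k, rfl⟩ := hsurj y hy
    exact mem_normalizer_of_conj (normalizes_fourOf ι k)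
  have hNV : normalizer (V : Set G) = H := by
    rcases eq_or_lt_of_le hHN with e1 | e1
    · exact e1.symm
    · exfalso
      have hn : V.Normal := normalizer_eq_top_iff.1 (hH.2 _ e1)
      exact fourOf_ne_bot hι (hcore V hn (isSolvable_fourOf ι))
  have hcent : ∀ y : G, Commute y (ι P4.zz) → Commute y (ι P4.vv) → y ∈ V := by
    intro y h1 h2
    have hle : V ≤ centralizer ({y} : Set G) := (closure_le _).2 (by
      rintro w (rfl | rfl) <;> rw [SetLike.mem_coe, mem_centralizer_singleton_iff]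
      exacts [h1.symm.eq, h2.symm.eq])
    have hyN : y ∈ normalizer (V : Set G) := mem_normalizer_of_conj fun w hw => by
      rw [(mem_centralizer_singleton_iff.1 (hle hw)).symm, mul_inv_cancel_right]
      exact hw
    rw [hNV] at hyN
    obtain ⟨k, rfl⟩ := hsurj y hyN
    refine map_mem_fourOf ι (P4.cent k (hι ?_) (hι ?_))
    · rw [map_mul, map_mul]; exact h1.eq
    · rw [map_mul, map_mul]; exact h2.eq
  have B := base_of_embedding hι hcent
  obtain ⟨-, -, -, -, -, -, hh3, hrr, hrv⟩ := P4.rels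
  set z := ι P4.zz with hz
  set v := ι P4.vv with hv
  set h := ι P4.hh with hh
  set r := ι P4.rr with hr
  have hrvG : r * v * r⁻¹ = z * v := by rw [hr, hv, hz, ← map_inv, ← map_mul, ← map_mul, hrv, map_mul]
  have hrrG : r * r = z := by rw [hr, hz, ← map_mul, hrr]
  -- choose the second point so that the intersection is the standard Sylow subgroup
  set U := (H ⊓ H.map (MulAut.conj g).toMonoidHom).comap ι with hU
  have hrange : ι.range = H := by
    refine le_antisymm ?_ fun y hy => hsurj y hy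
    rintro _ ⟨k, rfl⟩; exact hιH k
  have hUc : Nat.card U = 8 := by
    rw [← hD, ← card_map_of_injective hι (K := U), hU, map_comap_eq, hrange,
      inf_eq_right.2 inf_le_left]
  obtain ⟨-, -, σ, hσ⟩ := P4.of_card_eight U hUc
  set g' := ι σ * g with hg'
  have hg'H : g' ∉ H := fun hm => hg ((H.mul_mem_cancel_left (hιH σ)).1 hm)
  set D := H ⊓ H.map (MulAut.conj g').toMonoidHom with hDdef
  have hmemD : ∀ k ∈ centralizer ({P4.zz} : Set P4.S4), ι k ∈ D := by
    intro k hk
    rw [← hσ] at hk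
    obtain ⟨u, hu, rfl⟩ := hk
    rw [hU, SetLike.mem_coe, mem_comap] at hu
    obtain ⟨w, hw, hwu⟩ := hu.2
    refine ⟨hιH _, w, hw, ?_⟩
    change g' * w * g'⁻¹ = ι (σ * u * σ⁻¹)
    change g * w * g⁻¹ = ι u at hwu
    rw [map_mul, map_mul, map_inv, ← hwu, hg']
    group
  have hcardD : Nat.card D = 8 := by
    have e1 : D = (H ⊓ H.map (MulAut.conj g).toMonoidHom).map (MulAut.conj (ι σ)).toMonoidHom := by
      rw [map_inf _ _ _ (MulAut.conj (ι σ)).injective, hDdef, map_map]
      have e2 : H.map (MulAut.conj (ι σ)).toMonoidHom = H := by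
        ext y
        refine ⟨?_, fun hy => ⟨(ι σ)⁻¹ * y * ι σ, H.mul_mem (H.mul_mem (H.inv_mem (hιH σ)) hy) (hιH σ), ?_⟩⟩
        · rintro ⟨w, hw, rfl⟩
          exact H.mul_mem (H.mul_mem (hιH σ) hw) (H.inv_mem (hιH σ))
        · show ι σ * ((ι σ)⁻¹ * y * ι σ) * (ι σ)⁻¹ = y
          group
      rw [e2]
      congr 1
      congr 1
      ext y
      simp [hg', mul_assoc]
    rw [e1, card_map_of_injective (MulAut.conj (ι σ)).injective, hD]
  have hgV : ∀ a : P4.S4, (a = P4.zz ∨ a = P4.vv) → g' * ι a * g'⁻¹ ∈ D := by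
    intro a ha
    set U' := (D.map (MulAut.conj g'⁻¹).toMonoidHom).comap ι with hU'
    have hle : D.map (MulAut.conj g'⁻¹).toMonoidHom ≤ H := by
      rintro _ ⟨y, hy, rfl⟩
      obtain ⟨w, hw, rfl⟩ := hy.2
      simpa [mul_assoc] using hw
    have hU'c : Nat.card U' = 8 := by
      rw [← card_map_of_injective hι (K := U'), hU', map_comap_eq, hrange, inf_eq_right.2 hle,
        card_map_of_injective (MulAut.conj g'⁻¹).injective, hcardD]
    obtain ⟨h1, h2, -⟩ := P4.of_card_eight U' hU'c
    have hm : a ∈ U' := by rcases ha with rfl | rfl <;> assumption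
    rw [hU', mem_comap] at hm
    obtain ⟨d, hd, hde⟩ := hm
    change g'⁻¹ * d * g'⁻¹⁻¹ = ι a at hde
    rw [← hde]
    rw [show g' * (g'⁻¹ * d * g'⁻¹⁻¹) * g'⁻¹ = d by group]
    exact hd
  have hD2 : IsPGroup 2 D := IsPGroup.of_card (n := 3) (by rw [hcardD]; norm_num)
  obtain ⟨mz, mv, mr⟩ := P4.mem_cent
  obtain ⟨T, x, n, TD, hcase⟩ := exists_data B hrvG D hD2 (hmemD _ mz) (hmemD _ mv) (hmemD _ mr)
    (hgV _ (Or.inl rfl)) (hgV _ (Or.inr rfl)) (by
      rintro ⟨h1, h2⟩
      apply hg'H
      rw [← hNV]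
      refine mem_normalizer_of_conj fun y hy => ?_
      have hle : V.map (MulAut.conj g').toMonoidHom ≤ V := by
        rw [hVdef, fourOf, MonoidHom.map_closure, closure_le]
        rintro _ ⟨w, rfl | rfl, rfl⟩
        exacts [h1, h2]
      exact hle ⟨y, hy, rfl⟩)
  have hn := TD.hn
  have hodd := odd_normal_eq_bot hcore
  have hvx : ¬ Commute x v := by
    intro hc
    rcases hcase with e1 | e1 <;> rw [hc.symm.eq, mul_inv_cancel_right] at e1
    · have h4 := orderOf_dvd_of_pow_eq_one (x := x) (n := 2)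
        (by rw [pow_two]; nth_rewrite 1 [e1]; rw [inv_mul_cancel])
      rw [TD.xo] at h4
      have := Nat.le_of_dvd two_pos h4
      have : 2 ^ 3 ≤ 2 ^ n := Nat.pow_le_pow_right two_pos hn
      omega
    · have h2 : x ^ 2 = z := by rw [pow_two]; nth_rewrite 2 [e1]; rw [mul_inv_cancel_left]
      have h4 := orderOf_dvd_of_pow_eq_one (x := x) (n := 4)
        (by rw [show 4 = 2 * 2 from rfl, pow_mul, h2, pow_two, B.zz])
      rw [TD.xo] at h4
      have := Nat.le_of_dvd (by norm_num) h4
      have : 2 ^ 3 ≤ 2 ^ n := Nat.pow_le_pow_right two_pos hn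
      omega
  have hxz : Commute x z := TD.half ▸ (Commute.refl x).pow_right _
  -- no subgroup of index two
  have hidx : ∀ M : Subgroup G, M.index ≠ 2 := by
    intro M hM
    have hsq : ∀ y : G, y * y ∈ M := fun y => mul_self_mem_of_index_two hM y
    have hzM : z ∈ M := hrrG ▸ hsq r
    have hMn := normal_of_index_eq_two hM
    have hvM : v ∈ M := B.hh ▸ hMn.conj_mem z hzM h
    have hhM : h ∈ M := by
      have h1 : h * h * (h * h) = h := by
        have h3 : h ^ 3 = 1 := by rw [hh, ← map_pow, hh3, map_one]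
        calc h * h * (h * h) = h ^ 3 * h := by simp only [pow_succ, pow_zero, one_mul, mul_assoc]
          _ = h := by rw [h3, one_mul]
      exact h1 ▸ hsq (h * h)
    have hrM : r ∉ M := by
      intro hrM
      have hHM : H ≤ M := by
        intro y hy
        obtain ⟨k, rfl⟩ := hsurj y hy
        obtain ⟨a, b, c, rfl⟩ := P4.gen k
        rw [map_mul, map_mul, map_pow, map_pow, map_pow]
        exact mul_mem (mul_mem (pow_mem hrM _) (pow_mem hvM _)) (pow_mem hhM _)
      rcases eq_or_lt_of_le hHM with e1 | e1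
      · have hHn : H.Normal := e1 ▸ hMn
        have hs : Group.IsSolvable H := by
          have := OrderType.s4_solvable
          exact Group.isSolvable_of_isSolvable_injective (f := e.toMonoidHom) e.injective
        have := hcore H hHn hs
        exact hg'H (by
          have h1 : z ∈ (⊥ : Subgroup G) := this ▸ hιH _
          exact absurd (mem_bot.1 h1) (ne_one_of_order_two B.hz))
      · rw [hH.2 _ e1, index_top] at hM
        omega
    apply hrM
    obtain ⟨o, ho, heo, he⟩ : ∃ o : ℤ, Odd o ∧ ∃ e : ℤ, e - 1 = 2 * o ∧ v * x * v⁻¹ = x ^ e := by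
      rcases hcase with e1 | e1
      · exact ⟨-1, by decide, -1, by norm_num, by rw [e1, zpow_neg_one]⟩
      · refine ⟨((2 ^ (n - 2) : ℕ) : ℤ) - 1, ?_, ((2 ^ (n - 1) : ℕ) : ℤ) - 1, ?_, sd_x_even TD e1⟩
        · refine Int.odd_iff.2 ?_
          obtain ⟨m, hm⟩ : ∃ m, n - 2 = m + 1 := ⟨n - 3, by omega⟩
          rw [hm, pow_succ]
          push_cast
          omega
        · rw [show n - 1 = (n - 2) + 1 by omega, pow_succ]
          push_cast
          ring
    have hq := B.quarter_conj TD he.2 ho he.1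
    set r' := x ^ (2 ^ (n - 2)) with hr'
    have hr'M : r' ∈ M := by
      rw [hr', show n - 2 = (n - 3) + 1 by omega, pow_succ', pow_mul, pow_two]
      exact pow_mem (hsq x) _
    have hr'z : Commute r' z := hxz.pow_left _
    have hrz : Commute r z := hrrG ▸ (Commute.refl r).mul_right (Commute.refl r)
    have hm := hcent (r⁻¹ * r') (hrz.inv_left.mul_left hr'z) (mul_inv_eq_iff_eq_mul.1 (by
      calc (r⁻¹ * r') * v * (r⁻¹ * r')⁻¹ = r⁻¹ * (r' * v * r'⁻¹) * r := by group
        _ = r⁻¹ * (r * v * r⁻¹) * r := by rw [hq, hrvG]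
        _ = v := by group))
    have hVM : V ≤ M := (closure_le _).2 (by rintro y (rfl | rfl) <;> assumption)
    have := M.mul_mem hr'M (M.inv_mem (hVM hm))
    rwa [mul_inv_rev, inv_inv, mul_inv_cancel_left] at this
  have htrick : Trick z v h := by
    intro Y _ hY1 hYo hYz hYv hYn c h0 h1 h2
    by_contra hc1
    set C := centralizer {s : G | ∃ (j : Fin 3) (y : G), y ∈ Y ∧
        s = ι P4.hh ^ (j : ℕ) * y * (ι P4.hh ^ (j : ℕ))⁻¹} with hCdef
    have hcC : c ∈ C := mem_threeCent ι h0 h1 h2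
    have hHC : H ≤ normalizer (C : Set G) := by
      intro y hy
      obtain ⟨k, rfl⟩ := hsurj y hy
      exact mem_normalizer_of_conj (normalizes_threeCent ι hYn k)
    obtain ⟨y0, hy0, hy01⟩ := (bot_or_exists_ne_one Y).resolve_left hY1
    have hvC : v ∉ C := by
      intro hvC
      apply hy01
      have hc' : y0 * v = v * y0 := mem_centralizer_iff.1 hvC y0 ⟨0, y0, hy0, by simp⟩
      have hy' := hYv y0 hy0
      rw [← hc', mul_inv_cancel_right] at hy'
      exact eq_one_of_odd_of_sq (odd_orderOf_mem hYo hy0) (by nth_rewrite 1 [hy']; rw [inv_mul_cancel])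
    have hhN : h ∈ normalizer (C : Set G) := hHC (hιH _)
    rcases eq_or_lt_of_le hHC with e1 | e1
    · -- `C` is a normal subgroup of `H` avoiding `v`
      have hzC : z ∉ C := fun hm => hvC (B.hh ▸ conj_mem_of_normalizer hhN hm)
      have hzvC : z * v ∉ C := fun hm => hzC (B.hzv ▸ conj_mem_of_normalizer hhN hm)
      have hVC : ∀ y ∈ V, y ∈ C → y = 1 := by
        intro y hy hyC
        rcases B.mem_V.1 hy with rfl | rfl | rfl | rfl
        exacts [rfl, absurd hyC hzC, absurd hyC hvC, absurd hyC hzvC]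
      have hcH : c ∈ H := by rw [e1]; exact le_normalizer hcC
      have key : ∀ w ∈ V, Commute c w := by
        intro w hw
        have m1 : c * w * c⁻¹ * w⁻¹ ∈ V :=
          mul_mem (conj_mem_of_normalizer (hHN hcH) hw) (inv_mem hw)
        have m2 : c * w * c⁻¹ * w⁻¹ ∈ C := by
          rw [show c * w * c⁻¹ * w⁻¹ = c * (w * c⁻¹ * w⁻¹) by group]
          exact mul_mem hcC (conj_mem_of_normalizer (hHC (hVH hw)) (inv_mem hcC))
        exact mul_inv_eq_iff_eq_mul.1 (mul_inv_eq_one.1 (hVC _ m1 m2))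
      exact hc1 (hVC c (hcent c (key _ (subset_closure (Or.inl rfl))) (key _ (subset_closure (Or.inr rfl)))) hcC)
    · have hCn : C.Normal := normalizer_eq_top_iff.1 (hH.2 _ e1)
      have h2C : 2 ∣ Nat.card C := by
        by_contra h2C
        have := hodd C hCn (Nat.odd_iff.2 (by omega))
        exact hc1 (mem_bot.1 (this ▸ hcC))
      exact hvC (B.hh ▸ hCn.conj_mem z (B.z_mem_normal TD hvx C h2C) h)
  rcases hcase with hinv | hsd
  · left
    obtain ⟨F, iF, iT, -, hF16, ⟨e1⟩⟩ := dihedral_psl B TD hinv hidx hodd htrick hns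
    have hHc : IsCoatom (H.map e1.toMonoidHom) := by
      have := (MulEquiv.mapSubgroup e1).isCoatom_iff H
      exact this.2 hH
    have hp : (Fintype.card F).Prime := card_prime_of_coatom_sym_four hF16 _ hHc
      ⟨((e1.subgroupMap H).symm.trans e)⟩
    have := Fact.mk hp
    obtain ⟨ψ⟩ := Classical.Small.psl_congr (n := 2)
      (FiniteField.ringEquivOfCardEq (K := F) (K' := ZMod (Fintype.card F)) (ZMod.card _).symm)
    exact ⟨_, hp, hF16, ⟨e1.trans ψ⟩⟩
  · rcases semidihedral B TD hsd hidx hodd htrick with h3 | h11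
    · exact Or.inr h3
    · exact (m11_excl h11 H hH ⟨e⟩).elim

end Cfsg.Agent.SubdegThree
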