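import Cfsg.Agent.SubdegThree.Setup

/-!
A membership test for normalizers in finite groups.
-/

set_option autoImplicit false

namespace Cfsg.Agent.SubdegThree

open Subgroup

theorem mem_normalizer_of_conj {K : Type*} [Group K] [Finite K] {X : Subgroup K} {d : K}
    (h : ∀ y ∈ X, d * y * d⁻¹ ∈ X) : d ∈ normalizer (X : Set K) := by
  let f : X → X := fun y => ⟨d * y * d⁻¹, h y y.2⟩
  have hf : Function.Injective f := fun a b e =>
    Subtype.ext ((MulAut.conj d).injective (congrArg Subtype.val e))
  refine mem_normalizer_iff.2 fun y => ⟨h y, fun hy => ?_⟩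
  obtain ⟨a, ha⟩ := Finite.surjective_of_injective hf ⟨_, hy⟩
  have : (a : K) = y := (MulAut.conj d).injective (congrArg Subtype.val ha)
  exact this ▸ a.2

theorem conj_mem_of_normalizer {K : Type*} [Group K] {X : Subgroup K} {d y : K}
    (hd : d ∈ normalizer (X : Set K)) (hy : y ∈ X) : d * y * d⁻¹ ∈ X :=
  (mem_normalizer_iff.1 hd y).1 hy

end Cfsg.Agent.SubdegThree
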