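import Cfsg.Agent.SubdegThree.Transport
import Cfsg.Agent.SubdegThree.SD
import Cfsg.Agent.SubdegThree.Norm
import Cfsg.Agent.OrderType.Count
import Cfsg.Agent.S2060
import Mathlib.Algebra.Group.Subgroup.Pointwise

/-!
A maximal subgroup `S₄ × 2` meeting a conjugate in a Sylow 2-subgroup: the group has a subgroup of
index two isomorphic to `PSL(3,3)` with trivial centralizer.
-/

set_option autoImplicit false

namespace Cfsg.Agent.SubdegThree

open Subgroup
open scoped Pointwise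

namespace TwoTimes

variable {G : Type*} [Group G]

/-- An internal product of an embedded symmetric group of degree four and a central involution. -/
structure Split (H : Subgroup G) (j : G) (ι : P4.S4 →* G) : Prop where
  inj : Function.Injective ι
  mem : ∀ k, ι k ∈ H
  jH : j ∈ H
  jo : orderOf j = 2
  jc : ∀ y ∈ H, Commute j y
  cov : ∀ y ∈ H, ∃ k, y = ι k ∨ y = ι k * j
  indep : ∀ k, ι k ≠ j

theorem cent_zz : ∀ k : P4.S4, k * P4.zz = P4.zz * k →
    k = 1 ∨ k = P4.zz ∨ k = P4.vv ∨ k = P4.zz * P4.vv ∨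
      k = P4.rr ∨ k = P4.rr * P4.zz ∨ k = P4.rr * P4.vv ∨ k = P4.rr * P4.zz * P4.vv := by
  decide +kernel

theorem square_cases : ∀ k : P4.S4, k * P4.zz = P4.zz * k → k * k = 1 ∨ k * k = P4.zz := by
  decide +kernel

theorem root_cases : ∀ k : P4.S4, k * k = P4.zz → k = P4.rr ∨ k = P4.rr * P4.zz := by
  decide +kernel

theorem central_cases : ∀ k : P4.S4, k * P4.rr = P4.rr * k → k * P4.vv = P4.vv * k →
    k = 1 ∨ k = P4.zz := by
  decide +kernel

theorem comm_rr_cases : ∀ k : P4.S4, k * P4.rr = P4.rr * k →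
    k = 1 ∨ k = P4.zz ∨ k = P4.rr ∨ k = P4.rr * P4.zz := by
  decide +kernel

theorem inv_cases : ∀ k : P4.S4, k * P4.zz = P4.zz * k → k * k = 1 →
    (k = 1 ∨ k = P4.zz ∨ k = P4.vv ∨ k = P4.zz * P4.vv) ∨
      k = P4.rr * P4.vv ∨ k = P4.rr * P4.zz * P4.vv := by
  decide +kernel

theorem normal_has_vv : ∀ k : P4.S4, k ≠ 1 →
    ∃ a b : P4.S4, b * (a * k * a⁻¹ * k⁻¹) * b⁻¹ = P4.vv := by
  decide +kernel

/-- The element of order eight when the square is central. -/
theorem second_case {A : Type*} [Group A] {m v w z q j : A} (hv : v * v = 1) (hm : m * m = z)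
    (hmj : m * j * m⁻¹ = z * j) (hmv : m * v * m⁻¹ = w * j) (hc : v * j = j * v)
    (e1 : w * j * z * v = q * j) (e2 : q * j * (w * j) = v) :
    m * v * j * (m * v)⁻¹ = z * j ∧ v * (m * v) * v⁻¹ = (m * v) ^ 3 ∧ m * v * (m * v) = q * j := by
  have hx : m * v * (m * v) = q * j := by
    rw [← e1, ← hmv, ← hm]; group
  refine ⟨?_, ?_, hx⟩
  · rw [← hmj, show m * v * j * (m * v)⁻¹ = m * (v * j * v⁻¹) * m⁻¹ by group, hc, mul_inv_cancel_right]
  · calc v * (m * v) * v⁻¹ = v * m := by group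
      _ = q * j * (m * v * m⁻¹) * m := by rw [hmv, e2]
      _ = q * j * (m * v) := by group
      _ = (m * v) ^ 3 := by rw [pow_succ, pow_two, hx]

theorem mult_two_cases : ∀ a : Multiplicative (ZMod 2), a = 1 ∨ a = Multiplicative.ofAdd 1 := by decide

theorem gen_order : orderOf ((1, Multiplicative.ofAdd 1) : P4.S4 × Multiplicative (ZMod 2)) = 2 :=
  orderOf_eq_prime (by decide) (by decide)

theorem ofAdd_one_ne : Multiplicative.ofAdd (1 : ZMod 2) ≠ 1 := by decide

namespace Split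

variable {H : Subgroup G} {j : G} {ι : P4.S4 →* G}

theorem jj (S : Split H j ι) : j * j = 1 := mul_self_eq_one S.jo

theorem jι (S : Split H j ι) (k : P4.S4) : Commute j (ι k) := S.jc _ (S.mem k)

theorem comm_of_map (S : Split H j ι) {k l : P4.S4} (h : Commute (ι k) (ι l)) : k * l = l * k :=
  S.inj (by rw [map_mul, map_mul]; exact h)

theorem comm_strip (S : Split H j ι) {k l : P4.S4} (h : Commute (ι k * j) (ι l)) : k * l = l * k := by
  refine S.comm_of_map ?_
  have := h.mul_left (S.jι l)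
  rwa [mul_assoc, S.jj, mul_one] at this

theorem ne_mul_j (S : Split H j ι) (k l : P4.S4) : ι k ≠ ι l * j := fun e =>
  S.indep (l⁻¹ * k) (by rw [map_mul, map_inv, e, inv_mul_cancel_left])

theorem eq_of_mul_j (S : Split H j ι) {k l : P4.S4} (e : ι k * j = ι l * j) : k = l :=
  S.inj (mul_right_cancel e)

/-- The order of a subgroup of `H` containing `j`. -/
theorem card_of_mem (S : Split H j ι) {X : Subgroup G} (hX : X ≤ H) (hj : j ∈ X) :
    Nat.card X = 2 * Nat.card (X.comap ι) := by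
  let f : X.comap ι × Bool → X := fun p => ⟨ι p.1 * bif p.2 then j else 1, by
    refine mul_mem p.1.2 ?_
    cases p.2
    · exact one_mem _
    · exact hj⟩
  have hf : Function.Bijective f := by
    refine ⟨fun p q e => ?_, fun y => ?_⟩
    · have e' : ι p.1 * (bif p.2 then j else 1) = ι q.1 * bif q.2 then j else 1 :=
        congrArg Subtype.val e
      obtain ⟨a, c⟩ := p
      obtain ⟨b, d⟩ := q
      cases c <;> cases d <;> simp only [cond_true, cond_false, mul_one] at e'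
      · exact Prod.ext (Subtype.ext (S.inj e')) rfl
      · exact absurd e' (S.ne_mul_j _ _)
      · exact absurd e'.symm (S.ne_mul_j _ _)
      · exact Prod.ext (Subtype.ext (S.eq_of_mul_j e')) rfl
    · obtain ⟨k, e | e⟩ := S.cov y (hX y.2)
      · exact ⟨⟨⟨k, by rw [mem_comap, ← e]; exact y.2⟩, false⟩, Subtype.ext (by simp [f, e])⟩
      · have hk : ι k ∈ X := by
          have := mul_mem y.2 hj
          rwa [e, mul_assoc, S.jj, mul_one] at this
        exact ⟨⟨⟨k, hk⟩, true⟩, Subtype.ext (by simp [f, e])⟩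
  rw [← Nat.card_eq_of_bijective f hf, Nat.card_prod, Nat.card_eq_fintype_card (α := Bool),
    Fintype.card_bool, mul_comm]

theorem card_H (S : Split H j ι) : Nat.card H = 48 := by
  rw [S.card_of_mem le_rfl S.jH, show H.comap ι = ⊤ from eq_top_iff.2 fun k _ => S.mem k, card_top,
    Nat.card_eq_fintype_card, Fintype.card_perm, Fintype.card_fin]
  rfl

/-- The standard Sylow 2-subgroup of `H`. -/
abbrev D2 (H : Subgroup G) (ι : P4.S4 →* G) : Subgroup G := H ⊓ centralizer ({ι P4.zz} : Set G)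

theorem mem_D2 {y : G} : y ∈ D2 H ι ↔ y ∈ H ∧ Commute y (ι P4.zz) := by
  rw [mem_inf, mem_centralizer_singleton_iff]
  rfl

theorem map_mem_D2 (S : Split H j ι) {k : P4.S4} (hk : k * P4.zz = P4.zz * k) : ι k ∈ D2 H ι :=
  mem_D2.2 ⟨S.mem k, by show _ = _; rw [← map_mul, ← map_mul, hk]⟩

theorem j_mem_D2 (S : Split H j ι) : j ∈ D2 H ι := mem_D2.2 ⟨S.jH, S.jι _⟩

theorem D2_cases (S : Split H j ι) {y : G} (hy : y ∈ D2 H ι) :
    ∃ k : P4.S4, k * P4.zz = P4.zz * k ∧ (y = ι k ∨ y = ι k * j) := by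
  obtain ⟨hyH, hyz⟩ := mem_D2.1 hy
  obtain ⟨k, e | e⟩ := S.cov y hyH <;> subst e
  · exact ⟨k, S.comm_of_map hyz, Or.inl rfl⟩
  · exact ⟨k, S.comm_strip hyz, Or.inr rfl⟩

theorem sq_D2 (S : Split H j ι) {y : G} (hy : y ∈ D2 H ι) :
    ∃ k : P4.S4, k * P4.zz = P4.zz * k ∧ (y = ι k ∨ y = ι k * j) ∧ y * y = ι (k * k) := by
  obtain ⟨k, hk, e⟩ := S.D2_cases hy
  refine ⟨k, hk, e, ?_⟩
  rcases e with e | e <;> rw [e, map_mul]
  rw [(S.jι k).mul_mul_mul_comm, S.jj, mul_one]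

theorem card_D2 (S : Split H j ι) : Nat.card (D2 H ι) = 16 := by
  rw [S.card_of_mem inf_le_left S.j_mem_D2, show (D2 H ι).comap ι = centralizer ({P4.zz} : Set P4.S4) from ?_,
    P4.card_centralizer]
  ext k
  rw [mem_comap, mem_centralizer_singleton_iff]
  exact ⟨fun h => S.comm_of_map (mem_D2.1 h).2, fun h => S.map_mem_D2 h⟩

/-- A subgroup of order sixteen of `H` goes into the standard one. -/
theorem to_D2 [Finite G] (S : Split H j ι) {Q : Subgroup G} (hQ : Q ≤ H) (h16 : Nat.card Q = 16) :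
    ∃ k ∈ H, Q.map (MulAut.conj k).toMonoidHom = D2 H ι := by
  have : Fact (Nat.Prime 2) := ⟨Nat.prime_two⟩
  have hsyl : ∀ X : Subgroup G, X ≤ H → Nat.card X = 16 →
      IsPGroup 2 (X.subgroupOf H) ∧ ¬ 2 ∣ (X.subgroupOf H).index := by
    intro X hX hc
    have hc' : Nat.card (X.subgroupOf H) = 16 := by
      rw [Nat.card_congr (subgroupOfEquivOfLe hX).toEquiv, hc]
    refine ⟨IsPGroup.of_card (n := 4) (by rw [hc']; norm_num), ?_⟩
    have h := (X.subgroupOf H).card_mul_index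
    rw [hc', S.card_H] at h
    omega
  let PQ : Sylow 2 H := (hsyl Q hQ h16).1.toSylow (hsyl Q hQ h16).2
  let PD : Sylow 2 H := (hsyl _ inf_le_left S.card_D2).1.toSylow (hsyl _ inf_le_left S.card_D2).2
  obtain ⟨k, hk⟩ := MulAction.exists_smul_eq H PQ PD
  refine ⟨k, k.2, eq_of_le_of_card_ge ?_ ?_⟩
  · rintro _ ⟨y, hy, rfl⟩
    have h1 : k * (⟨y, hQ hy⟩ : H) * k⁻¹ ∈ (PD : Subgroup H) := by
      rw [← hk, Sylow.coe_subgroup_smul]
      exact ⟨⟨y, hQ hy⟩, hy, rfl⟩
    exact h1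
  · rw [card_map_of_injective (MulAut.conj (k : G)).injective, h16, S.card_D2]

theorem comm_vv (S : Split H j ι) : Commute (ι P4.vv) j := (S.jι _).symm

/-- The elementary abelian normal subgroup of `H`. -/
theorem normalizes_E (S : Split H j ι) {y : G} (hy : y ∈ H) :
    ∀ e ∈ fourOf ι ⊔ zpowers j, y * e * y⁻¹ ∈ fourOf ι ⊔ zpowers j := by
  have h1 : ∀ k, ∀ e ∈ fourOf ι ⊔ zpowers j, ι k * e * (ι k)⁻¹ ∈ fourOf ι ⊔ zpowers j := by
    intro k
    suffices h : (fourOf ι ⊔ zpowers j) ≤ (fourOf ι ⊔ zpowers j).comap (MulAut.conj (ι k)).toMonoidHom from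
      fun e he => h he
    refine sup_le (fun e he => mem_sup_left (normalizes_fourOf ι k e he)) (zpowers_le.2 ?_)
    rw [mem_comap, MulEquiv.coe_toMonoidHom, MulAut.conj_apply, ← (S.jι k).eq, mul_inv_cancel_right]
    exact mem_sup_right (mem_zpowers j)
  intro e he
  obtain ⟨k, rfl | rfl⟩ := S.cov y hy
  · exact h1 k e he
  · have hje : Commute j e := by
      suffices fourOf ι ⊔ zpowers j ≤ centralizer ({j} : Set G) from
        (mem_centralizer_singleton_iff.1 (this he)).symm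
      refine sup_le (fun w hw => ?_) (zpowers_le.2 (mem_centralizer_singleton_iff.2 rfl))
      obtain ⟨a, -, rfl⟩ := mem_fourOf hw
      exact mem_centralizer_singleton_iff.2 (S.jι a).eq.symm
    rw [show ι k * j * e * (ι k * j)⁻¹ = ι k * (j * e * j⁻¹) * (ι k)⁻¹ by group, hje.eq,
      mul_inv_cancel_right]
    exact h1 k e he

section Coatom

variable [Finite G]

theorem normalizer_eq (S : Split H j ι) (hH : IsCoatom H)
    (hcore : ∀ N : Subgroup G, N.Normal → Group.IsSolvable N → N = ⊥) {X : Subgroup G}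
    (hX : Group.IsSolvable X) (hne : X ≠ ⊥) (hn : ∀ y ∈ H, ∀ e ∈ X, y * e * y⁻¹ ∈ X) :
    normalizer (X : Set G) = H := by
  have hle : H ≤ normalizer (X : Set G) := fun y hy => mem_normalizer_of_conj (hn y hy)
  rcases hle.eq_or_lt with e | e
  · exact e.symm
  · exact absurd (hcore X (normalizer_eq_top_iff.1 (hH.2 _ e)) hX) hne

theorem cent_j (S : Split H j ι) (hH : IsCoatom H)
    (hcore : ∀ N : Subgroup G, N.Normal → Group.IsSolvable N → N = ⊥) {y : G} (hy : Commute y j) :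
    y ∈ H := by
  have hs : Group.IsSolvable (zpowers j) := Group.isSolvable_of_comm fun a b => by
    obtain ⟨_, m, rfl⟩ := a
    obtain ⟨_, n, rfl⟩ := b
    exact Subtype.ext ((Commute.refl j).zpow_zpow m n).eq
  have hne : zpowers j ≠ ⊥ := fun e => ne_one_of_order_two S.jo (zpowers_eq_bot.1 e)
  have hn : ∀ x ∈ H, ∀ e ∈ zpowers j, x * e * x⁻¹ ∈ zpowers j := by
    intro x hx e he
    obtain ⟨m, rfl⟩ := mem_zpowers_iff.1 he
    rw [← ((S.jc x hx).zpow_left m).eq, mul_inv_cancel_right]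
    exact zpow_mem (mem_zpowers j) m
  rw [← S.normalizer_eq hH hcore hs hne hn]
  refine mem_normalizer_of_conj fun e he => ?_
  obtain ⟨m, rfl⟩ := mem_zpowers_iff.1 he
  rw [(hy.zpow_right m).eq, mul_inv_cancel_right]
  exact zpow_mem (mem_zpowers j) m

theorem normalizer_E (S : Split H j ι) (hH : IsCoatom H)
    (hcore : ∀ N : Subgroup G, N.Normal → Group.IsSolvable N → N = ⊥) {y : G}
    (hy : ∀ e ∈ fourOf ι ⊔ zpowers j, y * e * y⁻¹ ∈ fourOf ι ⊔ zpowers j) : y ∈ H := by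
  have hs : Group.IsSolvable ↥(fourOf ι ⊔ zpowers j) := by
    refine Group.isSolvable_of_comm fun a b => Subtype.ext ?_
    have hc : fourOf ι ⊔ zpowers j ≤ centralizer ((fourOf ι ⊔ zpowers j : Subgroup G) : Set G) := by
      have h0 : ∀ w ∈ fourOf ι, Commute j w := by
        intro w hw
        obtain ⟨p, -, rfl⟩ := mem_fourOf hw
        exact S.jι p
      have h1 : ∀ a ∈ fourOf ι, ∀ b ∈ fourOf ι, Commute a b := by
        intro a ha b hb
        obtain ⟨p, hp, rfl⟩ := mem_fourOf ha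
        obtain ⟨q, hq, rfl⟩ := mem_fourOf hb
        show _ = _
        rw [← map_mul, ← map_mul]
        congr 1
        exact (by decide +kernel : ∀ p q : P4.S4, (p = 1 ∨ p = P4.zz ∨ p = P4.vv ∨ p = P4.zz * P4.vv) →
          (q = 1 ∨ q = P4.zz ∨ q = P4.vv ∨ q = P4.zz * P4.vv) → p * q = q * p) p q hp hq
      refine sup_le (le_centralizer_iff.1 (sup_le ?_ (zpowers_le.2 ?_)))
        (le_centralizer_iff.1 (sup_le ?_ (zpowers_le.2 ?_)))
      · exact fun a ha => mem_centralizer_iff.2 fun b hb => h1 b hb a ha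
      · exact mem_centralizer_iff.2 fun b hb => (h0 b hb).symm
      · intro a ha
        refine mem_centralizer_iff.2 fun b hb => ?_
        obtain ⟨m, rfl⟩ := mem_zpowers_iff.1 hb
        exact ((h0 a ha).zpow_left m).eq
      · exact mem_centralizer_iff.2 fun b hb => by
          obtain ⟨m, rfl⟩ := mem_zpowers_iff.1 hb
          exact ((Commute.refl j).zpow_left m).eq
    exact (mem_centralizer_iff.1 (hc b.2) a a.2)
  rw [← S.normalizer_eq hH hcore hs (fun e => fourOf_ne_bot S.inj (eq_bot_iff.2 (e ▸ le_sup_left)))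
    fun x hx => S.normalizes_E hx]
  exact mem_normalizer_of_conj hy

theorem ι_j (S : Split H j ι) (k : P4.S4) : j * ι k = ι k * j := (S.jι k).eq

theorem mul_jι (S : Split H j ι) (a b : P4.S4) : ι a * j * ι b = ι (a * b) * j := by
  rw [mul_assoc, S.ι_j, ← mul_assoc, ← map_mul]

theorem mul_jj (S : Split H j ι) (a : P4.S4) : ι a * j * j = ι a := by
  rw [mul_assoc, S.jj, mul_one]

theorem ιι (_S : Split H j ι) (a b : P4.S4) : ι a * ι b = ι (a * b) := (map_mul ι a b).symm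

theorem conjι (_S : Split H j ι) (k a : P4.S4) : ι k * ι a * (ι k)⁻¹ = ι (k * a * k⁻¹) := by
  rw [map_mul, map_mul, map_inv]

theorem conjιj (S : Split H j ι) (k a : P4.S4) : ι k * (ι a * j) * (ι k)⁻¹ = ι (k * a * k⁻¹) * j := by
  rw [← map_inv, ← mul_assoc, S.ιι, S.mul_jι]

/-- An element outside `H` normalising the standard Sylow subgroup. -/
structure Moves (H : Subgroup G) (ι : P4.S4 →* G) (n : G) : Prop where
  out : n ∉ H
  norm : ∀ y ∈ D2 H ι, n * y * n⁻¹ ∈ D2 H ι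

theorem Moves.comp {n d : G} (hn : Moves H ι n) (hd : d ∈ D2 H ι) : Moves H ι (d * n) := by
  refine ⟨fun h => hn.out ((mul_mem_cancel_left (mem_D2.1 hd).1).1 h), fun y hy => ?_⟩
  rw [show d * n * y * (d * n)⁻¹ = d * (n * y * n⁻¹) * d⁻¹ by group]
  exact mul_mem (mul_mem hd (hn.norm y hy)) (inv_mem hd)

theorem exists_moves (S : Split H j ι) (g : G) (hg : g ∉ H)
    (hD : Nat.card (H ⊓ H.map (MulAut.conj g).toMonoidHom : Subgroup G) = 16) : ∃ n, Moves H ι n := by
  set D := H ⊓ H.map (MulAut.conj g).toMonoidHom with hDdef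
  have hQ2 : D.map (MulAut.conj g⁻¹).toMonoidHom ≤ H := by
    rintro _ ⟨_, hy, rfl⟩
    obtain ⟨w, hw, rfl⟩ := hy.2
    show g⁻¹ * (g * w * g⁻¹) * g⁻¹⁻¹ ∈ H
    rw [show g⁻¹ * (g * w * g⁻¹) * g⁻¹⁻¹ = w by group]
    exact hw
  obtain ⟨k1, hk1, e1⟩ := S.to_D2 (inf_le_left : D ≤ H) hD
  obtain ⟨k2, hk2, e2⟩ := S.to_D2 hQ2 (by rw [card_map_of_injective (MulAut.conj g⁻¹).injective, hD])
  refine ⟨k2 * g⁻¹ * k1⁻¹, fun h => hg ?_, fun y hy => ?_⟩
  · have := mul_mem (mul_mem (inv_mem hk2) h) hk1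
    rw [show k2⁻¹ * (k2 * g⁻¹ * k1⁻¹) * k1 = g⁻¹ by group] at this
    exact inv_mem_iff.1 this
  · rw [← e1] at hy
    obtain ⟨d, hd, rfl⟩ := hy
    rw [← e2]
    exact ⟨_, ⟨d, hd, rfl⟩, by simp [mul_assoc]⟩

theorem kr_comm : P4.rr * P4.zz = P4.zz * P4.rr := by decide +kernel

theorem Moves.fix_z (S : Split H j ι) {n : G} (hn : Moves H ι n) :
    n * ι P4.zz * n⁻¹ = ι P4.zz := by
  obtain ⟨hz2, -, -, -, -, -, -, hrr, -⟩ := P4.rels
  obtain ⟨k, hk, -, e⟩ := S.sq_D2 (hn.norm _ (S.map_mem_D2 kr_comm))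
  have e' : n * ι P4.zz * n⁻¹ = ι (k * k) := by rw [← e, ← hrr, map_mul]; group
  rcases square_cases k hk with h | h <;> rw [h] at e'
  · rw [map_one, conj_eq_one_iff, map_eq_one_iff ι S.inj] at e'
    exact absurd e' (ne_one_of_order_two hz2)
  · exact e'

theorem Moves.move_j (S : Split H j ι) (hH : IsCoatom H)
    (hcore : ∀ N : Subgroup G, N.Normal → Group.IsSolvable N → N = ⊥) {n : G} (hn : Moves H ι n) :
    n * j * n⁻¹ = ι P4.zz * j := by
  obtain ⟨-, -, hvz, -⟩ := P4.rels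
  have hcen : ∀ w ∈ D2 H ι, Commute (n * j * n⁻¹) w := by
    intro w hw
    have e : (D2 H ι).map (MulAut.conj n).toMonoidHom = D2 H ι := eq_of_le_of_card_ge
      (by rintro _ ⟨y, hy, rfl⟩; exact hn.norm y hy) (by rw [card_map_of_injective (MulAut.conj n).injective])
    rw [← e] at hw
    obtain ⟨y, hy, rfl⟩ := hw
    exact (S.jc y (mem_D2.1 hy).1).map (MulAut.conj n).toMonoidHom
  obtain ⟨k, hk, e⟩ := S.D2_cases (hn.norm j S.j_mem_D2)
  have hr := hcen _ (S.map_mem_D2 kr_comm)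
  have hv := hcen _ (S.map_mem_D2 hvz)
  rcases e with e | e
  · rw [e] at hr hv
    rcases central_cases k (S.comm_of_map hr) (S.comm_of_map hv) with rfl | rfl
    · rw [map_one, conj_eq_one_iff] at e
      exact absurd e (ne_one_of_order_two S.jo)
    · exact absurd (mul_left_cancel (mul_right_cancel (e.trans (hn.fix_z S).symm))).symm (S.indep _)
  · rw [e] at hr hv
    rcases central_cases k (S.comm_strip hr) (S.comm_strip hv) with rfl | rfl
    · rw [map_one, one_mul, mul_inv_eq_iff_eq_mul] at e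
      exact absurd (S.cent_j hH hcore e) hn.out
    · exact e

theorem Moves.move_v (S : Split H j ι) (hH : IsCoatom H)
    (hcore : ∀ N : Subgroup G, N.Normal → Group.IsSolvable N → N = ⊥) {n : G} (hn : Moves H ι n) :
    ∃ k : P4.S4, (k = P4.rr * P4.vv ∨ k = P4.rr * P4.zz * P4.vv) ∧
      (n * ι P4.vv * n⁻¹ = ι k ∨ n * ι P4.vv * n⁻¹ = ι k * j) := by
  obtain ⟨-, hv2, hvz, -⟩ := P4.rels
  obtain ⟨k, hk, e, hsq⟩ := S.sq_D2 (hn.norm _ (S.map_mem_D2 hvz))
  have h1 : k * k = 1 := S.inj (by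
    rw [← hsq, map_one, show n * ι P4.vv * n⁻¹ * (n * ι P4.vv * n⁻¹) = n * (ι P4.vv * ι P4.vv) * n⁻¹ by group,
      S.ιι, mul_self_eq_one hv2, map_one, mul_one, mul_inv_cancel])
  rcases inv_cases k hk h1 with hV | h
  · refine absurd (S.normalizer_E hH hcore ?_) hn.out
    intro w hw
    refine (show fourOf ι ⊔ zpowers j ≤ (fourOf ι ⊔ zpowers j).comap (MulAut.conj n).toMonoidHom from ?_) hw
    refine sup_le ((closure_le _).2 ?_) (zpowers_le.2 ?_)
    · rintro w (rfl | rfl) <;> rw [SetLike.mem_coe, mem_comap, MulEquiv.coe_toMonoidHom, MulAut.conj_apply]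
      · rw [hn.fix_z S]; exact mem_sup_left (map_mem_fourOf ι (Or.inr (Or.inl rfl)))
      · rcases e with e | e <;> rw [e]
        · exact mem_sup_left (map_mem_fourOf ι hV)
        · exact mul_mem (mem_sup_left (map_mem_fourOf ι hV)) (mem_sup_right (mem_zpowers j))
    · rw [mem_comap, MulEquiv.coe_toMonoidHom, MulAut.conj_apply, hn.move_j S hH hcore]
      exact mul_mem (mem_sup_left (map_mem_fourOf ι (Or.inr (Or.inl rfl))))
        (mem_sup_right (mem_zpowers j))
  · exact ⟨k, h, e⟩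

theorem exists_moves_normal (S : Split H j ι) (hH : IsCoatom H)
    (hcore : ∀ N : Subgroup G, N.Normal → Group.IsSolvable N → N = ⊥) {n0 : G} (h0 : Moves H ι n0) :
    ∃ n : G, Moves H ι n ∧ (n * ι P4.rr * n⁻¹ = ι P4.rr ∨ n * ι P4.rr * n⁻¹ = ι P4.rr * j) ∧
      (n * ι P4.vv * n⁻¹ = ι (P4.rr * P4.vv) ∨ n * ι P4.vv * n⁻¹ = ι (P4.rr * P4.vv) * j) := by
  obtain ⟨hz2, -, hvz, -, -, -, -, hrr, -⟩ := P4.rels
  obtain ⟨n1, hn1, hn1r⟩ : ∃ n : G, Moves H ι n ∧
      (n * ι P4.rr * n⁻¹ = ι P4.rr ∨ n * ι P4.rr * n⁻¹ = ι P4.rr * j) := by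
    obtain ⟨k, hk, e, hsq⟩ := S.sq_D2 (h0.norm _ (S.map_mem_D2 kr_comm))
    have h1 : k * k = P4.zz := S.inj (by
      rw [← hsq, show n0 * ι P4.rr * n0⁻¹ * (n0 * ι P4.rr * n0⁻¹) = n0 * (ι P4.rr * ι P4.rr) * n0⁻¹ by group,
        S.ιι, hrr, h0.fix_z S])
    have hd : P4.vv * (P4.rr * P4.zz) * P4.vv⁻¹ = P4.rr := by decide +kernel
    rcases root_cases k h1 with rfl | rfl
    · exact ⟨n0, h0, e⟩
    · refine ⟨ι P4.vv * n0, h0.comp (S.map_mem_D2 hvz), ?_⟩
      rw [show ι P4.vv * n0 * ι P4.rr * (ι P4.vv * n0)⁻¹ = ι P4.vv * (n0 * ι P4.rr * n0⁻¹) * (ι P4.vv)⁻¹ by group]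
      rcases e with e | e <;> rw [e]
      · exact Or.inl (by rw [S.conjι, hd])
      · exact Or.inr (by rw [S.conjιj, hd])
  obtain ⟨k, hk, e⟩ := hn1.move_v S hH hcore
  rcases hk with rfl | rfl
  · exact ⟨n1, hn1, hn1r, e⟩
  · have hd : P4.rr * (P4.rr * P4.zz * P4.vv) * P4.rr⁻¹ = P4.rr * P4.vv := by decide +kernel
    refine ⟨ι P4.rr * n1, hn1.comp (S.map_mem_D2 kr_comm), ?_, ?_⟩
    · rw [show ι P4.rr * n1 * ι P4.rr * (ι P4.rr * n1)⁻¹ = ι P4.rr * (n1 * ι P4.rr * n1⁻¹) * (ι P4.rr)⁻¹ by group]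
      rcases hn1r with e' | e' <;> rw [e']
      · left; rw [S.conjι, mul_inv_cancel_right]
      · right; rw [S.conjιj, mul_inv_cancel_right]
    · rw [show ι P4.rr * n1 * ι P4.vv * (ι P4.rr * n1)⁻¹ = ι P4.rr * (n1 * ι P4.vv * n1⁻¹) * (ι P4.rr)⁻¹ by group]
      rcases e with e | e <;> rw [e]
      · exact Or.inl (by rw [S.conjι, hd])
      · exact Or.inr (by rw [S.conjιj, hd])

/-- The square of the moving element, and the image of `r`. -/
theorem moves_square (S : Split H j ι) (hH : IsCoatom H)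
    (hcore : ∀ N : Subgroup G, N.Normal → Group.IsSolvable N → N = ⊥) {n : G} (hn : Moves H ι n)
    (hnr : n * ι P4.rr * n⁻¹ = ι P4.rr ∨ n * ι P4.rr * n⁻¹ = ι P4.rr * j)
    (hnv : n * ι P4.vv * n⁻¹ = ι (P4.rr * P4.vv) ∨ n * ι P4.vv * n⁻¹ = ι (P4.rr * P4.vv) * j) :
    n * ι P4.rr * n⁻¹ = ι P4.rr ∧ ∃ k : P4.S4, n * n = ι k ∧
      (k = 1 ∨ k = P4.zz ∨ k = P4.rr ∨ k = P4.rr * P4.zz) ∧
      (n * ι P4.vv * n⁻¹ = ι (P4.rr * P4.vv) ∧ k * P4.vv * k⁻¹ = P4.rr * (P4.rr * P4.vv) ∨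
        n * ι P4.vv * n⁻¹ = ι (P4.rr * P4.vv) * j ∧ k * P4.vv * k⁻¹ = P4.rr * (P4.rr * P4.vv) * P4.zz) := by
  have hnj := hn.move_j S hH hcore
  have hnz := hn.fix_z S
  have cm : ∀ a b : G, n * (a * b) * n⁻¹ = (n * a * n⁻¹) * (n * b * n⁻¹) := fun a b => by group
  have sq2 : ∀ a : G, n * n * a * (n * n)⁻¹ = n * (n * a * n⁻¹) * n⁻¹ := fun a => by group
  have hn2D : n * n ∈ D2 H ι := by
    refine mem_D2.2 ⟨S.cent_j hH hcore (mul_inv_eq_iff_eq_mul.1 ?_), mul_inv_eq_iff_eq_mul.1 ?_⟩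
    · rw [sq2, hnj, cm, hnz, hnj, ← mul_assoc, S.ιι, mul_self_eq_one P4.rels.1, map_one, one_mul]
    · rw [sq2, hnz, hnz]
  obtain ⟨k, hk, hkn⟩ := S.D2_cases hn2D
  have hnconj : ∀ l : P4.S4, n * (n * ι l * n⁻¹) * n⁻¹ = ι (k * l * k⁻¹) := by
    intro l
    rw [← sq2]
    rcases hkn with e | e <;> rw [e]
    · exact S.conjι k l
    · rw [show ι k * j * ι l * (ι k * j)⁻¹ = ι k * (j * ι l * j⁻¹) * (ι k)⁻¹ by group, S.ι_j,
        mul_inv_cancel_right, S.conjι]
  have hrv : n * ι (P4.rr * P4.vv) * n⁻¹ = n * ι P4.rr * n⁻¹ * (n * ι P4.vv * n⁻¹) := by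
    rw [← cm, S.ιι]
  have hnr1 : n * ι P4.rr * n⁻¹ = ι P4.rr := by
    rcases hnr with e | e
    · exact e
    exfalso
    have h := hnconj P4.vv
    rcases hnv with e' | e'
    · rw [e', hrv, e, e', S.mul_jι] at h
      exact S.ne_mul_j _ _ h.symm
    · rw [e', cm, hrv, e, hnj, e', ← mul_assoc, ← mul_assoc (ι P4.rr * j), S.mul_jι, S.mul_jj, S.ιι] at h
      exact S.ne_mul_j _ _ h.symm
  have hkr : k * P4.rr = P4.rr * k := by
    have h := hnconj P4.rr
    rw [hnr1, hnr1] at h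
    exact eq_comm.1 (eq_mul_inv_iff_mul_eq.1 (S.inj h))
  have hcases := comm_rr_cases k hkr
  have hsq : n * n = ι k := by
    rcases hkn with e | e
    · exact e
    exfalso
    have h1 : n * (n * n) * n⁻¹ = n * n := by group
    have hfix : n * ι k * n⁻¹ = ι k := by
      rcases hcases with rfl | rfl | rfl | rfl
      · rw [map_one, mul_one, mul_inv_cancel]
      · exact hnz
      · exact hnr1
      · rw [map_mul, cm, hnr1, hnz]
    rw [e, cm, hfix, hnj, ← mul_assoc, S.ιι] at h1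
    exact ne_one_of_order_two P4.rels.1 (mul_eq_left.1 (S.eq_of_mul_j h1))
  refine ⟨hnr1, k, hsq, hcases, ?_⟩
  have h := hnconj P4.vv
  rcases hnv with e' | e'
  · rw [e', hrv, hnr1, e', S.ιι] at h
    exact Or.inl ⟨e', (S.inj h).symm⟩
  · rw [e', cm, hrv, hnr1, hnj, e', ← mul_assoc, ← mul_assoc (ι P4.rr), S.ιι, S.mul_jι, S.mul_jj] at h
    exact Or.inr ⟨e', (S.inj h).symm⟩

set_option maxHeartbeats 400000 in
/-- An element of order eight acting on the standard Sylow subgroup of `H` from outside. -/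
theorem exists_x (S : Split H j ι) (hH : IsCoatom H)
    (hcore : ∀ N : Subgroup G, N.Normal → Group.IsSolvable N → N = ⊥) (g : G) (hg : g ∉ H)
    (hD : Nat.card (H ⊓ H.map (MulAut.conj g).toMonoidHom : Subgroup G) = 16) :
    ∃ x : G, x * j * x⁻¹ = j * ι P4.zz ∧ ι P4.vv * x * (ι P4.vv)⁻¹ = x ^ 3 ∧ x ^ 4 = ι P4.zz ∧
      (x * x = ι (P4.rr * P4.zz) ∨ x * x = ι (P4.rr * P4.zz) * j) := by
  obtain ⟨n0, h0⟩ := S.exists_moves g hg hD
  obtain ⟨n, hn, hnr, hnv⟩ := S.exists_moves_normal hH hcore h0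
  obtain ⟨hnr1, k, hsq, hcases, hv⟩ := S.moves_square hH hcore hn hnr hnv
  have hnj := hn.move_j S hH hcore
  have hnz := hn.fix_z S
  obtain ⟨eA, eB, eC, eD⟩ : P4.vv * (P4.rr * P4.vv) = P4.rr * P4.zz ∧
      P4.rr * P4.zz * (P4.rr * P4.zz) = P4.zz ∧ P4.rr * P4.vv * P4.zz * P4.vv = P4.rr * P4.zz ∧
      P4.rr * P4.zz * (P4.rr * P4.vv) = P4.vv := by decide +kernel
  have hvinv : (ι P4.vv)⁻¹ = ι P4.vv :=
    inv_eq_of_mul_eq_one_right (by rw [S.ιι, mul_self_eq_one P4.rels.2.1, map_one])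
  have hj2 : n * j * (n * j) = ι (P4.zz * k) := by
    rw [show n * j * (n * j) = (n * j * n⁻¹) * (n * n) * j by group, hnj, hsq, S.mul_jι, S.mul_jj]
  have hjconj : ∀ a, n * j * ι a * (n * j)⁻¹ = n * ι a * n⁻¹ := fun a => by
    rw [show n * j * ι a * (n * j)⁻¹ = n * (j * ι a * j⁻¹) * n⁻¹ by group, S.ι_j, mul_inv_cancel_right]
  have hjj : n * j * j * (n * j)⁻¹ = n * j * n⁻¹ := by group
  rcases hv with ⟨e', hk2⟩ | ⟨e', hk2⟩
  · obtain ⟨x, hx, hxj, hxv⟩ : ∃ x : G, x * x = ι (P4.rr * P4.zz) ∧ x * j * x⁻¹ = ι P4.zz * j ∧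
        x * ι P4.vv * x⁻¹ = ι (P4.rr * P4.vv) := by
      rcases hcases with rfl | rfl | rfl | rfl
      · exact absurd hk2 (by decide +kernel)
      · exact absurd hk2 (by decide +kernel)
      · exact ⟨n * j, by rw [hj2, kr_comm], by rw [hjj, hnj], by rw [hjconj, e']⟩
      · exact ⟨n, hsq, hnj, e'⟩
    refine ⟨x, by rw [hxj, S.ι_j], ?_, ?_, Or.inl hx⟩
    · calc ι P4.vv * x * (ι P4.vv)⁻¹ = ι P4.vv * (x * ι P4.vv * x⁻¹) * x := by rw [hvinv]; group
        _ = ι (P4.rr * P4.zz) * x := by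
          rw [hxv, S.ιι, eA]
        _ = x ^ 3 := by rw [pow_succ, pow_two, hx]
    · have h4 : x ^ 4 = x ^ 2 * x ^ 2 := pow_add _ 2 2
      rw [h4, pow_two, hx, S.ιι, eB]
  · obtain ⟨m, hm, hmr, hmj, hmv⟩ : ∃ m : G, m * m = ι P4.zz ∧ m * ι P4.rr * m⁻¹ = ι P4.rr ∧
        m * j * m⁻¹ = ι P4.zz * j ∧ m * ι P4.vv * m⁻¹ = ι (P4.rr * P4.vv) * j := by
      rcases hcases with rfl | rfl | rfl | rfl
      · exact ⟨n * j, by rw [hj2, mul_one], by rw [hjconj, hnr1], by rw [hjj, hnj], by rw [hjconj, e']⟩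
      · exact ⟨n, hsq, hnr1, hnj, e'⟩
      · exact absurd hk2 (by decide +kernel)
      · exact absurd hk2 (by decide +kernel)
    obtain ⟨hxj, hxv, hx⟩ := second_case (q := ι (P4.rr * P4.zz))
      (by rw [S.ιι, mul_self_eq_one P4.rels.2.1, map_one]) hm hmj hmv S.comm_vv.eq
      (by rw [S.mul_jι, S.mul_jι, eC])
      (by rw [← mul_assoc, S.mul_jι, S.mul_jj, eD])
    refine ⟨m * ι P4.vv, by rw [hxj, S.ι_j], hxv, ?_, Or.inr hx⟩
    have h4 : (m * ι P4.vv) ^ 4 = (m * ι P4.vv) ^ 2 * (m * ι P4.vv) ^ 2 := pow_add _ 2 2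
    rw [h4, pow_two, hx, ← mul_assoc, S.mul_jι, S.mul_jj, eB]

end Coatom

end Split

/-- An element of order eight extended by two commuting involutions acting as `3` and `5`. -/
structure Oct (z v j x : G) : Prop where
  zz : z * z = 1
  z1 : z ≠ 1
  vv : v * v = 1
  jj : j * j = 1
  vj : Commute v j
  x4 : x ^ 4 = z
  vx : v * x * v⁻¹ = x ^ 3
  jx : j * x * j⁻¹ = x ^ 5

namespace Oct

variable {z v j x : G}

/-- The group of order thirty-two. -/
abbrev grp (x v j : G) : Subgroup G := zpowers x ⊔ closure ({v, j} : Set G)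

theorem xo (O : Oct z v j x) : orderOf x = 2 ^ 3 := by
  have : Fact (Nat.Prime 2) := ⟨Nat.prime_two⟩
  refine orderOf_eq_prime_pow (n := 2) ?_ ?_
  · rw [show 2 ^ 2 = 4 from rfl, O.x4]; exact O.z1
  · rw [show 2 ^ (2 + 1) = 4 + 4 from rfl, pow_add, O.x4, O.zz]

theorem v_cases (O : Oct z v j x) {w : G} (hw : w ∈ closure ({v, j} : Set G)) :
    w = 1 ∨ w = v ∨ w = j ∨ w = v * j := mem_closure_pair O.vv O.jj O.vj.eq.symm hw

theorem act (O : Oct z v j x) {w : G} (hw : w = 1 ∨ w = v ∨ w = j ∨ w = v * j) :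
    ∃ e : ℤ, Odd e ∧ ∀ i : ℤ, w * x ^ i * w⁻¹ = x ^ (e * i) := by
  have h3 : ∀ i : ℤ, v * x ^ i * v⁻¹ = x ^ (3 * i) := fun i => by
    rw [← conj_zpow, O.vx, zpow_mul, zpow_ofNat]
  have h5 : ∀ i : ℤ, j * x ^ i * j⁻¹ = x ^ (5 * i) := fun i => by
    rw [← conj_zpow, O.jx, zpow_mul, zpow_ofNat]
  rcases hw with e | e | e | e <;> subst e
  · exact ⟨1, ⟨0, by norm_num⟩, fun i => by simp⟩
  · exact ⟨3, ⟨1, by norm_num⟩, h3⟩
  · exact ⟨5, ⟨2, by norm_num⟩, h5⟩
  · refine ⟨15, ⟨7, by norm_num⟩, fun i => ?_⟩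
    rw [show v * j * x ^ i * (v * j)⁻¹ = v * (j * x ^ i * j⁻¹) * v⁻¹ by group, h5, h3]
    congr 1; ring

variable [Finite G]

theorem le_norm (O : Oct z v j x) : closure ({v, j} : Set G) ≤ normalizer (zpowers x : Set G) := by
  intro w hw
  refine mem_normalizer_of_conj fun y hy => ?_
  obtain ⟨i, rfl⟩ := mem_zpowers_iff.1 hy
  obtain ⟨e, -, he⟩ := O.act (O.v_cases hw)
  rw [he]; exact zpow_mem (mem_zpowers x) _

theorem cases (O : Oct z v j x) {y : G} (hy : y ∈ grp x v j) :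
    ∃ (i : ℤ) (w : G), (w = 1 ∨ w = v ∨ w = j ∨ w = v * j) ∧ y = x ^ i * w := by
  have h : y ∈ (zpowers x : Set G) * (closure ({v, j} : Set G) : Set G) := by
    rw [← coe_mul_of_right_le_normalizer_left _ _ O.le_norm]
    exact hy
  obtain ⟨a, ha, w, hw, rfl⟩ := h
  obtain ⟨i, rfl⟩ := mem_zpowers_iff.1 ha
  exact ⟨i, w, O.v_cases hw, rfl⟩

theorem x_mem : x ∈ grp x v j := mem_sup_left (mem_zpowers x)

theorem v_mem : v ∈ grp x v j := mem_sup_right (subset_closure (Or.inl rfl))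

theorem j_mem : j ∈ grp x v j := mem_sup_right (subset_closure (Or.inr rfl))

theorem card_le (O : Oct z v j x) : Nat.card (grp x v j) ≤ 32 := by
  let f : zpowers x × closure ({v, j} : Set G) → grp x v j := fun p =>
    ⟨p.1 * p.2, mul_mem (mem_sup_left p.1.2) (mem_sup_right p.2.2)⟩
  have hf : Function.Surjective f := fun y => by
    have h : (y : G) ∈ (zpowers x : Set G) * (closure ({v, j} : Set G) : Set G) := by
      rw [← coe_mul_of_right_le_normalizer_left _ _ O.le_norm]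
      exact y.2
    obtain ⟨a, ha, w, hw, e⟩ := h
    exact ⟨(⟨a, ha⟩, ⟨w, hw⟩), Subtype.ext e⟩
  refine (Nat.card_le_card_of_surjective f hf).trans ?_
  rw [Nat.card_prod, Nat.card_zpowers, O.xo]
  refine Nat.mul_le_mul_left (2 ^ 3) (?_ : _ ≤ 4)
  let g : Fin 4 → closure ({v, j} : Set G) := fun i =>
    ⟨![1, v, j, v * j] i, by
      fin_cases i
      exacts [one_mem _, subset_closure (Or.inl rfl), subset_closure (Or.inr rfl),
        mul_mem (subset_closure (Or.inl rfl)) (subset_closure (Or.inr rfl))]⟩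
  refine (Nat.card_le_card_of_surjective g fun w => ?_).trans (by simp)
  rcases O.v_cases w.2 with e | e | e | e
  exacts [⟨0, Subtype.ext e.symm⟩, ⟨1, Subtype.ext e.symm⟩, ⟨2, Subtype.ext e.symm⟩, ⟨3, Subtype.ext e.symm⟩]

theorem z_comm (O : Oct z v j x) {y : G} (hy : y ∈ grp x v j) : Commute y z := by
  suffices grp x v j ≤ centralizer ({z} : Set G) from mem_centralizer_singleton_iff.1 (this hy)
  have hw : ∀ w, (w = 1 ∨ w = v ∨ w = j ∨ w = v * j) → w ∈ centralizer ({z} : Set G) := by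
    intro w hw
    obtain ⟨e, ⟨k, hk⟩, he⟩ := O.act hw
    refine mem_centralizer_singleton_iff.2 (mul_inv_eq_iff_eq_mul.1 ?_)
    have h4 := he (4 : ℤ)
    rw [zpow_ofNat, O.x4] at h4
    rw [h4, hk, show (2 * k + 1) * 4 = 8 * k + 4 by ring, zpow_add, zpow_mul, zpow_ofNat, zpow_ofNat,
      show 8 = 4 + 4 from rfl, pow_add, O.x4, O.zz, one_zpow, one_mul]
  refine sup_le (zpowers_le.2 (mem_centralizer_singleton_iff.2 ?_)) ((closure_le _).2 ?_)
  · rw [← O.x4]; exact (Commute.self_pow x 4).eq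
  · rintro w (rfl | rfl)
    · exact hw _ (Or.inr (Or.inl rfl))
    · exact hw _ (Or.inr (Or.inr (Or.inl rfl)))

theorem square_mem (O : Oct z v j x) {y : G} (hy : y ∈ grp x v j) : y * y ∈ zpowers (x ^ 2) := by
  obtain ⟨i, w, hw, rfl⟩ := O.cases hy
  obtain ⟨e, ⟨k, hk⟩, he⟩ := O.act hw
  have hww : w * w = 1 := by
    rcases hw with h | h | h | h <;> rw [h]
    · exact mul_one 1
    · exact O.vv
    · exact O.jj
    · rw [O.vj.symm.mul_mul_mul_comm, O.vv, O.jj, mul_one]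
  refine mem_zpowers_iff.2 ⟨i * (k + 1), ?_⟩
  have h1 : w * x ^ i = x ^ (e * i) * w := by rw [← he, inv_mul_cancel_right]
  rw [mul_assoc, ← mul_assoc w, h1, mul_assoc, hww, mul_one, ← zpow_add, ← zpow_natCast x 2, ← zpow_mul, hk]
  congr 1; push_cast; ring

/-- An involution among the squares is `z`. -/
theorem square_inv (O : Oct z v j x) {y : G} (hy : y ∈ zpowers (x ^ 2)) (h2 : y * y = 1) : y = 1 ∨ y = z := by
  obtain ⟨i, rfl⟩ := mem_zpowers_iff.1 hy
  rw [← zpow_natCast x 2, ← zpow_mul] at h2 ⊢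
  exact zpow_eq_half (m := 3) (by norm_num) O.xo (show x ^ (2 ^ (3 - 1)) = z from O.x4) h2

/-- The centralizer of `x²` is `⟨x, j⟩`. -/
theorem cent_sq (O : Oct z v j x) {y : G} (hy : y ∈ grp x v j) (hc : Commute y (x ^ 2)) :
    ∃ i : ℤ, y = x ^ i ∨ y = x ^ i * j := by
  obtain ⟨i, w, hw, rfl⟩ := O.cases hy
  have hw' : Commute w (x ^ 2) := by
    have := (((Commute.refl x).zpow_left i).inv_left.pow_right 2).mul_left hc
    rwa [inv_mul_cancel_left] at this
  have h6 : x ^ 6 ≠ x ^ 2 := fun e => O.z1 (by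
    rw [← O.x4]; exact mul_left_cancel (a := x ^ 2) (by rw [mul_one, ← pow_add]; exact e))
  have hv : v * x ^ 2 * v⁻¹ = x ^ 6 := by rw [← conj_pow, O.vx, ← pow_mul]
  have hj : j * x ^ 2 * j⁻¹ = x ^ 2 := by
    rw [← conj_pow, O.jx, ← pow_mul, show 5 * 2 = (4 + 4) + 2 from rfl, pow_add, pow_add, O.x4, O.zz, one_mul]
  rcases hw with e | e | e | e <;> subst e
  · exact ⟨i, Or.inl (mul_one _)⟩
  · exact absurd (hv.symm.trans (by rw [hw'.eq, mul_inv_cancel_right])) h6
  · exact ⟨i, Or.inr rfl⟩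
  · refine absurd (hv.symm.trans ?_) h6
    have : v * j * x ^ 2 * (v * j)⁻¹ = x ^ 2 := by rw [hw'.eq, mul_inv_cancel_right]
    rwa [show v * j * x ^ 2 * (v * j)⁻¹ = v * (j * x ^ 2 * j⁻¹) * v⁻¹ by group, hj] at this

/-- The involutions of `⟨x, j⟩`. -/
theorem inv_xj (O : Oct z v j x) {y : G} (hy : ∃ i : ℤ, y = x ^ i ∨ y = x ^ i * j) (h2 : y * y = 1) :
    y = 1 ∨ y = z ∨ y = j ∨ y = z * j := by
  obtain ⟨i, rfl | rfl⟩ := hy
  · rcases zpow_eq_half (m := 3) (by norm_num) O.xo (show x ^ (2 ^ (3 - 1)) = z from O.x4) h2 with e | e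
    exacts [Or.inl e, Or.inr (Or.inl e)]
  · obtain ⟨e, -, he⟩ : ∃ e : ℤ, e = 5 ∧ ∀ i : ℤ, j * x ^ i * j⁻¹ = x ^ (e * i) :=
      ⟨5, rfl, fun i => by rw [← conj_zpow, O.jx, zpow_mul, zpow_ofNat]⟩
    have h6 : x ^ (6 * i) = 1 := by
      have h1 : j * x ^ i = x ^ (5 * i) * j := by
        rw [← conj_zpow.symm.trans (by rw [O.jx, zpow_mul, zpow_ofNat] : (j * x * j⁻¹) ^ i = x ^ (5 * i)),
          inv_mul_cancel_right]
      rw [mul_assoc, ← mul_assoc j, h1, mul_assoc, O.jj, mul_one, ← zpow_add] at h2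
      rw [← h2]; congr 1; ring
    rw [← orderOf_dvd_iff_zpow_eq_one, O.xo] at h6
    push_cast at h6
    obtain ⟨m, rfl⟩ : (4 : ℤ) ∣ i := by omega
    rw [zpow_mul, zpow_ofNat, O.x4]
    obtain ⟨a, rfl | rfl⟩ := Int.even_or_odd' m
    · exact Or.inr (Or.inr (Or.inl (by rw [zpow_mul, zpow_ofNat, pow_two, O.zz, one_zpow, one_mul])))
    · exact Or.inr (Or.inr (Or.inr (by
        rw [zpow_add, zpow_mul, zpow_ofNat, pow_two, O.zz, one_zpow, one_mul, zpow_one])))

end Oct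

namespace Split

variable [Finite G] {H : Subgroup G} {j : G} {ι : P4.S4 →* G} {x : G}

theorem oct (S : Split H j ι) (hxj : x * j * x⁻¹ = j * ι P4.zz)
    (hvx : ι P4.vv * x * (ι P4.vv)⁻¹ = x ^ 3) (hx4 : x ^ 4 = ι P4.zz) :
    Oct (ι P4.zz) (ι P4.vv) j x := by
  obtain ⟨hz2, hv2, -⟩ := P4.rels
  have hjz : Commute j (ι P4.zz) := S.jι _
  refine ⟨by rw [← map_mul, mul_self_eq_one hz2, map_one],
    fun e => ne_one_of_order_two hz2 ((map_eq_one_iff ι S.inj).1 e),
    by rw [← map_mul, mul_self_eq_one hv2, map_one], S.jj, S.comm_vv, hx4, hvx, ?_⟩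
  have hxz : Commute x (ι P4.zz) := hx4 ▸ Commute.self_pow x 4
  calc j * x * j⁻¹ = j * (x * j * x⁻¹) * x := by rw [inv_eq_of_mul_eq_one_right S.jj]; group
    _ = ι P4.zz * x := by rw [hxj, ← mul_assoc, S.jj, one_mul]
    _ = x ^ 5 := by rw [pow_succ, hx4]

theorem D2_le (S : Split H j ι)
    (hx2 : x * x = ι (P4.rr * P4.zz) ∨ x * x = ι (P4.rr * P4.zz) * j) (hx4 : x ^ 4 = ι P4.zz) :
    D2 H ι ≤ Oct.grp x (ι P4.vv) j := by
  have hjm : j ∈ Oct.grp x (ι P4.vv) j := Oct.j_mem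
  have hvm : ι P4.vv ∈ Oct.grp x (ι P4.vv) j := Oct.v_mem
  have hzm : ι P4.zz ∈ Oct.grp x (ι P4.vv) j := hx4 ▸ pow_mem Oct.x_mem 4
  have hrz : ι (P4.rr * P4.zz) ∈ Oct.grp x (ι P4.vv) j := by
    rcases hx2 with e | e
    · exact e ▸ mul_mem Oct.x_mem Oct.x_mem
    · have := mul_mem (e ▸ mul_mem Oct.x_mem Oct.x_mem : ι (P4.rr * P4.zz) * j ∈ Oct.grp x (ι P4.vv) j) hjm
      rwa [mul_assoc, S.jj, mul_one] at this
  have hrm : ι P4.rr ∈ Oct.grp x (ι P4.vv) j := by
    have := mul_mem hrz hzm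
    rwa [← map_mul, mul_assoc, mul_self_eq_one P4.rels.1, mul_one] at this
  intro y hy
  obtain ⟨k, hk, e⟩ := S.D2_cases hy
  have hkm : ι k ∈ Oct.grp x (ι P4.vv) j := by
    rcases cent_zz k hk with rfl | rfl | rfl | rfl | rfl | rfl | rfl | rfl <;> (try simp only [map_mul, map_one]) <;>
      first
        | exact one_mem _
        | assumption
        | exact mul_mem ‹_› ‹_›
        | exact mul_mem hrm hzm
        | exact mul_mem hrm hvm
        | exact mul_mem hzm hvm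
        | exact mul_mem (mul_mem hrm hzm) hvm
  rcases e with rfl | rfl
  · exact hkm
  · exact mul_mem hkm hjm

end Split

end TwoTimes

open TwoTimes in
theorem timesTwo {G : Type*} [Group G] [Finite G] (hns : ¬ Group.IsSolvable G) (H : Subgroup G) (hH : IsCoatom H)
    (hcore : ∀ N : Subgroup G, N.Normal → Group.IsSolvable N → N = ⊥) (g : G) (hg : g ∉ H)
    (hD : Nat.card (H ⊓ H.map (MulAut.conj g).toMonoidHom : Subgroup G) = 16)
    (e : H ≃* Equiv.Perm (Fin 4) × Multiplicative (ZMod 2)) :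
    ∃ N : Subgroup G, N.Normal ∧ N.index = 2 ∧ Subgroup.centralizer (N : Set G) = ⊥ ∧
      Nonempty (N ≃* Matrix.ProjectiveSpecialLinearGroup (Fin 3) (ZMod 3)) := by
  classical
  have h2 : Fact (Nat.Prime 2) := ⟨Nat.prime_two⟩
  set ι : P4.S4 →* G := H.subtype.comp (e.symm.toMonoidHom.comp (MonoidHom.inl _ _)) with hι
  set j : G := ((e.symm (1, Multiplicative.ofAdd 1) : H) : G) with hj
  have hιe : ∀ k, ι k = ((e.symm (k, 1) : H) : G) := fun _ => rfl
  have hmul : ∀ (k : P4.S4), ι k * j = ((e.symm (k, Multiplicative.ofAdd 1) : H) : G) := fun k => by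
    rw [hιe, hj, ← coe_mul, ← map_mul, Prod.mk_mul_mk, mul_one, one_mul]
  have S : Split H j ι :=
    { inj := Subtype.val_injective.comp (e.symm.injective.comp fun a b h => (Prod.ext_iff.1 h).1)
      mem := fun k => (e.symm (k, 1)).2
      jH := (e.symm _).2
      jo := by
        rw [hj, Subgroup.orderOf_coe, MulEquiv.orderOf_eq]
        exact gen_order
      jc := fun y hy => by
        show j * y = y * j
        obtain ⟨p, hp⟩ := e.symm.surjective ⟨y, hy⟩
        rw [show y = ((⟨y, hy⟩ : H) : G) from rfl, ← hp, hj, ← coe_mul, ← coe_mul, ← map_mul, ← map_mul,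
          show (1, Multiplicative.ofAdd (1 : ZMod 2)) * p = p * (1, Multiplicative.ofAdd 1) from
            Prod.ext (by simp) (mul_comm _ _)]
      cov := fun y hy => by
        obtain ⟨⟨k, a⟩, hp⟩ := e.symm.surjective ⟨y, hy⟩
        have hy' : y = ((e.symm (k, a) : H) : G) := by rw [hp]
        rcases mult_two_cases a with rfl | rfl
        · exact ⟨k, Or.inl hy'⟩
        · exact ⟨k, Or.inr (by rw [hmul, hy'])⟩
      indep := fun k h => by
        have := congrArg Prod.snd (e.symm.injective (Subtype.ext ((hιe k).symm.trans h)))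
        exact ofAdd_one_ne this.symm }
  obtain ⟨x, hxj, hvx, hx4, hx2⟩ := S.exists_x hH hcore g hg hD
  have O := S.oct hxj hvx hx4
  obtain ⟨hz2, hv2, hvz, hvne, hhz, hhv, hh3, hrr, hrv⟩ := P4.rels
  set z := ι P4.zz with hz
  set v := ι P4.vv with hv
  set T1 := Oct.grp x v j with hT1
  have hxH : x ∉ H := fun h => by
    rw [← (S.jc x h).eq, mul_inv_cancel_right, eq_comm, mul_eq_left] at hxj
    exact O.z1 hxj
  have hD2 : Split.D2 H ι ≤ T1 := S.D2_le hx2 hx4
  -- the order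
  have hcT1 : Nat.card T1 = 32 := by
    have h1 := card_dvd_of_le hD2
    rw [S.card_D2] at h1
    have h3 : Nat.card (Split.D2 H ι) < Nat.card T1 := by
      refine lt_of_le_of_ne (card_le_of_le hD2) fun he => hxH ?_
      have := eq_of_le_of_card_ge hD2 he.ge
      exact ((this ▸ Oct.x_mem : x ∈ Split.D2 H ι)).1
    rw [S.card_D2] at h3
    have := O.card_le
    obtain ⟨m, hm⟩ := h1
    rw [← hT1] at this
    omega
  have hT1p : IsPGroup 2 T1 := IsPGroup.of_card (n := 5) (by rw [hcT1]; norm_num)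
  have hnot : ¬ 2 ∣ T1.index := by
    intro hd
    have h64 : 2 ^ (5 + 1) ∣ Nat.card G := by
      rw [← T1.card_mul_index, hcT1, pow_succ]
      exact mul_dvd_mul_left 32 hd
    obtain ⟨K, hK, hle⟩ := Sylow.exists_subgroup_card_pow_succ (p := 2) (n := 5) h64 (H := T1)
      (by rw [hcT1]; norm_num)
    have hidx : (T1.subgroupOf K).index = 2 := by
      have h := (T1.subgroupOf K).card_mul_index
      rw [Nat.card_congr (subgroupOfEquivOfLe hle).toEquiv, hcT1, hK] at h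
      omega
    have hN := normal_of_index_eq_two hidx
    refine absurd (card_le_of_le (show K ≤ T1 from fun y hy => ?_)) (by rw [hK, hcT1]; norm_num)
    have hn : ∀ t ∈ T1, y * t * y⁻¹ ∈ T1 := fun t ht => hN.conj_mem ⟨t, hle ht⟩ ht ⟨y, hy⟩
    -- `y` normalises the group
    have hsq : ∀ t ∈ zpowers (x ^ 2), y * t * y⁻¹ ∈ zpowers (x ^ 2) := by
      suffices zpowers (x ^ 2) ≤ (zpowers (x ^ 2)).comap (MulAut.conj y).toMonoidHom from fun t ht => this ht
      refine zpowers_le.2 ?_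
      rw [mem_comap, MulEquiv.coe_toMonoidHom, MulAut.conj_apply, ← conj_pow, pow_two (y * x * y⁻¹)]
      exact O.square_mem (hn x Oct.x_mem)
    have hyz : Commute y z := by
      refine mul_inv_eq_iff_eq_mul.1 ((O.square_inv (hsq z ?_) ?_).resolve_left ?_)
      · rw [← hx4, show x ^ 4 = (x ^ 2) ^ 2 from pow_mul x 2 2]; exact pow_mem (mem_zpowers _) 2
      · rw [show y * z * y⁻¹ * (y * z * y⁻¹) = y * (z * z) * y⁻¹ by group, O.zz, mul_one, mul_inv_cancel]
      · exact fun h => O.z1 (conj_eq_one_iff.1 h)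
    have hyj : Commute (y * j * y⁻¹) (x ^ 2) := by
      obtain ⟨t, ht, hte⟩ : ∃ t ∈ zpowers (x ^ 2), y * t * y⁻¹ = x ^ 2 := by
        have he : (zpowers (x ^ 2)).map (MulAut.conj y).toMonoidHom = zpowers (x ^ 2) :=
          eq_of_le_of_card_ge (by rintro _ ⟨t, ht, rfl⟩; exact hsq t ht)
            (by rw [card_map_of_injective (MulAut.conj y).injective])
        have := he.ge (mem_zpowers (x ^ 2))
        obtain ⟨t, ht, hte⟩ := this
        exact ⟨t, ht, hte⟩
      rw [← hte]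
      refine Commute.map ?_ (MulAut.conj y).toMonoidHom
      obtain ⟨i, rfl⟩ := mem_zpowers_iff.1 ht
      refine Commute.zpow_right ?_ i
      refine mul_inv_eq_iff_eq_mul.1 ?_
      rw [← conj_pow, O.jx, ← pow_mul, show 5 * 2 = (4 + 4) + 2 from rfl, pow_add, pow_add, O.x4, O.zz, one_mul]
    have hu : ∀ u : G, u * j * u⁻¹ = j → Commute u z → u ∈ T1 := fun u h1 h2 =>
      hD2 (Split.mem_D2.2 ⟨S.cent_j hH hcore (mul_inv_eq_iff_eq_mul.1 h1), h2⟩)
    rcases O.inv_xj (O.cent_sq (hn j Oct.j_mem) hyj) (by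
        rw [show y * j * y⁻¹ * (y * j * y⁻¹) = y * (j * j) * y⁻¹ by group, O.jj, mul_one, mul_inv_cancel])
      with h | h | h | h
    · exact absurd (conj_eq_one_iff.1 h) (ne_one_of_order_two S.jo)
    · exfalso
      refine S.indep P4.zz ?_
      show z = j
      calc z = y⁻¹ * (z * y) := by rw [← hyz.eq, inv_mul_cancel_left]
        _ = y⁻¹ * (y * j * y⁻¹ * y) := by rw [h]
        _ = j := by group
    · exact hu y h hyz
    · have hxu : x⁻¹ * y ∈ T1 := by
        refine hu _ ?_ ((O.z_comm (inv_mem Oct.x_mem)).mul_left hyz)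
        have hc : z * j = j * z := (S.jι P4.zz).eq.symm
        rw [show x⁻¹ * y * j * (x⁻¹ * y)⁻¹ = x⁻¹ * (y * j * y⁻¹) * x by group, h, hc, ← hxj]
        group
      have := mul_mem Oct.x_mem hxu
      rwa [mul_inv_cancel_left] at this
  let T : Sylow 2 G := hT1p.toSylow hnot
  -- rigidity of square roots
  have hrigid : ∀ q : G, Commute q z → q * q ≠ 1 → (q * q) * (q * q) = 1 → q * q = z := by
    intro q hqz hq1 hq4
    set C := centralizer ({z} : Set G)
    have hTC : (T : Subgroup G) ≤ C := fun t ht => mem_centralizer_singleton_iff.2 (O.z_comm ht).eq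
    obtain ⟨c, hc⟩ := Invol.exists_conj_mem_of_isPGroup (T.subtype hTC)
      (x := (⟨q, mem_centralizer_singleton_iff.2 hqz.eq⟩ : C))
      ⟨1 + 1, by
        rw [Subgroup.orderOf_mk]
        refine orderOf_eq_prime_pow (by rwa [pow_one, pow_two]) ?_
        rw [← hq4]; simp [pow_succ, mul_assoc]⟩
    rw [T.coe_subtype hTC, mem_subgroupOf] at hc
    have hc' : (c : G) * q * (c : G)⁻¹ ∈ T1 := hc
    have h := O.square_mem hc'
    rw [show (c : G) * q * (c : G)⁻¹ * ((c : G) * q * (c : G)⁻¹) = c * (q * q) * (c : G)⁻¹ by group] at h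
    have hcz : Commute (c : G) z := mem_centralizer_singleton_iff.1 c.2
    rcases O.square_inv h (by
      rw [show (c : G) * (q * q) * (c : G)⁻¹ * (c * (q * q) * (c : G)⁻¹) = c * ((q * q) * (q * q)) * (c : G)⁻¹ by
        group, hq4, mul_one, mul_inv_cancel]) with e1 | e1
    · exact absurd (conj_eq_one_iff.1 e1) hq1
    · exact (MulAut.conj (c : G)).injective (e1.trans (by rw [MulAut.conj_apply, hcz.eq, mul_inv_cancel_right]))
  have hnotjz : ¬ IsConj z j := by
    intro hc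
    obtain ⟨c, hc⟩ := isConj_iff.1 hc
    have hle : T1.map (MulAut.conj c).toMonoidHom ≤ H := by
      rintro _ ⟨t, ht, rfl⟩
      refine S.cent_j hH hcore ?_
      rw [← hc]
      exact (O.z_comm ht).map (MulAut.conj c).toMonoidHom
    have := card_dvd_of_le hle
    rw [card_map_of_injective (MulAut.conj c).injective, hcT1, S.card_H] at this
    omega
  -- transfer
  set M := zpowers x ⊔ zpowers v with hM
  have hnx : zpowers v ≤ normalizer (zpowers x : Set G) :=
    zpowers_le.2 (O.le_norm (subset_closure (Or.inl rfl)))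
  have hMmem : ∀ y ∈ M, ∃ i : ℤ, y = x ^ i ∨ y = x ^ i * v := by
    intro y hy
    have h : y ∈ (zpowers x : Set G) * (zpowers v : Set G) := by
      rw [← coe_mul_of_right_le_normalizer_left _ _ hnx]; exact hy
    obtain ⟨a, ha, w, hw, rfl⟩ := h
    obtain ⟨i, rfl⟩ := mem_zpowers_iff.1 ha
    obtain ⟨m, rfl⟩ := mem_zpowers_iff.1 hw
    obtain ⟨k, rfl | rfl⟩ := Int.even_or_odd' m
    · exact ⟨i, Or.inl (by simp only [zpow_mul, zpow_ofNat, pow_two, O.vv, one_zpow, mul_one])⟩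
    · exact ⟨i, Or.inr (by
        rw [zpow_add, zpow_mul, zpow_one, zpow_two, O.vv, one_zpow, one_mul])⟩
  have hMT : M ≤ T1 := sup_le (zpowers_le.2 Oct.x_mem) (zpowers_le.2 Oct.v_mem)
  have hjM : j ∉ M := by
    intro hjm
    obtain ⟨i, h | h⟩ := hMmem j hjm
    · have : Commute x j := h ▸ (Commute.refl x).zpow_right i
      rw [this.eq, mul_inv_cancel_right, eq_comm, mul_eq_left] at hxj
      exact O.z1 hxj
    · have h1 : Commute (j * v⁻¹) x := by
        rw [h, mul_inv_cancel_right]; exact (Commute.refl x).zpow_left i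
      have h15 : v * j * x * (v * j)⁻¹ = x := by
        have e1 : j * v⁻¹ = v * j := by rw [inv_eq_of_mul_eq_one_right O.vv]; exact O.vj.eq.symm
        rw [← e1, h1.eq, mul_inv_cancel_right]
      rw [show v * j * x * (v * j)⁻¹ = v * (j * x * j⁻¹) * v⁻¹ by group, O.jx, ← conj_pow, O.vx,
        ← pow_mul, show 3 * 5 = (4 + 4) + 7 from rfl, pow_add, pow_add, O.x4, O.zz, one_mul] at h15
      have h6 : x ^ 6 = 1 := mul_right_cancel (b := x) (by rw [← pow_succ, h15, one_mul])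
      have := orderOf_dvd_of_pow_eq_one h6
      rw [O.xo] at this
      omega
  have hrel : M.relIndex (T : Subgroup G) = 2 := by
    rw [relIndex_eq_two_iff]
    refine ⟨j, Oct.j_mem, fun b hb => ?_⟩
    obtain ⟨i, w, hw, rfl⟩ := O.cases hb
    have hxi : x ^ i ∈ M := mem_sup_left (zpow_mem (mem_zpowers x) i)
    have hvM : v ∈ M := mem_sup_right (mem_zpowers v)
    rw [mul_assoc, M.mul_mem_cancel_left hxi, M.mul_mem_cancel_left hxi, xor_iff_iff_not]
    rcases hw with e1 | e1 | e1 | e1 <;> subst e1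
    · simp [one_mem, hjM]
    · rw [M.mul_mem_cancel_left hvM]; simp [hvM, hjM]
    · simp [O.jj, hjM, one_mem]
    · rw [mul_assoc, O.jj, mul_one, M.mul_mem_cancel_left hvM]; simp [hvM, hjM]
  have hz1 : orderOf z = 2 := (orderOf_map S.inj _).trans hz2
  have hzv : IsConj z v := isConj_iff.2 ⟨ι P4.hh, by rw [hv, ← map_inv, ← map_mul, ← map_mul, hhz]⟩
  obtain ⟨G0, hG0n, hG0i, hjG0⟩ := TwoTransfer.exists_index_two T M hrel j Oct.j_mem
    (fun k g' hk _ => by
      obtain ⟨i, rfl⟩ : ∃ i, k = i + 1 := ⟨k - 1, by omega⟩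
      rw [pow_succ', pow_mul, pow_two, S.jj, one_pow, mul_one, inv_mul_cancel]
      exact one_mem _)
    (fun g' hg' hgM => by
      have hsq : g'⁻¹ * j * g' * (g'⁻¹ * j * g') = 1 := by
        rw [show g'⁻¹ * j * g' * (g'⁻¹ * j * g') = g'⁻¹ * (j * j) * g' by group, S.jj, mul_one, inv_mul_cancel]
      have hjconj : IsConj j (g'⁻¹ * j * g') := isConj_iff.2 ⟨g'⁻¹, by rw [inv_inv]⟩
      refine hnotjz (IsConj.trans ?_ hjconj.symm)
      obtain ⟨i, h | h⟩ := hMmem _ hgM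
      · rw [h] at hsq ⊢
        rcases zpow_eq_half (m := 3) (by norm_num) O.xo (show x ^ (2 ^ (3 - 1)) = z from O.x4) hsq with e1 | e1
        · exfalso
          rw [e1] at h
          exact ne_one_of_order_two S.jo (by
            calc j = g' * (g'⁻¹ * j * g') * g'⁻¹ := by group
              _ = 1 := by rw [h]; group)
        · rw [e1]
      · rw [h] at hsq ⊢
        have hswap : ∀ a : ℤ, v * x ^ a = x ^ (3 * a) * v := fun a => by
          rw [show x ^ (3 * a) = v * x ^ a * v⁻¹ by rw [← conj_zpow, O.vx, zpow_mul, zpow_ofNat],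
            inv_mul_cancel_right]
        rw [mul_assoc, ← mul_assoc v, hswap, mul_assoc, O.vv, mul_one, ← zpow_add,
          ← orderOf_dvd_iff_zpow_eq_one, O.xo] at hsq
        push_cast at hsq
        obtain ⟨a, rfl⟩ : (2 : ℤ) ∣ i := by omega
        refine hzv.trans (isConj_iff.2 ⟨x ^ (-a), ?_⟩)
        rw [zpow_neg, inv_inv, mul_assoc, hswap, ← mul_assoc, ← zpow_neg, ← zpow_add]
        congr 2; ring)
  haveI := hG0n
  have hsqG0 : ∀ a : G, a * a ∈ G0 := fun a => mul_self_mem_of_index_two hG0i a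
  have hzG0 : z ∈ G0 := by
    rw [← O.x4, show 4 = 2 + 2 from rfl, pow_add]; exact hsqG0 _
  have hvG0 : v ∈ G0 := by
    obtain ⟨c, hc⟩ := isConj_iff.1 hzv
    exact hc ▸ hG0n.conj_mem z hzG0 c
  have hjeq : ∀ a : G, a ∉ G0 → a * j ∈ G0 := fun a ha =>
    (mul_mem_iff_of_index_two hG0i).2 (iff_of_false ha hjG0)
  -- the symmetric group inside
  obtain ⟨ι0, hι0⟩ : ∃ ι0 : P4.S4 →* G, ∀ k, ι0 k ∈ G0 ∧ (ι0 k = ι k ∨ ι0 k = ι k * j) := by
    let f : P4.S4 → G := fun k => if ι k ∈ G0 then ι k else ι k * j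
    have hf : ∀ k, f k ∈ G0 ∧ (f k = ι k ∨ f k = ι k * j) := fun k => by
      by_cases h : ι k ∈ G0
      · simp [f, h]
      · simp [f, h, hjeq _ h]
    refine ⟨MonoidHom.mk' f fun a b => ?_, hf⟩
    have hmem : ι (a * b) ∈ G0 ↔ (ι a ∈ G0 ↔ ι b ∈ G0) := by rw [map_mul, mul_mem_iff_of_index_two hG0i]
    simp only [f]
    by_cases ha : ι a ∈ G0 <;> by_cases hb : ι b ∈ G0
    · rw [if_pos (hmem.2 (iff_of_true ha hb)), if_pos ha, if_pos hb, map_mul]
    · rw [if_neg (fun h => hb ((hmem.1 h).1 ha)), if_pos ha, if_neg hb, map_mul, mul_assoc]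
    · rw [if_neg (fun h => ha ((hmem.1 h).2 hb)), if_neg ha, if_pos hb, S.mul_jι]
    · rw [if_pos (hmem.2 (iff_of_false ha hb)), if_neg ha, if_neg hb, ← mul_assoc, S.mul_jι, S.mul_jj]
  have h0fix : ∀ k, ι k ∈ G0 → ι0 k = ι k := fun k hk => by
    refine (hι0 k).2.resolve_right fun h => hjG0 ?_
    have := (hι0 k).1
    rw [h] at this
    exact (G0.mul_mem_cancel_left hk).1 this
  have hzz0 : ι0 P4.zz = z := h0fix _ hzG0
  have hvv0 : ι0 P4.vv = v := h0fix _ hvG0
  have hinj0 : Function.Injective ι0 := fun a b h => by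
    rcases (hι0 a).2 with ea | ea <;> rcases (hι0 b).2 with eb | eb <;> rw [ea, eb] at h
    · exact S.inj h
    · exact absurd h (S.ne_mul_j _ _)
    · exact absurd h.symm (S.ne_mul_j _ _)
    · exact S.eq_of_mul_j h
  have hι0H : ∀ k, ι0 k ∈ H := fun k => by
    rcases (hι0 k).2 with e1 | e1 <;> rw [e1]
    exacts [S.mem k, mul_mem (S.mem k) S.jH]
  have hcov0 : ∀ y ∈ H, ∃ k, y = ι0 k ∨ y = ι0 k * j := by
    intro y hy
    obtain ⟨k, hk⟩ := S.cov y hy
    rcases hk with rfl | rfl <;> rcases (hι0 k).2 with e1 | e1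
    · exact ⟨k, Or.inl e1.symm⟩
    · exact ⟨k, Or.inr (by rw [e1, mul_assoc, S.jj, mul_one])⟩
    · exact ⟨k, Or.inr (by rw [e1])⟩
    · exact ⟨k, Or.inl e1.symm⟩
  have hHG0 : ∀ y ∈ H, y ∈ G0 → ∃ k, y = ι0 k := by
    intro y hy hy0
    obtain ⟨k, e1 | e1⟩ := hcov0 y hy
    · exact ⟨k, e1⟩
    · exact absurd ((G0.mul_mem_cancel_left (hι0 k).1).1 (e1 ▸ hy0)) hjG0
  set ι1 : P4.S4 →* G0 := ι0.codRestrict G0 fun k => (hι0 k).1 with hι1
  have hinj1 : Function.Injective ι1 := fun a b h => hinj0 (congrArg Subtype.val h)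
  -- the base in the subgroup of index two
  have hNV : normalizer (fourOf ι : Set G) = H := by
    refine S.normalizer_eq hH hcore (isSolvable_fourOf ι) (fourOf_ne_bot S.inj) fun y hy w hw => ?_
    obtain ⟨k, rfl | rfl⟩ := S.cov y hy
    · exact normalizes_fourOf ι k w hw
    · obtain ⟨p, hp, rfl⟩ := mem_fourOf hw
      rw [show ι k * j * ι p * (ι k * j)⁻¹ = ι k * (j * ι p * j⁻¹) * (ι k)⁻¹ by group, (S.jι p).eq,
        mul_inv_cancel_right]
      exact normalizes_fourOf ι k _ (map_mem_fourOf ι hp)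
  have hcentV : ∀ y : G, Commute y z → Commute y v → y ∈ H := by
    intro y h1 h2
    rw [← hNV]
    refine mem_normalizer_of_conj fun w hw => ?_
    have : Commute y w := by
      obtain ⟨p, hp, rfl⟩ := mem_fourOf hw
      rcases hp with rfl | rfl | rfl | rfl
      · rw [map_one]; exact Commute.one_right y
      · exact h1
      · exact h2
      · rw [map_mul]; exact h1.mul_right h2
    rw [this.eq, mul_inv_cancel_right]; exact hw
  have B : Base (ι1 P4.zz) (ι1 P4.vv) (ι1 P4.hh) := by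
    refine base_of_embedding hinj1 fun y h1 h2 => ?_
    have h1' : Commute (y : G) z := by rw [← hzz0]; exact congrArg Subtype.val h1.eq
    have h2' : Commute (y : G) v := by rw [← hvv0]; exact congrArg Subtype.val h2.eq
    obtain ⟨k, hk⟩ := hHG0 y (hcentV y h1' h2') y.2
    have hy : y = ι1 k := Subtype.ext hk
    subst hy
    refine map_mem_fourOf ι1 ?_
    rw [← hzz0] at h1'
    rw [← hvv0] at h2'
    exact P4.cent k (hinj0 (by rw [map_mul, map_mul]; exact h1'.eq))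
      (hinj0 (by rw [map_mul, map_mul]; exact h2'.eq))
  have hCz : ∀ a : G0, Commute a (ι1 P4.zz) ↔ Commute (a : G) z := fun a => by
    rw [← hzz0]; exact ⟨fun h => congrArg Subtype.val h.eq, fun h => Subtype.ext h.eq⟩
  -- no subgroup of index two
  have hidx : ∀ M0 : Subgroup G0, M0.index ≠ 2 := by
    intro M0 hM0
    have hM0n := normal_of_index_eq_two hM0
    set A := M0.map G0.subtype with hA
    have hAG0 : A ≤ G0 := map_subtype_le M0
    have hAc : ∀ c ∈ G0, ∀ a ∈ A, c * a * c⁻¹ ∈ A := by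
      rintro c hc _ ⟨a, ha, rfl⟩
      exact ⟨⟨c, hc⟩ * a * ⟨c, hc⟩⁻¹, hM0n.conj_mem a ha _, rfl⟩
    set L := A ⊓ A.map (MulAut.conj j).toMonoidHom with hL
    have hjinv : j⁻¹ = j := inv_eq_of_mul_eq_one_right S.jj
    have hAj : ∀ a, a ∈ A.map (MulAut.conj j).toMonoidHom ↔ j * a * j ∈ A := by
      intro a
      constructor
      · rintro ⟨b, hb, rfl⟩
        show j * (j * b * j⁻¹) * j ∈ A
        rwa [show j * (j * b * j⁻¹) * j = (j * j) * b by group, S.jj, one_mul]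
      · intro ha
        exact ⟨_, ha, by
          show j * (j * a * j) * j⁻¹ = a
          rw [show j * (j * a * j) * j⁻¹ = (j * j) * a by group, S.jj, one_mul]⟩
    have hLn : L.Normal := ⟨fun a ha c => by
      have hG : ∀ c ∈ G0, ∀ a ∈ L, c * a * c⁻¹ ∈ L := by
        intro c hc a ha
        refine ⟨hAc c hc a ha.1, (hAj _).2 ?_⟩
        have := hAc (j * c * j⁻¹) (hG0n.conj_mem c hc j) _ ((hAj a).1 ha.2)
        rw [show j * c * j⁻¹ * (j * a * j) * (j * c * j⁻¹)⁻¹ = j * c * (j⁻¹ * j) * a * (j * j) * c⁻¹ * j⁻¹ by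
          group, S.jj, inv_mul_cancel, mul_one, mul_one, hjinv] at this
        simpa [mul_assoc] using this
      have hJ : ∀ a ∈ L, j * a * j⁻¹ ∈ L := by
        intro a ha
        rw [hjinv]
        refine ⟨(hAj a).1 ha.2, (hAj _).2 ?_⟩
        rw [show j * (j * a * j) * j = (j * j) * a * (j * j) by group, S.jj, one_mul, mul_one]
        exact ha.1
      by_cases hc : c ∈ G0
      · exact hG c hc a ha
      · have := hJ _ (hG (j * c) ((mul_mem_iff_of_index_two hG0i).2 (iff_of_false hjG0 hc)) a ha)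
        rwa [show j * (j * c * a * (j * c)⁻¹) * j⁻¹ = (j * j) * c * a * c⁻¹ * (j * j)⁻¹ by group, S.jj,
          one_mul, inv_one, mul_one] at this⟩
    have hLsq : ∀ a ∈ G0, a * a ∈ L := by
      intro a ha
      refine ⟨⟨⟨a, ha⟩ * ⟨a, ha⟩, mul_self_mem_of_index_two hM0 _, rfl⟩, (hAj _).2 ?_⟩
      have : j * (a * a) * j = (j * a * j⁻¹) * (j * a * j⁻¹) := by
        rw [hjinv, show j * a * j * (j * a * j) = j * a * (j * j) * a * j by group, S.jj, mul_one]; group
      rw [this]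
      exact ⟨⟨_, hG0n.conj_mem a ha j⟩ * ⟨_, hG0n.conj_mem a ha j⟩, mul_self_mem_of_index_two hM0 _, rfl⟩
    have hLr : ∀ k : P4.S4, ι0 k ∈ L := by
      have hh : ι0 P4.hh ∈ L := by
        rw [show P4.hh = (P4.hh * P4.hh) * (P4.hh * P4.hh) by
          calc P4.hh = P4.hh ^ 3 * P4.hh := by rw [hh3, one_mul]
            _ = _ := by simp [pow_succ, mul_assoc], map_mul]
        exact hLsq _ (hι0 _).1
      have hxsq : x * x ∈ L := by
        by_cases hx0 : x ∈ G0
        · exact hLsq x hx0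
        · have h6 : x * j * (x * j) ∈ L := hLsq _ (hjeq x hx0)
          have hzL : z ∈ L := by
            rw [← O.x4, show 4 = 2 + 2 from rfl, pow_add, pow_two]; exact hLsq _ (hsqG0 x)
          have e1 : x * j * (x * j) = x * x * z := by
            rw [show x * j * (x * j) = x * (j * x * j⁻¹) * (j * j) by group, S.jj, mul_one, O.jx, pow_succ,
              O.x4, (O.z_comm Oct.x_mem).eq.symm, mul_assoc]
          rw [e1] at h6
          exact (L.mul_mem_cancel_right hzL).1 h6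
      obtain ⟨k, hk⟩ : ∃ k, x * x = ι0 k := hHG0 _ (by
        rcases hx2 with e1 | e1 <;> rw [e1]
        exacts [S.mem _, mul_mem (S.mem _) S.jH]) (hsqG0 x)
      have hkk : k * k = P4.zz := hinj0 (by
        rw [map_mul, ← hk, hzz0, ← O.x4, show 4 = 2 + 2 from rfl, pow_add, pow_two])
      have hzL : ι0 P4.zz ∈ L := by rw [← hrr, map_mul]; exact hLsq _ (hι0 _).1
      have hrL : ι0 P4.rr ∈ L := by
        rcases root_cases k hkk with rfl | rfl
        · exact hk ▸ hxsq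
        · have : ι0 (P4.rr * P4.zz) ∈ L := hk ▸ hxsq
          rw [map_mul] at this
          exact (L.mul_mem_cancel_right hzL).1 this
      have hvL : ι0 P4.vv ∈ L := by
        rw [← hhz, map_mul, map_mul, map_inv]; exact hLn.conj_mem _ hzL _
      intro k
      obtain ⟨a, b, c, rfl⟩ := P4.gen k
      rw [map_mul, map_mul, map_pow, map_pow, map_pow]
      exact mul_mem (mul_mem (pow_mem hrL _) (pow_mem hvL _)) (pow_mem hh _)
    have hLG0 : L ≤ G0 := inf_le_left.trans hAG0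
    rcases (le_sup_left : H ≤ H ⊔ L).eq_or_lt with e1 | e1
    · have hLH : L ≤ H := e1 ▸ le_sup_right
      have hsol : Group.IsSolvable L := by
        have : Group.IsSolvable (Equiv.Perm (Fin 4) × Multiplicative (ZMod 2)) := by
          have h4 : Group.IsSolvable (Equiv.Perm (Fin 4)) := OrderType.s4_solvable
          infer_instance
        exact Group.isSolvable_of_isSolvable_injective
          (f := e.toMonoidHom.comp (Subgroup.inclusion hLH)) (e.injective.comp (Subgroup.inclusion_injective hLH))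
      have := hLr P4.zz
      rw [hcore L hLn hsol, mem_bot, map_eq_one_iff ι0 hinj0] at this
      exact ne_one_of_order_two hz2 this
    · have htop := hH.2 _ e1
      have hG0L : G0 ≤ L := by
        intro y hy
        have hy' : y ∈ ((H ⊔ L : Subgroup G) : Set G) := by rw [htop]; exact mem_top y
        rw [mul_normal] at hy'
        obtain ⟨a, ha, b, hb, rfl⟩ := hy'
        obtain ⟨k, rfl⟩ := hHG0 a ha ((G0.mul_mem_cancel_right (hLG0 hb)).1 hy)
        exact mul_mem (hLr k) hb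
      have hM0top : M0 = ⊤ := eq_top_iff.2 fun a _ => by
        obtain ⟨b, hb, hba⟩ := (hG0L a.2).1
        exact (Subtype.ext hba : b = a) ▸ hb
      rw [hM0top, index_top] at hM0
      omega
  have hodd : ∀ N : Subgroup G0, N.Normal → Odd (Nat.card N) → N = ⊥ := by
    intro N hN ho
    have hle : N ≤ Cfsg.oddCore G0 := Core.le_pPrimeCore (Nat.coprime_two_right.2 ho)
    have hbot : (Cfsg.oddCore G0).map G0.subtype = ⊥ := by
      refine odd_normal_eq_bot hcore _ inferInstance ?_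
      rw [card_map_of_injective G0.subtype_injective]
      exact Nat.coprime_two_right.1 (Core.coprime_card_pPrimeCore (p := 2))
    rw [map_eq_bot_iff_of_injective _ G0.subtype_injective] at hbot
    exact eq_bot_iff.2 (hbot ▸ hle)
  -- the Sylow subgroup of the subgroup of index two
  have hc16 : Nat.card (T1.subgroupOf G0) = 16 := by
    have h1 : G0.relIndex T1 = 2 := by
      rcases (Nat.dvd_prime Nat.prime_two).1 (hG0i ▸ relIndex_dvd_index_of_normal G0 T1) with h | h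
      · exact absurd (relIndex_eq_one.1 h Oct.j_mem) hjG0
      · exact h
    have h := (G0.subgroupOf T1).card_mul_index
    rw [show (G0.subgroupOf T1).index = 2 from h1, hcT1] at h
    have e1 : Nat.card (T1.subgroupOf G0) = Nat.card (G0.subgroupOf T1) :=
      Nat.card_congr
        { toFun := fun a => ⟨⟨a.1.1, a.2⟩, a.1.2⟩
          invFun := fun a => ⟨⟨a.1.1, a.2⟩, a.1.2⟩
          left_inv := fun _ => rfl
          right_inv := fun _ => rfl }
    omega
  have hn0 : ¬ 2 ∣ (T1.subgroupOf G0).index := by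
    intro hd
    apply hnot
    have h := (T1.subgroupOf G0).card_mul_index
    have hg0 := G0.card_mul_index
    have ht := T1.card_mul_index
    rw [hc16] at h
    rw [hG0i, ← h, ← ht, hcT1] at hg0
    omega
  let T0 : Sylow 2 G0 := (IsPGroup.of_card (n := 4) (by rw [hc16]; norm_num) :
    IsPGroup 2 (T1.subgroupOf G0)).toSylow hn0
  have hT0c : Nat.card (T0 : Subgroup G0) = 2 ^ (3 + 1) := hc16
  have hvT0 : ι1 P4.vv ∈ (T0 : Subgroup G0) := by
    show ι0 P4.vv ∈ T1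
    rw [hvv0]; exact Oct.v_mem
  have hnvx : ∀ y : G0, (∀ i : ℤ, Commute (y : G) v → False) → ι1 P4.vv ∉ zpowers y := by
    intro y hy hm
    obtain ⟨i, hi⟩ := mem_zpowers_iff.1 hm
    refine hy 0 ?_
    rw [← hvv0]
    have : Commute y (ι1 P4.vv) := hi ▸ (Commute.refl y).zpow_right i
    exact congrArg Subtype.val this.eq
  have hxv : ¬ Commute x v := fun h => by
    have h3 := O.vx
    rw [h.symm.eq, mul_inv_cancel_right] at h3
    have : x ^ 2 = 1 := mul_left_cancel (a := x) (by rw [← pow_succ', ← h3, mul_one])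
    have := orderOf_dvd_of_pow_eq_one this
    rw [O.xo] at this
    omega
  -- `x` lies in the subgroup of index two
  have hxG0 : x ∈ G0 := by
    by_contra hx0
    have hy : x * j ∈ G0 := hjeq x hx0
    set y : G0 := ⟨x * j, hy⟩ with hydef
    have hy2 : (x * j) * (x * j) = x ^ 6 := by
      rw [show x * j * (x * j) = x * (j * x * j⁻¹) * (j * j) by group, S.jj, mul_one, O.jx, ← pow_succ']
    have hy4 : (x * j) ^ 4 = z := by
      rw [show 4 = 2 + 2 from rfl, pow_add, pow_two, hy2, ← pow_add, show 6 + 6 = (4 + 4) + 4 from rfl,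
        pow_add, pow_add, O.x4, O.zz, one_mul]
    have hyo : orderOf y = 2 ^ 3 := by
      rw [← orderOf_injective G0.subtype G0.subtype_injective]
      refine orderOf_eq_prime_pow (n := 2) ?_ ?_
      · show (x * j) ^ 4 ≠ 1
        rw [hy4]; exact O.z1
      · show (x * j) ^ (4 + 4) = 1
        rw [pow_add, hy4, O.zz]
    have hyv : ¬ Commute (x * j) v := fun h => hxv (by
      have := h.mul_left O.vj.symm
      rwa [mul_assoc, S.jj, mul_one] at this)
    have D : TData (ι1 P4.zz) (ι1 P4.vv) T0 y 3 :=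
      ⟨mul_mem Oct.x_mem Oct.j_mem, hvT0, le_rfl, hyo, hT0c,
        Subtype.ext (show (x * j) ^ 4 = ι0 P4.zz by rw [hzz0, hy4]), hnvx y fun _ => hyv⟩
    set u : G0 := ι1 P4.vv * y with hudef
    have hu : (u : G) = v * (x * j) := by
      show ι0 P4.vv * (x * j) = _
      rw [hvv0]
    have hu1 : u ≠ 1 := fun h => hnvx y (fun _ => hyv) (by
      rw [mul_eq_one_iff_eq_inv] at h; rw [h]; exact inv_mem (mem_zpowers y))
    have hu2 : orderOf u = 2 := by
      refine orderOf_eq_prime ?_ hu1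
      refine Subtype.ext ?_
      rw [SubmonoidClass.coe_pow, OneMemClass.coe_one, hu, pow_two,
        show v * (x * j) * (v * (x * j)) = v * x * (j * v) * x * j by group, ← O.vj.eq,
        show v * x * (v * j) * x * j = (v * x * v) * (j * x * j) by group]
      rw [show v * x * v = v * x * v⁻¹ by rw [inv_eq_of_mul_eq_one_right O.vv],
        show j * x * j = j * x * j⁻¹ by rw [inv_eq_of_mul_eq_one_right S.jj]]
      rw [O.vx, O.jx, ← pow_add, show 3 + 5 = 4 + 4 from rfl, pow_add, O.x4, O.zz]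
    have huz : u ≠ ι1 P4.zz := fun h => hnvx y (fun _ => hyv) (by
      rw [hudef, ← eq_mul_inv_iff_mul_eq] at h
      rw [h, ← D.half]
      exact mul_mem (pow_mem (mem_zpowers y) _) (inv_mem (mem_zpowers y)))
    obtain ⟨c, hc⟩ := isConj_iff.1 (isConj_of_no_index_two hidx D (mul_mem hvT0 D.xT) hu2)
    have hcG : (c : G) * z * (c : G)⁻¹ = v * (x * j) := by
      rw [← hzz0, ← hu]; exact congrArg Subtype.val hc
    set q := j * x ^ 2 with hq
    have hjx2 : Commute j (x ^ 2) := by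
      refine mul_inv_eq_iff_eq_mul.1 ?_
      rw [← conj_pow, O.jx, ← pow_mul, show 5 * 2 = (4 + 4) + 2 from rfl, pow_add, pow_add, O.x4, O.zz, one_mul]
    have hqq : q * q = z := by
      rw [hq, hjx2.symm.mul_mul_mul_comm, S.jj, one_mul, ← pow_add, O.x4]
    have hqu : q * (v * (x * j)) * q⁻¹ = v * (x * j) := by
      have hj' : j⁻¹ = j := inv_eq_of_mul_eq_one_right S.jj
      have hvxj : v * (x * j) = x ^ 3 * v * j := by rw [← mul_assoc, ← O.vx, inv_mul_cancel_right]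
      rw [hvxj]
      have h2v : v * (x ^ 2)⁻¹ = x ^ (-6 : ℤ) * v := by
        rw [show x ^ (-6 : ℤ) = v * (x ^ 2)⁻¹ * v⁻¹ by
          rw [← conj_inv, ← conj_pow, O.vx, ← pow_mul, zpow_neg, zpow_ofNat], inv_mul_cancel_right]
      rw [hq, mul_inv_rev, hj',
        show j * x ^ 2 * (x ^ 3 * v * j) * ((x ^ 2)⁻¹ * j) = j * x ^ 2 * x ^ 3 * v * (j * (x ^ 2)⁻¹) * j by
          group, hjx2.inv_right.eq,
        show j * x ^ 2 * x ^ 3 * v * ((x ^ 2)⁻¹ * j) * j = j * x ^ 2 * x ^ 3 * (v * (x ^ 2)⁻¹) * (j * j) by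
          group, h2v, S.jj, mul_one,
        show j * x ^ 2 * x ^ 3 * (x ^ (-6 : ℤ) * v) = j * x ^ (-1 : ℤ) * v by group]
      have h1 : j * x ^ (-1 : ℤ) = x ^ 3 * j := by
        rw [show x ^ 3 = j * x ^ (-1 : ℤ) * j⁻¹ by
          rw [← conj_zpow, O.jx, zpow_neg_one, eq_inv_iff_mul_eq_one, ← pow_add,
            show 3 + 5 = 4 + 4 from rfl, pow_add, O.x4, O.zz], inv_mul_cancel_right]
      rw [h1, mul_assoc, ← O.vj.eq, mul_assoc]
    have hq0 : Commute ((c : G)⁻¹ * q * c) z := by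
      refine mul_inv_eq_iff_eq_mul.1 ?_
      rw [show (c : G)⁻¹ * q * c * z * ((c : G)⁻¹ * q * c)⁻¹ = (c : G)⁻¹ * (q * ((c : G) * z * (c : G)⁻¹) * q⁻¹) * c by
        group, hcG, hqu, ← hcG]
      group
    have hs : (c : G)⁻¹ * q * c * ((c : G)⁻¹ * q * c) = (c : G)⁻¹ * z * c := by rw [← hqq]; group
    have := hrigid _ hq0 (by
        rw [hs]; intro h
        exact O.z1 (by
          calc z = (c : G) * ((c : G)⁻¹ * z * c) * (c : G)⁻¹ := by group
            _ = 1 := by rw [h]; group)) (by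
        rw [hs, show (c : G)⁻¹ * z * c * ((c : G)⁻¹ * z * c) = (c : G)⁻¹ * (z * z) * c by group, O.zz, mul_one,
          inv_mul_cancel])
    rw [hs] at this
    refine huz (Subtype.ext ?_)
    show (u : G) = ι0 P4.zz
    rw [hzz0, hu, ← hcG]
    conv_lhs => rw [← this]
    group
  set x0 : G0 := ⟨x, hxG0⟩ with hx0def
  have D : TData (ι1 P4.zz) (ι1 P4.vv) T0 x0 3 :=
    ⟨Oct.x_mem, hvT0, le_rfl, by rw [← orderOf_injective G0.subtype G0.subtype_injective]; exact O.xo, hT0c,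
      Subtype.ext (show x ^ 4 = ι0 P4.zz by rw [hzz0, O.x4]), hnvx x0 fun _ => hxv⟩
  have hsd : ι1 P4.vv * x0 * (ι1 P4.vv)⁻¹ = x0⁻¹ * ι1 P4.zz := by
    refine Subtype.ext ?_
    show ι0 P4.vv * x * (ι0 P4.vv)⁻¹ = x⁻¹ * ι0 P4.zz
    rw [hvv0, hzz0, O.vx, eq_inv_mul_iff_mul_eq, ← pow_succ', O.x4]
  -- centralizers of the subgroup of index two
  have hCbot : centralizer (G0 : Set G) = ⊥ := by
    set C := centralizer (G0 : Set G) with hC
    have hCn : C.Normal := inferInstance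
    refine hcore C hCn ?_
    have hCG0 : C ⊓ G0 = ⊥ := hcore _ inferInstance (Group.isSolvable_of_comm fun a b => Subtype.ext
      (mem_centralizer_iff.1 b.2.1 a a.2.2))
    refine Group.isSolvable_of_comm fun a b => ?_
    by_cases ha : (a : G) ∈ G0
    · have : (a : G) = 1 := by rw [← mem_bot, ← hCG0]; exact ⟨a.2, ha⟩
      rw [show a = 1 from Subtype.ext this, one_mul, mul_one]
    by_cases hb : (b : G) ∈ G0
    · have : (b : G) = 1 := by rw [← mem_bot, ← hCG0]; exact ⟨b.2, hb⟩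
      rw [show b = 1 from Subtype.ext this, one_mul, mul_one]
    have h1 : (a : G)⁻¹ * b = 1 := by
      rw [← mem_bot, ← hCG0]
      refine mem_inf.2 ⟨mul_mem (inv_mem a.2) b.2, ?_⟩
      exact (mul_mem_iff_of_index_two hG0i).2 (iff_of_false (fun h => ha (by simpa using G0.inv_mem h)) hb)
    rw [show b = a from Subtype.ext (inv_mul_eq_one.1 h1).symm]
  have htrick : Trick (ι1 P4.zz) (ι1 P4.vv) (ι1 P4.hh) := by
    intro Y hYW hY1 hYodd hYz hYv hYinv c hc0 hc1 hc2
    set W := Wc (ι1 P4.zz) with hW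
    have hjW : ∀ w ∈ W, ∃ w' ∈ W, (w' : G) = j * (w : G) * j⁻¹ := by
      intro w hw
      set C0 := centralizer ({ι1 P4.zz} : Set G0) with hC0
      obtain ⟨a, ha, rfl⟩ := hw
      have hmem : ∀ a : C0, (⟨j * ((a : G0) : G) * j⁻¹, hG0n.conj_mem _ (a : G0).2 j⟩ : G0) ∈ C0 := by
        intro a
        refine mem_centralizer_singleton_iff.2 ((hCz _).2 ?_).eq
        have hjz : Commute j z := S.jι _
        exact (hjz.mul_left ((hCz _).1 (mem_centralizer_singleton_iff.1 a.2))).mul_left hjz.inv_left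
      let φ : C0 →* C0 := MonoidHom.mk' (fun a => ⟨_, hmem a⟩) fun a b => Subtype.ext (Subtype.ext (by
        simp [mul_assoc]))
      have hφ : Function.Bijective φ := Finite.injective_iff_bijective.1 fun a b h => Subtype.ext (Subtype.ext
        ((MulAut.conj j).injective (congrArg (fun q : C0 => ((q : G0) : G)) h)))
      have hchar : φ a ∈ Cfsg.oddCore ↥C0 := by
        have h' := Core.map_pPrimeCore_le_of_surjective (p := 2) (f := φ) hφ.2
        exact h' ⟨a, ha, rfl⟩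
      exact ⟨_, ⟨φ a, hchar, rfl⟩, rfl⟩
    have hjinvW : ∀ w ∈ W, j * (w : G) * j⁻¹ = (w : G)⁻¹ := by
      choose f hf1 hf2 using hjW
      let φ : W →* W := MonoidHom.mk' (fun w => ⟨f w w.2, hf1 w w.2⟩) fun a b => Subtype.ext (Subtype.ext (by
        show (f _ _ : G) = (f _ _ : G0).1 * (f _ _ : G0).1
        rw [hf2, hf2, hf2, Subgroup.coe_mul, Subgroup.coe_mul]; group))
      have hfix : MonoidHom.FixedPointFree φ := by
        intro a ha
        have e1 : j * ((a : G0) : G) * j⁻¹ = ((a : G0) : G) := by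
          rw [← hf2 a a.2]; exact congrArg (fun q : W => ((q : G0) : G)) ha
        have hD : ((a : G0) : G) ∈ Split.D2 H ι :=
          Split.mem_D2.2 ⟨S.cent_j hH hcore (mul_inv_eq_iff_eq_mul.1 e1).symm, (hCz _).1 (Wc_comm a.2)⟩
        have ho : Odd (orderOf ((a : G0) : G)) := by
          rw [Subgroup.orderOf_coe]; exact odd_orderOf_mem (Wc_odd _) a.2
        exact Subtype.ext (Subtype.ext (eq_one_of_odd_mem hT1p (hD2 hD) ho))
      have hinv : Function.Involutive φ := by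
        intro a
        refine Subtype.ext (Subtype.ext ?_)
        have key : ∀ a : W, ((φ a : G0) : G) = j * ((a : G0) : G) * j⁻¹ := fun a => hf2 _ _
        rw [key, key, show j * (j * ((a : G0) : G) * j⁻¹) * j⁻¹ = (j * j) * ((a : G0) : G) * (j * j)⁻¹ by group,
          S.jj, one_mul, inv_one, mul_one]
      intro w hw
      rw [← hf2 w hw]
      exact congrArg (fun q : W => ((q : G0) : G)) (congrFun (hfix.coe_eq_inv_of_involutive hinv) ⟨w, hw⟩)
    set Y' := Y.map G0.subtype with hY'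
    have hjY : ∀ y ∈ Y', j * y * j⁻¹ ∈ Y' := by
      rintro _ ⟨y, hy, rfl⟩
      exact ⟨y⁻¹, inv_mem hy, (hjinvW y (hYW hy)).symm⟩
    have hY'inv : ∀ d : G, Commute d (ι0 P4.zz) → (d * ι0 P4.vv * d⁻¹ = ι0 P4.vv ∨
        d * ι0 P4.vv * d⁻¹ = ι0 P4.zz * ι0 P4.vv) → ∀ y ∈ Y', d * y * d⁻¹ ∈ Y' := by
      have key : ∀ d : G, d ∈ G0 → Commute d (ι0 P4.zz) → (d * ι0 P4.vv * d⁻¹ = ι0 P4.vv ∨
          d * ι0 P4.vv * d⁻¹ = ι0 P4.zz * ι0 P4.vv) → ∀ y ∈ Y', d * y * d⁻¹ ∈ Y' := by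
        rintro d hd hdz hdv _ ⟨y, hy, rfl⟩
        refine ⟨_, hYinv ⟨d, hd⟩ (Subtype.ext hdz.eq) ?_ y hy, rfl⟩
        rcases hdv with e1 | e1
        exacts [Or.inl (Subtype.ext e1), Or.inr (Subtype.ext e1)]
      intro d hdz hdv y hy
      by_cases hd : d ∈ G0
      · exact key d hd hdz hdv y hy
      · have hjz0 : Commute j (ι0 P4.zz) := S.jc _ (hι0H _)
        have hjv0 : Commute j (ι0 P4.vv) := S.jc _ (hι0H _)
        have := key (d * j) (hjeq d hd) (hdz.mul_left hjz0) (by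
          rwa [show d * j * ι0 P4.vv * (d * j)⁻¹ = d * (j * ι0 P4.vv * j⁻¹) * d⁻¹ by group, hjv0.eq,
            mul_inv_cancel_right]) _ (hjY y hy)
        rwa [show d * j * (j * y * j⁻¹) * (d * j)⁻¹ = d * (j * j) * y * (j * j)⁻¹ * d⁻¹ by group, S.jj, mul_one,
          inv_one, mul_one] at this
    set C := centralizer {s : G | ∃ (a : Fin 3) (y : G), y ∈ Y' ∧
        s = ι0 P4.hh ^ (a : ℕ) * y * (ι0 P4.hh ^ (a : ℕ))⁻¹} with hC
    have hcC : (c : G) ∈ C := mem_threeCent ι0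
      (by rintro _ ⟨y, hy, rfl⟩; exact congrArg Subtype.val (hc0 y hy).eq)
      (by rintro _ ⟨y, hy, rfl⟩; exact congrArg Subtype.val (hc1 y hy).eq)
      (by rintro _ ⟨y, hy, rfl⟩; exact congrArg Subtype.val (hc2 y hy).eq)
    have hHC : ∀ d ∈ H, ∀ c ∈ C, d * c * d⁻¹ ∈ C := by
      intro d hd c hc
      obtain ⟨k, rfl | rfl⟩ := hcov0 d hd
      · exact normalizes_threeCent ι0 hY'inv k c hc
      · rw [show ι0 k * j * c * (ι0 k * j)⁻¹ = ι0 k * (j * c * j⁻¹) * (ι0 k)⁻¹ by group]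
        refine normalizes_threeCent ι0 hY'inv k _ ?_
        refine mem_centralizer_iff.2 ?_
        rintro s ⟨a, y, hy, rfl⟩
        have hjh : Commute j (ι0 P4.hh ^ (a : ℕ)) := (S.jc _ (hι0H _)).pow_right _
        have h1 : Commute (ι0 P4.hh ^ (a : ℕ) * (j * y * j⁻¹) * (ι0 P4.hh ^ (a : ℕ))⁻¹) c :=
          mem_centralizer_iff.1 hc _ ⟨a, _, hjY y hy, rfl⟩
        have h2 := h1.map (MulAut.conj j).toMonoidHom
        change Commute (j * (ι0 P4.hh ^ (a : ℕ) * (j * y * j⁻¹) * (ι0 P4.hh ^ (a : ℕ))⁻¹) * j⁻¹) (j * c * j⁻¹) at h2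
        have he : j * (ι0 P4.hh ^ (a : ℕ) * (j * y * j⁻¹) * (ι0 P4.hh ^ (a : ℕ))⁻¹) * j⁻¹ =
            ι0 P4.hh ^ (a : ℕ) * y * (ι0 P4.hh ^ (a : ℕ))⁻¹ := by
          rw [show j * (ι0 P4.hh ^ (a : ℕ) * (j * y * j⁻¹) * (ι0 P4.hh ^ (a : ℕ))⁻¹) * j⁻¹ =
            (j * ι0 P4.hh ^ (a : ℕ)) * j * y * j⁻¹ * (j * ι0 P4.hh ^ (a : ℕ))⁻¹ by group, hjh.eq,
            show ι0 P4.hh ^ (a : ℕ) * j * j * y * j⁻¹ * (ι0 P4.hh ^ (a : ℕ) * j)⁻¹ =
              ι0 P4.hh ^ (a : ℕ) * (j * j) * y * (j * j)⁻¹ * (ι0 P4.hh ^ (a : ℕ))⁻¹ by group, S.jj, mul_one,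
            inv_one, mul_one]
        rw [he] at h2
        exact h2.eq
    have hnot : ι0 P4.vv ∉ C := by
      intro hvC
      refine hY1 (eq_bot_iff.2 fun y hy => ?_)
      have h1 : Commute (y : G) (ι0 P4.vv) :=
        mem_centralizer_iff.1 hvC (y : G) ⟨0, y, ⟨y, hy, rfl⟩, by simp⟩
      have h2 : ι1 P4.vv * y * (ι1 P4.vv)⁻¹ = y := by
        refine mul_inv_eq_iff_eq_mul.2 (Subtype.ext ?_)
        exact h1.eq.symm
      rw [hYv y hy] at h2
      rw [mem_bot]
      exact eq_one_of_odd_of_sq (odd_orderOf_mem hYodd hy) (by nth_rw 1 [← h2]; exact inv_mul_cancel y)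
    by_cases hCn : C.Normal
    · haveI := hCn
      by_contra hc1'
      set C0 := C.subgroupOf G0
      have hne : C0 ≠ ⊥ := fun hb => hc1' (by
        have : c ∈ C0 := hcC
        rwa [hb, mem_bot] at this)
      have h2' : 2 ∣ Nat.card C0 := by
        by_contra h
        exact hne (hodd C0 inferInstance (Nat.odd_iff.2 (by omega)))
      have hx0v : ¬ Commute x0 (ι1 P4.vv) := fun h => hxv (by
        rw [← hvv0]; exact congrArg Subtype.val h.eq)
      have hz0 := B.z_mem_normal D hx0v C0 h2'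
      exact hnot (show ι1 P4.vv ∈ C0 from B.hh ▸ (inferInstance : C0.Normal).conj_mem _ hz0 _)
    · have hle : H ≤ normalizer (C : Set G) := fun d hd => mem_normalizer_of_conj (hHC d hd)
      have hNC : normalizer (C : Set G) = H := by
        rcases hle.eq_or_lt with e1 | e1
        · exact e1.symm
        · exact absurd (normalizer_eq_top_iff.1 (hH.2 _ e1)) hCn
      obtain ⟨k, hk⟩ := hHG0 c (hNC ▸ le_normalizer hcC) c.2
      by_contra hc1'
      have hk1 : k ≠ 1 := fun h => hc1' (Subtype.ext (by rw [hk, h, map_one]; rfl))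
      obtain ⟨a, b, hab⟩ := normal_has_vv k hk1
      refine hnot ?_
      rw [← hab]
      simp only [map_mul, map_inv]
      rw [hk] at hcC
      exact hHC _ (hι0H b) _ (mul_mem (hHC _ (hι0H a) _ hcC) (inv_mem hcC))
  refine ⟨G0, hG0n, hG0i, hCbot, ?_⟩
  rcases semidihedral B D hsd hidx hodd htrick with h | hM
  · exact h
  exfalso
  obtain ⟨eM⟩ : Nonempty (G0 ≃* ↥Cfsg.Spor.M11) := hM
  let β : MulAut ↥Cfsg.Spor.M11 := (eM.symm.trans (MulAut.conjNormal j)).trans eM
  have hβ : β ∈ Cfsg.Inn ↥Cfsg.Spor.M11 := by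
    obtain ⟨hs, -⟩ := Nat.card_eq_one_iff_unique.1 (S2060.result : Nat.card (Cfsg.Out ↥Cfsg.Spor.M11) = 1)
    exact (QuotientGroup.eq_one_iff β).1 (@Subsingleton.elim _ hs _ _)
  obtain ⟨m, hm⟩ := hβ
  refine hjG0 ?_
  have hcomm : ((eM.symm m : G0) : G)⁻¹ * j ∈ centralizer (G0 : Set G) := by
    refine mem_centralizer_iff.2 fun a ha => ?_
    have h1 := congrArg (fun b : MulAut ↥Cfsg.Spor.M11 => eM.symm (b (eM ⟨a, ha⟩))) hm
    simp only [MulAut.conj_apply, map_mul, map_inv, eM.symm_apply_apply, β, MulEquiv.trans_apply] at h1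
    have h2 := congrArg Subtype.val h1
    simp only [MulAut.conjNormal_apply, Subgroup.coe_mul, Subgroup.coe_inv] at h2
    calc a * (((eM.symm m : G0) : G)⁻¹ * j)
        = ((eM.symm m : G0) : G)⁻¹ * (((eM.symm m : G0) : G) * a * ((eM.symm m : G0) : G)⁻¹) * j := by group
      _ = ((eM.symm m : G0) : G)⁻¹ * (j * a * j⁻¹) * j := by rw [h2]
      _ = ((eM.symm m : G0) : G)⁻¹ * j * a := by group
  rw [hCbot, mem_bot, inv_mul_eq_one] at hcomm
  exact hcomm ▸ (eM.symm m).2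

end Cfsg.Agent.SubdegThree
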