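import Cfsg.Agent.Fusion.Residual
import Cfsg.Agent.Fusion.PGroup
import Cfsg.Agent.Invol.SylowConj
import Mathlib.GroupTheory.Sylow
import Mathlib.GroupTheory.SpecificGroups.KleinFour

/-!
Small general facts used for primitive groups with a suborbit of length three.
-/

set_option autoImplicit false

namespace Cfsg.Agent.SubdegThree

open Subgroup

variable {K : Type*} [Group K]

theorem mul_self_eq_one {t : K} (h : orderOf t = 2) : t * t = 1 := by
  rw [← pow_two, ← h, pow_orderOf_eq_one]

theorem ne_one_of_order_two {t : K} (h : orderOf t = 2) : t ≠ 1 := fun e => by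
  rw [e, orderOf_one] at h; omega

theorem inv_eq_of_order_two {t : K} (h : orderOf t = 2) : t⁻¹ = t :=
  inv_eq_of_mul_eq_one_right (mul_self_eq_one h)

theorem orderOf_conj' (g x : K) : orderOf (g * x * g⁻¹) = orderOf x := by
  rw [← MulAut.conj_apply, MulEquiv.orderOf_eq]

theorem eq_one_of_odd_of_sq {x : K} (ho : Odd (orderOf x)) (h : x * x = 1) : x = 1 := by
  have h2 : orderOf x ∣ 2 := orderOf_dvd_of_pow_eq_one (by rwa [pow_two])
  rcases (Nat.dvd_prime Nat.prime_two).1 h2 with e | e
  · exact orderOf_eq_one_iff.1 e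
  · rw [e] at ho; exact absurd ho (by decide)

theorem eq_one_of_odd_mem {P : Subgroup K} (hP : IsPGroup 2 P) {x : K} (hx : x ∈ P)
    (ho : Odd (orderOf x)) : x = 1 := by
  obtain ⟨k, hk⟩ := hP ⟨x, hx⟩
  have hk' : x ^ 2 ^ k = 1 := congrArg Subtype.val hk
  have h1 : orderOf x ∣ 1 := by
    have h := Nat.dvd_gcd (orderOf_dvd_of_pow_eq_one hk') (dvd_refl (orderOf x))
    rwa [Nat.Coprime.gcd_eq_one] at h
    exact Nat.Coprime.pow_left k (Nat.coprime_two_left.2 ho)
  exact orderOf_eq_one_iff.1 (Nat.dvd_one.1 h1)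

theorem odd_orderOf_mem [Finite K] {W : Subgroup K} (hW : Odd (Nat.card W)) {x : K} (hx : x ∈ W) :
    Odd (orderOf x) :=
  hW.of_dvd_nat (W.orderOf_dvd_natCard hx)

theorem orderOf_odd_iff [Finite K] {x : K} : Odd (orderOf x) ↔ ∃ m : ℕ, Odd m ∧ x ^ m = 1 :=
  ⟨fun h => ⟨_, h, pow_orderOf_eq_one x⟩, fun ⟨_, hm, he⟩ => hm.of_dvd_nat (orderOf_dvd_of_pow_eq_one he)⟩

/-- A finite subgroup without non-trivial elements of odd order is a 2-group. -/
theorem isPGroup_two_of_no_odd [Finite K] {H : Subgroup K}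
    (h : ∀ x ∈ H, Odd (orderOf x) → x = 1) : IsPGroup 2 H := by
  intro x
  obtain ⟨k, m, hm, hd⟩ := Nat.exists_eq_pow_mul_and_not_dvd (orderOf_pos (x : K)).ne' 2 (by decide)
  refine ⟨k, Subtype.ext ?_⟩
  rw [SubmonoidClass.coe_pow, OneMemClass.coe_one]
  refine h _ (pow_mem x.2 _) ?_
  rw [orderOf_pow_of_dvd (by positivity) ⟨m, hd⟩, hd, Nat.mul_div_cancel_left _ (by positivity)]
  exact Nat.odd_iff.2 (by omega)

/-- No subgroup of index two means no nontrivial 2-quotient. -/
theorem pResidual_eq_top [Finite K] (h : ∀ M : Subgroup K, M.index ≠ 2) :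
    Cfsg.pResidual 2 K = ⊤ := by
  have : Fact (Nat.Prime 2) := ⟨Nat.prime_two⟩
  have hn : (Cfsg.pResidual 2 K).Normal := by
    have := Fusion.pResidual_characteristic (p := 2) (G := K)
    infer_instance
  obtain ⟨i, hi⟩ := Fusion.index_pResidual_eq_pow (p := 2) (G := K)
  rcases i with _ | i
  · exact index_eq_one.1 (by simpa using hi)
  exfalso
  set Q := K ⧸ Cfsg.pResidual 2 K
  have hQ : Nat.card Q = 2 ^ (i + 1) := (index_eq_card _).symm.trans hi
  obtain ⟨M, hM⟩ := Sylow.exists_subgroup_card_pow_prime 2 (n := i) (G := Q)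
    (by rw [hQ]; exact pow_dvd_pow 2 (by omega))
  refine h (M.comap (QuotientGroup.mk' _)) ?_
  rw [index_comap_of_surjective _ (QuotientGroup.mk'_surjective _)]
  have := M.card_mul_index
  rw [hM, hQ, pow_succ] at this
  exact Nat.eq_of_mul_eq_mul_left (Nat.two_pow_pos i) this

/-- A normal subgroup of even order meets the centre of a Sylow 2-subgroup. -/
theorem exists_central_of_normal [Finite K] (T : Sylow 2 K) (N : Subgroup K) [N.Normal]
    (h2 : 2 ∣ Nat.card N) :
    ∃ y ∈ N, y ∈ (T : Subgroup K) ∧ y ≠ 1 ∧ ∀ t ∈ (T : Subgroup K), y * t = t * y := by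
  have : Fact (Nat.Prime 2) := ⟨Nat.prime_two⟩
  obtain ⟨a, ha⟩ := exists_prime_orderOf_dvd_card' (G := N) 2 h2
  obtain ⟨g, hg⟩ := Invol.exists_conj_mem_of_isPGroup T (x := (a : K))
    ⟨1, by rw [pow_one, Subgroup.orderOf_coe, ha]⟩
  set N' := N.subgroupOf (T : Subgroup K)
  have hne : N' ≠ ⊥ := by
    intro hb
    have hm : (⟨g * a * g⁻¹, hg⟩ : (T : Subgroup K)) ∈ N' :=
      (inferInstance : N.Normal).conj_mem _ a.2 g
    rw [hb, mem_bot] at hm
    have he : g * (a : K) * g⁻¹ = 1 := congrArg Subtype.val hm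
    have := orderOf_conj' g (a : K)
    rw [he, orderOf_one, Subgroup.orderOf_coe, ha] at this
    omega
  have hc := Fusion.pGroup_inf_center_ne_bot T.2 N' hne
  obtain ⟨y, hy, hy1⟩ := (bot_or_exists_ne_one _).resolve_left hc
  exact ⟨y, hy.1, y.2, fun e => hy1 (Subtype.ext e),
    fun t ht => (congrArg Subtype.val (mem_center_iff.1 hy.2 ⟨t, ht⟩)).symm⟩

/-- Subgroup membership of the four group generated by two commuting involutions. -/
theorem mem_closure_pair {z v : K} (hz : z * z = 1) (hv : v * v = 1) (hc : v * z = z * v) {x : K}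
    (hx : x ∈ closure ({z, v} : Set K)) : x = 1 ∨ x = z ∨ x = v ∨ x = z * v := by
  let S : Subgroup K :=
    { carrier := {1, z, v, z * v}
      one_mem' := Or.inl rfl
      mul_mem' := by
        intro a b ha hb
        simp only [Set.mem_insert_iff, Set.mem_singleton_iff] at ha hb ⊢
        have e1 : z * (z * v) = v := by rw [← mul_assoc, hz, one_mul]
        have e2 : v * (z * v) = z := by rw [← mul_assoc, hc, mul_assoc, hv, mul_one]
        have e3 : z * v * z = v := by rw [mul_assoc, hc, ← mul_assoc, hz, one_mul]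
        have e4 : z * v * v = z := by rw [mul_assoc, hv, mul_one]
        have e5 : z * v * (z * v) = 1 := by rw [← mul_assoc, e3, hv]
        rcases ha with rfl | rfl | rfl | rfl <;> rcases hb with rfl | rfl | rfl | rfl <;>
          simp [hz, hv, hc, e1, e2, e3, e4, e5]
      inv_mem' := by
        intro a ha
        simp only [Set.mem_insert_iff, Set.mem_singleton_iff] at ha ⊢
        rcases ha with rfl | rfl | rfl | rfl
        · simp
        · exact Or.inr (Or.inl (inv_eq_of_mul_eq_one_right hz))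
        · exact Or.inr (Or.inr (Or.inl (inv_eq_of_mul_eq_one_right hv)))
        · refine Or.inr (Or.inr (Or.inr (inv_eq_of_mul_eq_one_right ?_)))
          rw [← mul_assoc, mul_assoc z, hc, ← mul_assoc, hz, one_mul, hv] }
  have : x ∈ S := (closure_le S).2 (by
    rintro y (rfl | rfl)
    · exact Or.inr (Or.inl rfl)
    · exact Or.inr (Or.inr (Or.inl rfl))) hx
  exact this

end Cfsg.Agent.SubdegThree
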