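import Cfsg.Agent.SubdegThree.Basic
import Cfsg.Agent.Core.PCore
import Cfsg.Agent.Fusion.Transfer
import Cfsg.Prelude.Def_CaseTheorems

/-!
Odd elements of a normal subgroup with a normal 2-complement lie in the odd core; odd elements lift
along quotients by kernels with odd times two elements.
-/

set_option autoImplicit false

namespace Cfsg.Agent.SubdegThree

open Subgroup

theorem odd_mem_oddCore {G : Type*} [Group G] [Finite G] (N : Subgroup G) [N.Normal]
    (h : Cfsg.HasNormalPComplement 2 N) {x : G} (hx : x ∈ N) (ho : Odd (orderOf x)) :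
    x ∈ Cfsg.oddCore G := by
  have : Fact (Nat.Prime 2) := ⟨Nat.prime_two⟩
  have := Fusion.pResidual_characteristic (p := 2) (G := N)
  have hn : ((Cfsg.pResidual 2 N).map N.subtype).Normal := inferInstance
  refine Core.le_pPrimeCore (N := (Cfsg.pResidual 2 N).map N.subtype) ?_ ?_
  · rw [card_map_of_injective N.subtype_injective]
    exact Fusion.coprime_card_pResidual_of_hasNormalPComplement h
  · exact ⟨⟨x, hx⟩, Fusion.mem_pResidual_of_coprime
      (by rw [orderOf_mk]; exact Nat.coprime_two_right.2 ho), rfl⟩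

/-- A central Sylow 2-subgroup gives a normal 2-complement. -/
theorem complement_of_central {G : Type*} [Group G] [Finite G] (P : Sylow 2 G)
    (h : ∀ p ∈ (P : Subgroup G), ∀ g : G, g * p = p * g) : Cfsg.HasNormalPComplement 2 G := by
  have : Fact (Nat.Prime 2) := ⟨Nat.prime_two⟩
  exact Fusion.hasNormalPComplement_of_normalizer_le_centralizer (P := P) fun g _ =>
    mem_centralizer_iff.2 fun p hp => (h p hp g).symm

/-- An element of odd order lifts to one of odd order. -/
theorem exists_odd_lift {A B : Type*} [Group A] [Group B] [Finite A] (f : A →* B) {y : B}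
    (hy : Odd (orderOf y)) (hr : y ∈ f.range) : ∃ a, f a = y ∧ Odd (orderOf a) := by
  obtain ⟨a, rfl⟩ := hr
  obtain ⟨k, m, hm, hd⟩ := Nat.exists_eq_pow_mul_and_not_dvd (orderOf_pos a).ne' 2 (by decide)
  have hm' : Odd m := Nat.odd_iff.2 (by omega)
  obtain ⟨c, hc⟩ := exists_pow_eq_self_of_coprime (x := f a) (n := 2 ^ k)
    ((Nat.coprime_two_left.2 hy).pow_left k)
  refine ⟨(a ^ 2 ^ k) ^ c, by rw [map_pow, map_pow]; exact hc,
    hm'.of_dvd_nat (orderOf_dvd_of_pow_eq_one ?_)⟩
  rw [← pow_mul, ← pow_mul, show 2 ^ k * (c * m) = orderOf a * c by rw [hd]; ring, pow_mul,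
    pow_orderOf_eq_one, one_pow]

end Cfsg.Agent.SubdegThree
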