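import Cfsg.Agent.SubdegThree.Setup
import Cfsg.Agent.SubdegThree.Norm
import Cfsg.Agent.MaxClass.Class

/-!
The Sylow 2-subgroup at a self-centralizing four-group whose Sylow 2-normalizer has a second
conjugate four-group: dihedral or semidihedral of order at least sixteen.
-/

set_option autoImplicit false

namespace Cfsg.Agent.SubdegThree

open Subgroup

variable {K : Type*} [Group K]

/-- Membership in the four-group from closure. -/
theorem Base.mem_V {z v h : K} (B : Base z v h) {y : K} :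
    y ∈ closure ({z, v} : Set K) ↔ y = 1 ∨ y = z ∨ y = v ∨ y = z * v := by
  refine ⟨mem_closure_pair B.zz B.vv B.comm, fun hy => ?_⟩
  rcases hy with rfl | rfl | rfl | rfl
  exacts [one_mem _, subset_closure (Or.inl rfl), subset_closure (Or.inr rfl),
    mul_mem (subset_closure (Or.inl rfl)) (subset_closure (Or.inr rfl))]

theorem Base.card_V {z v h : K} (B : Base z v h) : Nat.card (closure ({z, v} : Set K)) = 4 := by
  have hset : (closure ({z, v} : Set K) : Set K) = {1, z, v, z * v} := Set.ext fun y => B.mem_V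
  rw [← SetLike.coe_sort_coe, Nat.card_coe_set_eq, hset, Set.ncard_insert_of_notMem,
    Set.ncard_insert_of_notMem, Set.ncard_pair B.zv_ne.symm]
  · simp only [Set.mem_insert_iff, Set.mem_singleton_iff, not_or]
    exact ⟨B.ne.symm, B.zv_ne'.symm⟩
  · simp only [Set.mem_insert_iff, Set.mem_singleton_iff, not_or]
    exact ⟨(ne_one_of_order_two B.hz).symm, (ne_one_of_order_two B.hv).symm, B.zv_one.symm⟩

variable [Finite K]

/-- The dihedral group of order eight is not a Sylow subgroup. -/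
theorem no_sylow_eight {z v h g x : K} (B : Base z v h) {T : Sylow 2 K} (hx : x ∈ (T : Subgroup K))
    (hv : v ∈ (T : Subgroup K)) (hxo : orderOf x = 2 ^ 2) (hhalf : x ^ 2 = z) (hvx : v ∉ zpowers x)
    (hinv : v * x * v⁻¹ = x⁻¹) (hT : Nat.card (T : Subgroup K) = 2 ^ (2 + 1))
    (hgz : g * z * g⁻¹ ∈ (T : Subgroup K)) (hgv : g * v * g⁻¹ ∈ (T : Subgroup K))
    (hg : ¬ (g * z * g⁻¹ ∈ closure ({z, v} : Set K) ∧ g * v * g⁻¹ ∈ closure ({z, v} : Set K))) :
    False := by
  have : Fact (Nat.Prime 2) := ⟨Nat.prime_two⟩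
  set V := closure ({z, v} : Set K) with hV
  have hzT : z ∈ (T : Subgroup K) := hhalf ▸ pow_mem hx 2
  have hVT : V ≤ (T : Subgroup K) := (closure_le _).2 (by rintro y (rfl | rfl) <;> assumption)
  have hVgT : V.map (MulAut.conj g).toMonoidHom ≤ (T : Subgroup K) := by
    rw [hV, MonoidHom.map_closure, closure_le]
    rintro _ ⟨y, rfl | rfl, rfl⟩
    exacts [hgz, hgv]
  -- a four subgroup of `T` is normalised by `T`
  have hnorm : ∀ U : Subgroup K, U ≤ (T : Subgroup K) → Nat.card U = 4 →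
      (T : Subgroup K) ≤ normalizer (U : Set K) := by
    intro U hU h4 t ht
    have hi : (U.subgroupOf (T : Subgroup K)).index = 2 := by
      have h := (U.subgroupOf (T : Subgroup K)).card_mul_index
      rw [Nat.card_congr (subgroupOfEquivOfLe hU).toEquiv, h4, hT] at h
      omega
    have hn := normal_of_index_eq_two hi
    exact mem_normalizer_of_conj fun y hy => hn.conj_mem ⟨y, hU hy⟩ hy ⟨t, ht⟩
  have hV4 : Nat.card V = 4 := B.card_V
  have hTV := hnorm V hVT hV4
  set N := normalizer (V : Set K) with hN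
  have hgT : ((T : Subgroup K).map (MulAut.conj g⁻¹).toMonoidHom) ≤ N := by
    rintro _ ⟨t, ht, rfl⟩
    refine mem_normalizer_of_conj fun y hy => ?_
    obtain ⟨y', hy', he⟩ := conj_mem_of_normalizer (hnorm (V.map (MulAut.conj g).toMonoidHom) hVgT
      (by rw [card_map_of_injective (MulAut.conj g).injective, hV4]) ht) ⟨y, hy, rfl⟩
    change g * y' * g⁻¹ = t * (g * y * g⁻¹) * t⁻¹ at he
    show g⁻¹ * t * g⁻¹⁻¹ * y * (g⁻¹ * t * g⁻¹⁻¹)⁻¹ ∈ V
    rw [show g⁻¹ * t * g⁻¹⁻¹ * y * (g⁻¹ * t * g⁻¹⁻¹)⁻¹ = g⁻¹ * (t * (g * y * g⁻¹) * t⁻¹) * g by group,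
      ← he, show g⁻¹ * (g * y' * g⁻¹) * g = y' by group]
    exact hy'
  let T' : Sylow 2 K := MulAut.conj g⁻¹ • T
  have hT' : (T' : Subgroup K) = (T : Subgroup K).map (MulAut.conj g⁻¹).toMonoidHom := rfl
  obtain ⟨m, hm⟩ := MulAction.exists_smul_eq N (T.subtype hTV) (T'.subtype (hT' ▸ hgT))
  set n0 := g * (m : K) with hn0
  have hnT : ∀ t ∈ (T : Subgroup K), n0 * t * n0⁻¹ ∈ (T : Subgroup K) := by
    intro t ht
    have h1 : m * (⟨t, hTV ht⟩ : N) * m⁻¹ ∈ ((T'.subtype (hT' ▸ hgT)) : Subgroup N) := by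
      rw [← hm, Sylow.coe_subgroup_smul]
      exact ⟨⟨t, hTV ht⟩, by rw [SetLike.mem_coe, T.coe_subtype hTV, mem_subgroupOf]; exact ht, rfl⟩
    rw [T'.coe_subtype (hT' ▸ hgT), mem_subgroupOf, hT'] at h1
    obtain ⟨t', ht', e⟩ := h1
    change g⁻¹ * t' * g⁻¹⁻¹ = (m : K) * t * (m : K)⁻¹ at e
    rw [show n0 * t * n0⁻¹ = g * ((m : K) * t * (m : K)⁻¹) * g⁻¹ by rw [hn0]; group, ← e,
      show g * (g⁻¹ * t' * g⁻¹⁻¹) * g⁻¹ = t' by group]
    exact ht'
  obtain ⟨k, o, ho, hd⟩ := Nat.exists_eq_pow_mul_and_not_dvd (orderOf_pos n0).ne' 2 (by decide)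
  have hNT : n0 ∈ normalizer ((T : Subgroup K) : Set K) := mem_normalizer_of_conj hnT
  -- the two parts of `n0`
  set a := n0 ^ o with ha
  set b := n0 ^ (2 ^ k) with hb
  have haT : a ∈ (T : Subgroup K) := by
    have hp : IsPGroup 2 (zpowers a) := by
      refine IsPGroup.of_card_dvd_pow (n := k) ?_
      rw [Nat.card_zpowers]
      refine orderOf_dvd_of_pow_eq_one ?_
      rw [ha, ← pow_mul, mul_comm, ← hd, pow_orderOf_eq_one]
    have hsup := hp.to_sup_of_normal_right' T.2 (zpowers_le.2 (pow_mem hNT o))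
    exact (le_sup_left.trans (T.is_maximal' hsup le_sup_right).le) (mem_zpowers a)
  have hbo : Odd (orderOf b) := by
    refine Odd.of_dvd_nat (Nat.odd_iff.2 (by omega : o % 2 = 1)) (orderOf_dvd_of_pow_eq_one ?_)
    rw [hb, ← pow_mul, ← hd, pow_orderOf_eq_one]
  have hbT : ∀ t ∈ (T : Subgroup K), b * t * b⁻¹ ∈ (T : Subgroup K) := fun t ht =>
    conj_mem_of_normalizer (pow_mem hNT _) ht
  obtain ⟨l, hl⟩ := hbo
  have hbl : ∀ y : K, b ^ 2 * y * (b ^ 2)⁻¹ = y → b * y * b⁻¹ = y := by
    intro y hy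
    have hc : Commute (b ^ 2) y := mul_inv_eq_iff_eq_mul.1 hy
    have hb' : b = (b ^ 2) ^ (l + 1) := by
      rw [← pow_mul, show 2 * (l + 1) = orderOf b + 1 by omega, pow_succ, pow_orderOf_eq_one, one_mul]
    rw [hb', (hc.pow_left _).eq, mul_inv_cancel_right]
  have hbx : b * x * b⁻¹ = x := by
    have hord : orderOf (b * x * b⁻¹) = 4 := by rw [orderOf_conj', hxo]; norm_num
    have h4 : x ^ (4 : ℤ) = 1 := by
      rw [← orderOf_dvd_iff_zpow_eq_one, hxo]; norm_num
    have key : b * x * b⁻¹ = x ∨ b * x * b⁻¹ = x⁻¹ := by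
      obtain ⟨i, e | e⟩ := cases_of_index_two hx hv hxo hT hvx (hbT x hx)
      · rw [e] at hord ⊢
        rcases Int.even_or_odd i with ⟨c, hc⟩ | ⟨c, hc⟩
        · exfalso
          have h1 : (x ^ i) ^ 2 = 1 := by
            rw [← zpow_natCast, ← zpow_mul, hc, show (c + c) * ((2 : ℕ) : ℤ) = 4 * c by push_cast; ring,
              zpow_mul, h4, one_zpow]
          have := hord ▸ orderOf_dvd_of_pow_eq_one h1
          norm_num at this
        · obtain ⟨d, rfl | rfl⟩ := Int.even_or_odd' c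
          · left
            rw [hc, show 2 * (2 * d) + 1 = 4 * d + 1 by ring, zpow_add, zpow_mul, h4, one_zpow, one_mul,
              zpow_one]
          · right
            rw [hc, show 2 * (2 * d + 1) + 1 = 4 * (d + 1) + -1 by ring, zpow_add, zpow_mul, h4, one_zpow,
              one_mul, zpow_neg_one]
      · exfalso
        rw [e] at hord
        have h1 : (x ^ i * v) ^ 2 = 1 := by
          rw [pow_two, mul_assoc, ← mul_assoc v, swap_inverting hinv, ← mul_assoc, ← mul_assoc,
            ← zpow_add, add_neg_cancel, zpow_zero, one_mul, B.vv]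
        have := hord ▸ orderOf_dvd_of_pow_eq_one h1
        norm_num at this
    rcases key with e | e
    · exact e
    · refine hbl x ?_
      calc b ^ 2 * x * (b ^ 2)⁻¹ = b * (b * x * b⁻¹) * b⁻¹ := by
            simp only [pow_two, mul_inv_rev, mul_assoc]
        _ = (b * x * b⁻¹)⁻¹ := by
            conv_lhs => rw [e]
            rw [conj_inv]
        _ = x := by rw [e, inv_inv]
  have hbv : b * v * b⁻¹ = v := by
    obtain ⟨i, e | e⟩ := cases_of_index_two hx hv hxo hT hvx (hbT v hv)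
    · exfalso
      refine hvx (mem_zpowers_iff.2 ⟨i, ?_⟩)
      have hc : Commute b (x ^ i) := (show Commute b x from mul_inv_eq_iff_eq_mul.1 hbx).zpow_right i
      calc x ^ i = b⁻¹ * (b * x ^ i) := by rw [inv_mul_cancel_left]
        _ = b⁻¹ * x ^ i * b := by rw [hc.eq, mul_assoc]
        _ = v := by rw [← e]; group
    · have hpow : ∀ j : ℕ, b ^ j * v * (b ^ j)⁻¹ = x ^ ((j : ℤ) * i) * v := by
        intro j
        induction j with
        | zero => simp
        | succ j ih =>
          have hbc : Commute (b) (x ^ ((j : ℤ) * i)) :=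
            ((show Commute b x from mul_inv_eq_iff_eq_mul.1 hbx)).zpow_right _
          calc b ^ (j + 1) * v * (b ^ (j + 1))⁻¹ = b * (b ^ j * v * (b ^ j)⁻¹) * b⁻¹ := by
                rw [pow_succ']; group
            _ = x ^ ((j : ℤ) * i) * (b * v * b⁻¹) := by rw [ih, ← mul_assoc, hbc.eq]; group
            _ = x ^ (((j + 1 : ℕ) : ℤ) * i) * v := by
              rw [e, ← mul_assoc, ← zpow_add]; congr 2; push_cast; ring
      have h1 := hpow (orderOf b)
      rw [pow_orderOf_eq_one, one_mul, inv_one, mul_one] at h1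
      have h2 : x ^ (((orderOf b : ℕ) : ℤ) * i) = 1 := mul_eq_right.1 h1.symm
      rw [← orderOf_dvd_iff_zpow_eq_one, hxo, hl] at h2
      have h3 : x ^ i = 1 := by
        rw [← orderOf_dvd_iff_zpow_eq_one, hxo]
        refine Int.dvd_of_dvd_mul_right_of_gcd_one h2 ?_
        rw [Int.gcd_natCast_natCast]
        exact Nat.Coprime.pow_left 2 (Nat.coprime_two_left.2 ⟨l, by omega⟩)
      rw [e, h3, one_mul]
  have hbN : b ∈ N := by
    have hle : V ≤ centralizer ({b} : Set K) := (closure_le _).2 (by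
      rintro y (rfl | rfl) <;> rw [SetLike.mem_coe, mem_centralizer_singleton_iff]
      · rw [← hhalf]
        exact ((show Commute b x from mul_inv_eq_iff_eq_mul.1 hbx).pow_right 2).eq.symm
      · exact (show Commute b y from mul_inv_eq_iff_eq_mul.1 hbv).eq.symm)
    refine mem_normalizer_of_conj fun y hy => ?_
    rw [← (mem_centralizer_singleton_iff.1 (hle hy)), mul_inv_cancel_right]
    exact hy
  have hn0N : n0 ∈ N := by
    have hcop : Nat.Coprime (2 ^ k) o :=
      Nat.Coprime.pow_left k (Nat.prime_two.coprime_iff_not_dvd.2 ho)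
    obtain ⟨p, q, hpq⟩ := Nat.isCoprime_iff_coprime.2 hcop
    have e : n0 = b ^ p * a ^ q := by
      rw [hb, ha, ← zpow_natCast, ← zpow_natCast, ← zpow_mul, ← zpow_mul, ← zpow_add,
        mul_comm _ p, mul_comm _ q, hpq, zpow_one]
    rw [e]
    exact mul_mem (zpow_mem hbN p) (zpow_mem (hTV haT) q)
  have hgN : g ∈ N := by
    have := mul_mem hn0N (inv_mem m.2)
    rwa [hn0, mul_inv_cancel_right] at this
  exact hg ⟨conj_mem_of_normalizer hgN (subset_closure (Or.inl rfl)),
    conj_mem_of_normalizer hgN (subset_closure (Or.inr rfl))⟩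

/-- The Sylow 2-subgroup. -/
theorem exists_data {z v h r g : K} (B : Base z v h) (hrv : r * v * r⁻¹ = z * v) (P : Subgroup K)
    (hP : IsPGroup 2 P) (hzP : z ∈ P) (hvP : v ∈ P) (hrP : r ∈ P) (hgz : g * z * g⁻¹ ∈ P)
    (hgv : g * v * g⁻¹ ∈ P)
    (hg : ¬ (g * z * g⁻¹ ∈ closure ({z, v} : Set K) ∧ g * v * g⁻¹ ∈ closure ({z, v} : Set K))) :
    ∃ (T : Sylow 2 K) (x : K) (n : ℕ), TData z v T x n ∧
      (v * x * v⁻¹ = x⁻¹ ∨ v * x * v⁻¹ = x⁻¹ * z) := by
  classical
  have : Fact (Nat.Prime 2) := ⟨Nat.prime_two⟩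
  obtain ⟨T, hPT⟩ := hP.exists_le_sylow
  have hzT := hPT hzP
  have hvT := hPT hvP
  have hrT := hPT hrP
  have hcentral : ∀ y ∈ (T : Subgroup K), (∀ t ∈ (T : Subgroup K), y * t = t * y) → y = 1 ∨ y = z := by
    intro y hy hc
    rcases B.cent y (hc z hzT) (hc v hvT) with e | e | e | e
    · exact Or.inl e
    · exact Or.inr e
    · exfalso
      have h1 := hc r hrT
      rw [e] at h1
      rw [← h1, mul_inv_cancel_right] at hrv
      exact B.zv_ne hrv.symm
    · exfalso
      have h1 := hc r hrT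
      rw [e] at h1
      have h2 : r * (z * v) * r⁻¹ = z * v := by rw [← h1, mul_inv_cancel_right]
      exact B.zv_ne ((MulAut.conj r).injective (h2.trans hrv.symm))
  obtain ⟨c, hc, hcT, hc1, hcc⟩ := exists_central_of_normal T (⊤ : Subgroup K) (by
    rw [card_top]
    exact B.hz ▸ orderOf_dvd_natCard z)
  have hcz : c = z := (hcentral c hcT hcc).resolve_left hc1
  have hzc : ∀ t ∈ (T : Subgroup K), Commute t z := fun t ht => (hcz ▸ hcc t ht).symm
  have hC4 : Nat.card (centralizer ({(⟨v, hvT⟩ : (T : Subgroup K))} : Set (T : Subgroup K))) = 4 := by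
    rw [← B.card_V]
    have hVT : closure ({z, v} : Set K) ≤ (T : Subgroup K) :=
      (closure_le _).2 (by rintro y (rfl | rfl) <;> assumption)
    refine Nat.card_congr ⟨fun t => ⟨((t : (T : Subgroup K)) : K), B.mem_V.2 (B.cent _ (hzc _ t.1.2)
      (congrArg Subtype.val (mem_centralizer_singleton_iff.1 t.2)))⟩,
      fun y => ⟨⟨y, hVT y.2⟩, mem_centralizer_singleton_iff.2 (Subtype.ext ?_)⟩, fun _ => rfl, fun _ => rfl⟩
    show (y : K) * v = v * y
    rcases B.mem_V.1 y.2 with e | e | e | e <;> rw [e]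
    exacts [(Commute.one_left v).eq, B.comm.symm, (B.zv_comm.symm.mul_left (Commute.refl v)).eq]
  rcases MaxClass.mc_of_centralizer T.2 _ hC4 with h4 | hmc
  · exfalso
    have hTC : centralizer ({(⟨v, hvT⟩ : (T : Subgroup K))} : Set (T : Subgroup K)) = ⊤ :=
      eq_top_of_card_eq _ (by rw [hC4, h4])
    have hm : (⟨r, hrT⟩ : (T : Subgroup K)) ∈ centralizer ({(⟨v, hvT⟩ : (T : Subgroup K))} : Set (T : Subgroup K)) := by
      rw [hTC]; exact mem_top _
    have h1 : r * v = v * r := congrArg Subtype.val (mem_centralizer_singleton_iff.1 hm)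
    rw [h1, mul_inv_cancel_right] at hrv
    exact B.zv_ne hrv.symm
  rcases hmc with ⟨k, ⟨e⟩⟩ | ⟨k, hcard, a, b, ha, hb, hab⟩ | ⟨k, ⟨e⟩⟩
  · -- dihedral
    set a := e.symm (DihedralGroup.r 1) with haD
    have hao : orderOf a = 2 ^ (k + 2) := by rw [haD, MulEquiv.orderOf_eq, DihedralGroup.orderOf_r_one]
    have hcT2 : Nat.card (T : Subgroup K) = 2 ^ ((k + 2) + 1) := by
      rw [Nat.card_congr e.toEquiv, DihedralGroup.nat_card, ← pow_succ']
    obtain ⟨i, hi⟩ : ∃ i, e ⟨v, hvT⟩ = DihedralGroup.sr i := by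
      rcases hev : e ⟨v, hvT⟩ with i | i
      · exfalso
        have hac : a ∈ centralizer ({(⟨v, hvT⟩ : (T : Subgroup K))} : Set (T : Subgroup K)) := by
          refine mem_centralizer_singleton_iff.2 (e.injective ?_)
          rw [map_mul, map_mul, hev, haD, MulEquiv.apply_symm_apply, DihedralGroup.r_mul_r,
            DihedralGroup.r_mul_r]
          exact congrArg DihedralGroup.r (add_comm _ _)
        have := Nat.le_of_dvd (by norm_num) (hC4 ▸ Subgroup.orderOf_dvd_natCard _ hac)
        rw [hao, pow_add] at this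
        have hk0 : k = 0 := by
          by_contra hk
          have : 2 ^ 1 ≤ 2 ^ k := Nat.pow_le_pow_right two_pos (Nat.pos_of_ne_zero hk)
          omega
        subst hk0
        have hi2 : e ⟨v, hvT⟩ = e ⟨z, hzT⟩ → False := fun h1 => B.ne (congrArg Subtype.val (e.injective h1))
        have hv2 : (DihedralGroup.r i : DihedralGroup (2 ^ (0 + 2))) ^ 2 = 1 := by
          rw [← hev, ← map_pow, show (⟨v, hvT⟩ : (T : Subgroup K)) ^ 2 = 1 from
            Subtype.ext (by rw [SubmonoidClass.coe_pow, OneMemClass.coe_one, pow_two, B.vv]), map_one]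
        have hv1 : (DihedralGroup.r i : DihedralGroup (2 ^ (0 + 2))) ≠ 1 := by
          rw [← hev]
          exact fun h1 => ne_one_of_order_two B.hv (congrArg Subtype.val (e.map_eq_one_iff.1 h1))
        have hcen : ∀ d : DihedralGroup (2 ^ (0 + 2)), d * DihedralGroup.r i = DihedralGroup.r i * d :=
          (show ∀ j : ZMod (2 ^ (0 + 2)), (DihedralGroup.r j : DihedralGroup (2 ^ (0 + 2))) ^ 2 = 1 →
              (DihedralGroup.r j : DihedralGroup (2 ^ (0 + 2))) ≠ 1 →
              ∀ d : DihedralGroup (2 ^ (0 + 2)), d * DihedralGroup.r j = DihedralGroup.r j * d by decide)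
            i hv2 hv1
        have h1 := hcen (e ⟨r, hrT⟩)
        rw [← hev, ← map_mul, ← map_mul] at h1
        have h2 : r * v = v * r := congrArg Subtype.val (e.injective h1)
        rw [h2, mul_inv_cancel_right] at hrv
        exact B.zv_ne hrv.symm
      · exact ⟨i, rfl⟩
    have hinv : v * (a : K) * v⁻¹ = (a : K)⁻¹ := by
      have h1 : (⟨v, hvT⟩ : (T : Subgroup K)) * a * (⟨v, hvT⟩ : (T : Subgroup K))⁻¹ = a⁻¹ := by
        apply e.injective
        rw [map_mul, map_mul, map_inv, map_inv, hi, haD, MulEquiv.apply_symm_apply]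
        simp [sub_eq_add_neg]
      exact congrArg Subtype.val h1
    have hax : v ∉ zpowers (a : K) := by
      intro hm
      obtain ⟨j, hj⟩ := mem_zpowers_iff.1 hm
      have h1 : (⟨v, hvT⟩ : (T : Subgroup K)) = a ^ j := Subtype.ext (by simpa using hj.symm)
      rw [h1, map_zpow, haD, MulEquiv.apply_symm_apply, DihedralGroup.r_one_zpow] at hi
      exact DihedralGroup.noConfusion rfl (heq_of_eq hi)
    have hao' : orderOf (a : K) = 2 ^ (k + 2) := by rw [Subgroup.orderOf_coe, hao]
    have hhalf : (a : K) ^ (2 ^ (k + 1)) = z := by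
      set t := (a : K) ^ (2 ^ (k + 1)) with htdef
      have ht2 : orderOf t = 2 := half_order (m := k + 2) (by omega) hao' rfl
      refine (hcentral t (pow_mem a.2 _) fun s hs => ?_).resolve_left (ne_one_of_order_two ht2)
      have hvt : Commute v t := by
        have h1 := inv_zpow_of_inverting hinv ((2 ^ (k + 1) : ℕ) : ℤ)
        rw [zpow_neg, zpow_natCast, ← htdef, inv_eq_of_order_two ht2] at h1
        exact mul_inv_eq_iff_eq_mul.1 h1
      obtain ⟨j, rfl | rfl⟩ := cases_of_index_two a.2 hvT hao' hcT2 hax hs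
      · exact (((Commute.refl (a : K)).zpow_left j).pow_right _).symm.eq
      · exact ((((Commute.refl (a : K)).zpow_left j).pow_right _).mul_left hvt).symm.eq
    rcases Nat.eq_zero_or_pos k with rfl | hk
    · exfalso
      exact no_sylow_eight B a.2 hvT hao' (by simpa using hhalf) hax hinv hcT2 (hPT hgz) (hPT hgv) hg
    · exact ⟨T, a, k + 2, ⟨a.2, hvT, by omega, hao', hcT2, by simpa using hhalf, hax⟩, Or.inl hinv⟩
  · -- semidihedral
    have hao' : orderOf (a : K) = 2 ^ (k + 3) := by rw [Subgroup.orderOf_coe, ha]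
    have hax : v ∉ zpowers (a : K) := by
      intro hm
      obtain ⟨j, hj⟩ := mem_zpowers_iff.1 hm
      have hac : a ∈ centralizer ({(⟨v, hvT⟩ : (T : Subgroup K))} : Set (T : Subgroup K)) := by
        rw [mem_centralizer_singleton_iff, show (⟨v, hvT⟩ : (T : Subgroup K)) = a ^ j from
          Subtype.ext (by simpa using hj.symm)]
        exact ((Commute.refl a).zpow_right j).eq
      have := Nat.le_of_dvd (by norm_num) (hC4 ▸ Subgroup.orderOf_dvd_natCard _ hac)
      rw [ha] at this
      have : 2 ^ 3 ≤ 2 ^ (k + 3) := Nat.pow_le_pow_right two_pos (by omega)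
      omega
    have hcT2 : Nat.card (T : Subgroup K) = 2 ^ ((k + 3) + 1) := hcard
    set t := (a : K) ^ (2 ^ (k + 2)) with htdef
    have ht2 : orderOf t = 2 := half_order (m := k + 3) (by omega) hao' rfl
    have hab' : (b : K) * a * (b : K)⁻¹ = (a : K) ^ (2 ^ (k + 2) - 1) := by
      simpa using congrArg Subtype.val hab
    have hpw : (a : K) ^ (2 ^ (k + 2) - 1) = (a : K)⁻¹ * t := by
      rw [eq_inv_mul_iff_mul_eq, ← pow_succ', htdef, Nat.sub_add_cancel Nat.one_le_two_pow]
    obtain ⟨i, hvi⟩ : ∃ i : ℤ, v = (a : K) ^ i * b := by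
      have hbx : (b : K) ∉ zpowers (a : K) := by
        intro hm
        obtain ⟨j, hj⟩ := mem_zpowers_iff.1 hm
        rw [← hj] at hab'
        rw [((Commute.refl (a : K)).zpow_left j).eq, mul_inv_cancel_right, hpw, eq_inv_mul_iff_mul_eq] at hab'
        have h4 : (a : K) ^ 4 = 1 := by
          rw [show 4 = 2 * 2 from rfl, pow_mul, pow_two (a : K), hab', pow_two, mul_self_eq_one ht2]
        have := Nat.le_of_dvd (by norm_num) (hao' ▸ orderOf_dvd_of_pow_eq_one h4)
        have : 2 ^ 3 ≤ 2 ^ (k + 3) := Nat.pow_le_pow_right two_pos (by omega)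
        omega
      obtain ⟨i, e | e⟩ := cases_of_index_two a.2 b.2 hao' hcT2 hbx hvT
      · exact absurd (mem_zpowers_iff.2 ⟨i, e.symm⟩) hax
      · exact ⟨i, e⟩
    have hva : v * (a : K) * v⁻¹ = (a : K)⁻¹ * t := by
      have hta : Commute ((a : K) ^ i) ((a : K)⁻¹ * t) :=
        ((Commute.refl (a : K)).zpow_left i).inv_right.mul_right
          (((Commute.refl (a : K)).zpow_left i).pow_right _)
      calc v * (a : K) * v⁻¹ = (a : K) ^ i * ((b : K) * a * (b : K)⁻¹) * ((a : K) ^ i)⁻¹ := by rw [hvi]; group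
        _ = (a : K)⁻¹ * t := by rw [hab', hpw, hta.eq, mul_inv_cancel_right]
    have hvt : Commute v t := by
      have h1 : v * t * v⁻¹ = t := by
        have hat : Commute (a : K)⁻¹ t := ((Commute.refl (a : K)).inv_left).pow_right _
        calc v * t * v⁻¹ = (v * (a : K) * v⁻¹) ^ (2 ^ (k + 2)) := by rw [htdef, conj_pow]
          _ = t⁻¹ * t ^ (2 ^ (k + 2)) := by rw [hva, hat.mul_pow, inv_pow]
          _ = t := by
            rw [inv_eq_of_order_two ht2, show 2 ^ (k + 2) = 2 * 2 ^ (k + 1) by ring, pow_mul, pow_two,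
              mul_self_eq_one ht2, one_pow, mul_one]
      exact mul_inv_eq_iff_eq_mul.1 h1
    have htz : t = z := by
      refine (hcentral t (pow_mem a.2 _) fun s hs => ?_).resolve_left (ne_one_of_order_two ht2)
      obtain ⟨j, rfl | rfl⟩ := cases_of_index_two a.2 hvT hao' hcT2 hax hs
      · exact (((Commute.refl (a : K)).zpow_left j).pow_right _).symm.eq
      · exact ((((Commute.refl (a : K)).zpow_left j).pow_right _).mul_left hvt).symm.eq
    exact ⟨T, a, k + 3, ⟨a.2, hvT, by omega, hao', hcT2, by simpa using htz, hax⟩, Or.inr (htz ▸ hva)⟩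
  · -- quaternion
    exfalso
    have hvo : orderOf (e ⟨v, hvT⟩) = 2 := by rw [MulEquiv.orderOf_eq, orderOf_mk, B.hv]
    have h1 := MaxClass.quaternion_involution_central hvo (e ⟨r, hrT⟩)
    rw [← map_mul, ← map_mul] at h1
    have h2 : r * v = v * r := congrArg Subtype.val (e.injective h1)
    rw [h2, mul_inv_cancel_right] at hrv
    exact B.zv_ne hrv.symm

end Cfsg.Agent.SubdegThree
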