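import Cfsg.Agent.SubdegThree.TwoGen
import Cfsg.Agent.S0213

/-!
The order formula for a group with dihedral Sylow 2-subgroup, two classes of involutions and an
involution with centralizer of order four: the conjugates of the other class commute pairwise.
-/

set_option autoImplicit false

namespace Cfsg.Agent.SubdegThree

open Subgroup

theorem two_class {M : Type*} [Group M] [Finite M] (T : Sylow 2 M) {t v x : M} {m : ℕ} (hm : 2 ≤ m)
    (hx : x ∈ (T : Subgroup M)) (hv : v ∈ (T : Subgroup M)) (hxo : orderOf x = 2 ^ m)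
    (hT : Nat.card (T : Subgroup M) = 2 ^ (m + 1)) (ht : x ^ (2 ^ (m - 1)) = t)
    (hvo : orderOf v = 2) (hvx : v ∉ zpowers x) (hinv : v * x * v⁻¹ = x⁻¹)
    (hC : Nat.card (centralizer ({v} : Set M)) = 4) (hu : IsConj t (v * x)) (hnc : ¬ IsConj t v) :
    m = 2 ∧ ∀ g h : M, Commute (g * t * g⁻¹) (h * t * h⁻¹) := by
  classical
  have : Fact (Nat.Prime 2) := ⟨Nat.prime_two⟩
  have hm1 : 1 ≤ m := by omega
  have hto : orderOf t = 2 := half_order hm1 hxo ht
  have hvv : v⁻¹ = v := inv_eq_of_order_two hvo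
  have htT : t ∈ (T : Subgroup M) := ht ▸ pow_mem hx _
  have ht1 : t ≠ 1 := ne_one_of_order_two hto
  have hv1 : v ≠ 1 := ne_one_of_order_two hvo
  have htx : t ∈ zpowers x := ht ▸ npow_mem_zpowers _ _
  have htvx : t * v ∉ zpowers x := fun h => hvx ((mul_mem_cancel_left htx).1 h)
  have hvt : Commute v t := by
    have h := inv_zpow_of_inverting hinv ((2 ^ (m - 1) : ℕ) : ℤ)
    rw [zpow_neg, zpow_natCast, ht, inv_eq_of_order_two hto] at h
    exact mul_inv_eq_iff_eq_mul.1 h
  -- the centralizer of v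
  have hCv : ∀ y : M, Commute y v → y = 1 ∨ y = t ∨ y = v ∨ y = t * v := by
    intro y hy
    have hsub : ({1, t, v, t * v} : Set M) ⊆ (centralizer ({v} : Set M) : Set M) := by
      intro w hw
      rw [SetLike.mem_coe, mem_centralizer_singleton_iff]
      rcases hw with rfl | rfl | rfl | rfl
      exacts [(Commute.one_left v).eq, hvt.symm.eq, rfl, (hvt.symm.mul_left (Commute.refl v)).eq]
    have hcard : ({1, t, v, t * v} : Set M).ncard = 4 := by
      rw [Set.ncard_insert_of_notMem, Set.ncard_insert_of_notMem, Set.ncard_pair]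
      · intro e; exact ht1 (by simpa using e.symm)
      · simp only [Set.mem_insert_iff, Set.mem_singleton_iff, not_or]
        exact ⟨fun e => hvx (e ▸ htx), fun e => htvx (e ▸ htx)⟩
      · simp only [Set.mem_insert_iff, Set.mem_singleton_iff, not_or]
        exact ⟨ht1.symm, hv1.symm, fun e => htvx (e ▸ one_mem _)⟩
    have heq := Set.eq_of_subset_of_ncard_le hsub (by
      rw [hcard, ← Nat.card_coe_set_eq]; exact hC.le)
    have hy' : y ∈ (centralizer ({v} : Set M) : Set M) := mem_centralizer_singleton_iff.2 hy.eq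
    rw [← heq] at hy'
    exact hy'
  -- the classes of the involutions of T
  have htv : IsConj v (t * v) := by
    have := (refl_isConj hinv ((2 ^ (m - 1) : ℕ) : ℤ)).1
      (by rw [Int.even_coe_nat]; exact Nat.even_pow.2 ⟨even_two, by omega⟩)
    rwa [zpow_natCast, ht] at this
  have hTcases : ∀ y ∈ (T : Subgroup M), orderOf y = 2 →
      y = t ∨ (∃ i : ℤ, Even i ∧ y = x ^ i * v) ∨ IsConj t y := by
    intro y hy hy2
    obtain ⟨i, rfl | rfl⟩ := cases_of_index_two hx hv hxo hT hvx hy
    · rcases zpow_eq_half hm1 hxo ht (mul_self_eq_one hy2) with e | e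
      · exact absurd e (ne_one_of_order_two hy2)
      · exact Or.inl e
    · rcases Int.even_or_odd i with hi | hi
      · exact Or.inr (Or.inl ⟨i, hi, rfl⟩)
      · exact Or.inr (Or.inr (hu.trans ((refl_isConj hinv i).2 hi)))
  have hall : ∀ w : M, orderOf w = 2 → IsConj t w ∨ IsConj v w := by
    intro w hw
    obtain ⟨d, hd⟩ := Invol.exists_conj_mem_of_isPGroup T (x := w) ⟨1, by rw [pow_one, hw]⟩
    have hdw : IsConj (d * w * d⁻¹) w := (isConj_iff.2 ⟨d, rfl⟩ : IsConj w (d * w * d⁻¹)).symm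
    rcases hTcases _ hd (by rw [orderOf_conj', hw]) with e | ⟨i, hi, e⟩ | e
    · exact Or.inl (e ▸ hdw)
    · exact Or.inr (((refl_isConj hinv i).1 hi).trans (e ▸ hdw))
    · exact Or.inl (e.trans hdw)
  have key := S0213.result t v hto hvo hnc hall
  set C := centralizer ({t} : Set M) with hCdef
  -- at most one pair over v
  have hn2 : Nat.card {p : M × M // IsConj t p.1 ∧ IsConj v p.2 ∧ v ∈ zpowers (p.1 * p.2)} ≤ 1 := by
    rw [Finite.card_le_one_iff_subsingleton]
    have hone : ∀ p : M × M, IsConj t p.1 → IsConj v p.2 → v ∈ zpowers (p.1 * p.2) →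
        p = (t, t * v) := by
      rintro ⟨a, b⟩ ha hb hmem
      dsimp only at ha hb hmem
      have ha2 : orderOf a = 2 := Invol.orderOf_eq_two_of_isConj ha hto
      have hb2 : orderOf b = 2 := Invol.orderOf_eq_two_of_isConj hb hvo
      obtain ⟨k, hk⟩ := mem_zpowers_iff.1 hmem
      have hinvab : a * (a * b) * a⁻¹ = (a * b)⁻¹ := by
        rw [mul_inv_rev, inv_eq_of_order_two ha2, inv_eq_of_order_two hb2, ← mul_assoc a a,
          mul_self_eq_one ha2, one_mul]
      have hca : Commute a v := by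
        have h := inv_zpow_of_inverting hinvab k
        rw [zpow_neg, hk, hvv] at h
        exact mul_inv_eq_iff_eq_mul.1 h
      have hcab : Commute (a * b) v := hk ▸ (Commute.refl _).zpow_right k
      have hcb : Commute b v := by
        have := (hca.inv_left).mul_left hcab
        rwa [inv_mul_cancel_left] at this
      have ea : a = t := by
        rcases hCv a hca with e | e | e | e
        · exact absurd e (ne_one_of_order_two ha2)
        · exact e
        · exact absurd (e ▸ ha) hnc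
        · exact absurd ((e ▸ ha : IsConj t (t * v)).trans htv.symm) hnc
      subst ea
      rcases hCv b hcb with e | e | e | e
      · exact absurd e (ne_one_of_order_two hb2)
      · exact absurd ((e ▸ hb : IsConj v a).symm) hnc
      · exfalso
        subst e
        have h2 : (a * b) * (a * b) = 1 := by
          rw [mul_assoc, ← mul_assoc b, hvt.eq, mul_assoc a b, mul_self_eq_one hvo, mul_one,
            mul_self_eq_one ha2]
        obtain ⟨c, rfl | rfl⟩ := Int.even_or_odd' k
        · rw [zpow_mul, zpow_two, h2, one_zpow] at hk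
          exact hv1 hk.symm
        · rw [zpow_add, zpow_mul, zpow_two, h2, one_zpow, one_mul, zpow_one] at hk
          exact ht1 (mul_eq_right.1 hk)
      · rw [e]
    exact ⟨fun p q => Subtype.ext ((hone _ p.2.1 p.2.2.1 p.2.2.2).trans
      (hone _ q.2.1 q.2.2.1 q.2.2.2).symm)⟩
  -- the pairs over t
  set A := {a : M | IsConj t a ∧ Commute a t} with hA
  set B := {b : M | IsConj v b ∧ Commute b t} with hB
  have hn1 : Nat.card {p : M × M // IsConj t p.1 ∧ IsConj v p.2 ∧ t ∈ zpowers (p.1 * p.2)} ≤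
      (A.ncard - 1) * B.ncard := by
    have hA1 : (A \ {t}).ncard = A.ncard - 1 :=
      Set.ncard_diff_singleton_of_mem ⟨IsConj.refl t, Commute.refl t⟩
    rw [← hA1, ← Set.ncard_prod, ← Nat.card_coe_set_eq]
    have hmap : ∀ p : {p : M × M // IsConj t p.1 ∧ IsConj v p.2 ∧ t ∈ zpowers (p.1 * p.2)},
        (p : M × M) ∈ (A \ {t}) ×ˢ B := by
      rintro ⟨⟨a, b⟩, ha, hb, hmem⟩
      dsimp only at ha hb hmem ⊢
      have ha2 : orderOf a = 2 := Invol.orderOf_eq_two_of_isConj ha hto
      have hb2 : orderOf b = 2 := Invol.orderOf_eq_two_of_isConj hb hvo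
      obtain ⟨k, hk⟩ := mem_zpowers_iff.1 hmem
      have hinvab : a * (a * b) * a⁻¹ = (a * b)⁻¹ := by
        rw [mul_inv_rev, inv_eq_of_order_two ha2, inv_eq_of_order_two hb2, ← mul_assoc a a,
          mul_self_eq_one ha2, one_mul]
      have hca : Commute a t := by
        have h := inv_zpow_of_inverting hinvab k
        rw [zpow_neg, hk, inv_eq_of_order_two hto] at h
        exact mul_inv_eq_iff_eq_mul.1 h
      have hcab : Commute (a * b) t := hk ▸ (Commute.refl _).zpow_right k
      have hcb : Commute b t := by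
        have := (hca.inv_left).mul_left hcab
        rwa [inv_mul_cancel_left] at this
      refine ⟨⟨⟨ha, hca⟩, ?_⟩, hb, hcb⟩
      rintro (rfl : a = t)
      have h2 : (a * b) * (a * b) = 1 := by
        rw [mul_assoc, ← mul_assoc b, hcb.eq, mul_assoc a b, mul_self_eq_one hb2, mul_one,
          mul_self_eq_one ha2]
      obtain ⟨c, rfl | rfl⟩ := Int.even_or_odd' k
      · rw [zpow_mul, zpow_two, h2, one_zpow] at hk
        exact ht1 hk.symm
      · rw [zpow_add, zpow_mul, zpow_two, h2, one_zpow, one_mul, zpow_one] at hk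
        exact ne_one_of_order_two hb2 (mul_eq_left.1 hk)
    exact Nat.card_le_card_of_injective (fun p => (⟨p.1, hmap p⟩ : ((A \ {t}) ×ˢ B : Set (M × M))))
      (fun p q h => Subtype.ext (congrArg (fun w : ((A \ {t}) ×ˢ B : Set (M × M)) => (w : M × M)) h))
  -- the second class inside the centralizer of t
  have hTC : (T : Subgroup M) ≤ C := by
    intro y hy
    rw [hCdef, mem_centralizer_singleton_iff]
    obtain ⟨i, rfl | rfl⟩ := cases_of_index_two hx hv hxo hT hvx hy <;> rw [← ht]
    · exact ((Commute.refl x).pow_right _ |>.zpow_left i).eq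
    · exact (((Commute.refl x).pow_right _ |>.zpow_left i).mul_left (ht ▸ hvt)).eq
  have hvC : v ∈ C := hTC hv
  have hB4 : B.ncard * 4 ≤ Nat.card C := by
    have h := Invol.card_isConj_mul_card_centralizer (⟨v, hvC⟩ : C)
    have h4 : Nat.card (centralizer ({(⟨v, hvC⟩ : C)} : Set C)) = 4 := by
      refine Eq.trans ?_ hC
      refine Nat.card_congr ⟨fun y => ⟨((y : C) : M), ?_⟩, fun y => ⟨⟨y, ?_⟩, ?_⟩, fun y => rfl, fun y => rfl⟩
      · exact mem_centralizer_singleton_iff.2
          (congrArg Subtype.val (mem_centralizer_singleton_iff.1 y.2))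
      · rw [hCdef, mem_centralizer_singleton_iff]
        rcases hCv y (mem_centralizer_singleton_iff.1 y.2) with e | e | e | e <;> rw [e]
        exacts [(Commute.one_left t).eq, hvt.eq, ((Commute.refl t).mul_left hvt).eq]
      · rw [mem_centralizer_singleton_iff]
        exact Subtype.ext (mem_centralizer_singleton_iff.1 y.2)
    rw [h4] at h
    rw [← h]
    refine Nat.mul_le_mul_right _ ?_
    rw [← Nat.card_coe_set_eq]
    have hmap : ∀ b : B, IsConj (⟨v, hvC⟩ : C)
        (⟨b, mem_centralizer_singleton_iff.2 b.2.2.eq⟩ : C) := by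
      rintro ⟨b, hb, hbt⟩
      have hb2 : orderOf b = 2 := Invol.orderOf_eq_two_of_isConj hb hvo
      let b' : C := ⟨b, mem_centralizer_singleton_iff.2 hbt.eq⟩
      obtain ⟨d, hd⟩ := Invol.exists_conj_mem_of_isPGroup (T.subtype hTC) (x := b')
        ⟨1, by rw [pow_one, ← Subgroup.orderOf_coe]; exact hb2⟩
      rw [Sylow.coe_subtype, mem_subgroupOf] at hd
      change (d : M) * b * (d : M)⁻¹ ∈ (T : Subgroup M) at hd
      have hdb : IsConj v ((d : M) * b * (d : M)⁻¹) := hb.trans (isConj_iff.2 ⟨d, rfl⟩)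
      rcases hTcases _ hd (by rw [orderOf_conj', hb2]) with e | ⟨i, ⟨a, ha⟩, e⟩ | e
      · exact absurd (e ▸ hdb).symm hnc
      · have hxC : x ∈ C := hTC hx
        refine IsConj.trans (b := d * b' * d⁻¹) (isConj_iff.2 ⟨⟨x, hxC⟩ ^ a, Subtype.ext ?_⟩)
          (isConj_iff.2 ⟨d, rfl⟩ : IsConj b' (d * b' * d⁻¹)).symm
        simp only [Subgroup.coe_mul, Subgroup.coe_inv, Subgroup.coe_zpow]
        have h2 := conj_refl hinv a 0
        rw [zpow_zero, one_mul, add_zero, two_mul, ← ha] at h2
        exact h2.trans e.symm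
      · exact absurd (e.trans hdb.symm) hnc
    exact Nat.card_le_card_of_injective
      (fun b : B => (⟨⟨b, mem_centralizer_singleton_iff.2 b.2.2.eq⟩, hmap b⟩ :
        {y : C // IsConj (⟨v, hvC⟩ : C) y}))
      (fun b c e => Subtype.ext (congrArg (fun y : {y : C // IsConj (⟨v, hvC⟩ : C) y} => ((y : C) : M)) e))
  -- all conjugates of t commute with t
  have hcl := Invol.card_isConj_mul_card_centralizer t
  rw [← hCdef, key, hC] at hcl
  have hApos : 1 ≤ A.ncard := (Set.ncard_pos (Set.toFinite A)).2 ⟨t, IsConj.refl t, Commute.refl t⟩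
  have hle : Nat.card {y : M // IsConj t y} * Nat.card C ≤ A.ncard * Nat.card C := by
    rw [hcl]
    calc 4 * Nat.card {p : M × M // IsConj t p.1 ∧ IsConj v p.2 ∧ t ∈ zpowers (p.1 * p.2)} +
          Nat.card C * Nat.card {p : M × M // IsConj t p.1 ∧ IsConj v p.2 ∧ v ∈ zpowers (p.1 * p.2)}
        ≤ 4 * ((A.ncard - 1) * B.ncard) + Nat.card C * 1 :=
          Nat.add_le_add (Nat.mul_le_mul_left 4 hn1) (Nat.mul_le_mul_left _ hn2)
      _ = (A.ncard - 1) * (B.ncard * 4) + Nat.card C := by ring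
      _ ≤ (A.ncard - 1) * Nat.card C + Nat.card C := Nat.add_le_add_right (Nat.mul_le_mul_left _ hB4) _
      _ = A.ncard * Nat.card C := by rw [← Nat.succ_mul]; congr 1; omega
  have hle' : Nat.card {y : M // IsConj t y} ≤ A.ncard := Nat.le_of_mul_le_mul_right hle Nat.card_pos
  have heq : A = {y : M | IsConj t y} := Set.eq_of_subset_of_ncard_le (fun y hy => hy.1)
    (by rw [← Nat.card_coe_set_eq]; exact hle')
  have hcomm : ∀ g h : M, Commute (g * t * g⁻¹) (h * t * h⁻¹) := by
    intro g h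
    have h1 : IsConj t ((h⁻¹ * g) * t * (h⁻¹ * g)⁻¹) := isConj_iff.2 ⟨_, rfl⟩
    have h2 : (h⁻¹ * g) * t * (h⁻¹ * g)⁻¹ ∈ A := heq ▸ h1
    have := h2.2.map (MulAut.conj h).toMonoidHom
    simpa [mul_assoc] using this
  refine ⟨?_, hcomm⟩
  obtain ⟨g, hg⟩ := isConj_iff.1 hu
  have h := hcomm g (x * g)
  rw [hg, show x * g * t * (x * g)⁻¹ = x * (g * t * g⁻¹) * x⁻¹ by group, hg] at h
  have e1 : (v * x) * (x * (v * x) * x⁻¹) = x ^ (-2 : ℤ) := by
    calc (v * x) * (x * (v * x) * x⁻¹) = v * x * x * v := by group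
      _ = (v * x ^ (2 : ℤ)) * v := by rw [zpow_two, ← mul_assoc v x x]
      _ = x ^ (-2 : ℤ) * (v * v) := by rw [swap_inverting hinv]; group
      _ = x ^ (-2 : ℤ) := by rw [mul_self_eq_one hvo, mul_one]
  have e2 : (x * (v * x) * x⁻¹) * (v * x) = x ^ (2 : ℤ) := by
    calc (x * (v * x) * x⁻¹) * (v * x) = x * (v * v) * x := by group
      _ = x ^ (2 : ℤ) := by rw [mul_self_eq_one hvo, mul_one, zpow_two]
  have h4 : x ^ (4 : ℤ) = 1 := by
    rw [show (4 : ℤ) = 2 + 2 by norm_num, zpow_add]
    nth_rewrite 2 [← e2]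
    rw [← h.eq, e1, ← zpow_add]
    norm_num
  rw [← orderOf_dvd_iff_zpow_eq_one, hxo] at h4
  have h5 : 2 ^ m ≤ 4 := Nat.le_of_dvd (by norm_num) (by exact_mod_cast h4)
  by_contra hne
  have : 2 ^ 3 ≤ 2 ^ m := Nat.pow_le_pow_right (by norm_num) (by omega)
  omega

end Cfsg.Agent.SubdegThree
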