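import Cfsg.Agent.SubdegThree.Fusion
import Cfsg.Agent.SubdegThree.Norm
import Cfsg.Agent.SubdegThree.TwoClass
import Cfsg.Agent.Invol.DihedralSylow
import Cfsg.Agent.MaxClass.Basic

/-!
The dihedral case: the centralizer of `z` is a group with an abelian subgroup of index two inverted
outside.
-/

set_option autoImplicit false

namespace Cfsg.Agent.SubdegThree

open Subgroup

variable {K : Type*} [Group K] [Finite K] {z v h x : K} {T : Sylow 2 K} {n : ℕ}

theorem TData.comm_z (D : TData z v T x n) (hc : v * z = z * v) {t : K}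
    (ht : t ∈ (T : Subgroup K)) : Commute t z := by
  have hxz : Commute x z := D.half ▸ (Commute.refl x).pow_right _
  obtain ⟨i, rfl | rfl⟩ := cases_of_index_two D.xT D.vT D.xo D.card D.vx ht
  · exact hxz.zpow_left i
  · exact (hxz.zpow_left i).mul_left hc

theorem TData.le_cent (D : TData z v T x n) (hc : v * z = z * v) :
    (T : Subgroup K) ≤ centralizer ({z} : Set K) :=
  fun _ ht => mem_centralizer_singleton_iff.2 (D.comm_z hc ht).eq

/-- The centralizer of `z` has a normal 2-complement. -/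
theorem complement (B : Base z v h) (D : TData z v T x n) (hinv : v * x * v⁻¹ = x⁻¹) :
    Cfsg.HasNormalPComplement 2 ↥(centralizer ({z} : Set K)) := by
  have hle := D.le_cent B.comm
  set C := centralizer ({z} : Set K)
  have hn := D.hn
  have : NeZero (2 ^ n) := ⟨by positivity⟩
  obtain ⟨e⟩ : Nonempty ((T : Subgroup K) ≃* DihedralGroup (2 ^ n)) := by
    refine MaxClass.nonempty_mulEquiv_dihedral (2 ^ n) (a := (⟨x, D.xT⟩ : (T : Subgroup K)))
      (g := ⟨v, D.vT⟩) (by rw [orderOf_mk, D.xo]) (Subtype.ext B.vv) (Subtype.ext hinv) (fun hm => ?_)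
      fun y => ?_
    · obtain ⟨i, hi⟩ := mem_zpowers_iff.1 hm
      exact D.vx (mem_zpowers_iff.2 ⟨i, by simpa using congrArg Subtype.val hi⟩)
    · obtain ⟨i, hi | hi⟩ := cases_of_index_two D.xT D.vT D.xo D.card D.vx y.2
      · exact Or.inl (mem_zpowers_iff.2 ⟨i, Subtype.ext (by simpa using hi.symm)⟩)
      · refine Or.inr (mem_zpowers_iff.2 ⟨-i, Subtype.ext ?_⟩)
        simp only [Subgroup.coe_zpow, Subgroup.coe_mul, Subgroup.coe_inv, hi]
        rw [inv_eq_of_order_two B.hv, ← mul_assoc, swap_inverting hinv, mul_assoc, B.vv, mul_one]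
  let TC : Sylow 2 C := T.subtype hle
  let eC : (TC : Subgroup C) ≃* DihedralGroup (2 ^ n) :=
    ((MulEquiv.subgroupCongr (T.coe_subtype hle)).trans (subgroupOfEquivOfLe hle)).trans e
  obtain ⟨k, ι, DD, hk⟩ := Invol.ddata_exists TC (Nat.le_self_pow (by omega) 2) eC
  refine DD.complement_of_not_conj fun a ha => ?_
  set c := ι (DihedralGroup.r (Invol.dh k)) with hc
  have hcT : ((c : C) : K) ∈ (T : Subgroup K) := by
    have := DD.mem (DihedralGroup.r (Invol.dh k))
    rw [T.coe_subtype hle, mem_subgroupOf] at this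
    exact this
  have hcc : ∀ t ∈ (T : Subgroup K), Commute t (c : K) := by
    intro t ht
    have : (⟨t, hle ht⟩ : C) ∈ (TC : Subgroup C) := by
      rw [T.coe_subtype hle, mem_subgroupOf]; exact ht
    exact congrArg Subtype.val (DD.z_comm this)
  have hco : orderOf (c : K) = 2 := (Subgroup.orderOf_coe c).trans DD.z_order
  have hzT : z ∈ (T : Subgroup K) := D.half ▸ pow_mem D.xT _
  have hcz : (c : K) = z := by
    have hcx : Commute x (c : K) := hcc x D.xT
    rcases B.cent c (hcc z hzT).symm (hcc v D.vT).symm with e | e | e | e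
    · exact absurd e (ne_one_of_order_two hco)
    · exact e
    · exfalso
      rw [e] at hcx
      rw [hcx.symm.eq, mul_inv_cancel_right] at hinv
      have h2 := D.xo ▸ orderOf_dvd_of_pow_eq_one (x := x) (n := 2)
        (by rw [pow_two]; nth_rewrite 1 [hinv]; rw [inv_mul_cancel])
      have := Nat.le_of_dvd two_pos h2
      have : 2 ^ 3 ≤ 2 ^ n := Nat.pow_le_pow_right two_pos hn
      omega
    · exfalso
      rw [e] at hcx
      have hxz : Commute x z := D.half ▸ (Commute.refl x).pow_right _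
      have h3 := hxz.mul_right hcx
      rw [← mul_assoc, B.zz, one_mul] at h3
      rw [h3.symm.eq, mul_inv_cancel_right] at hinv
      have h2 := D.xo ▸ orderOf_dvd_of_pow_eq_one (x := x) (n := 2)
        (by rw [pow_two]; nth_rewrite 1 [hinv]; rw [inv_mul_cancel])
      have := Nat.le_of_dvd two_pos h2
      have : 2 ^ 3 ≤ 2 ^ n := Nat.pow_le_pow_right two_pos hn
      omega
  obtain ⟨g, hg⟩ := isConj_iff.1 ha.symm
  have : g * c * g⁻¹ = c := by
    refine Subtype.ext ?_
    rw [Subgroup.coe_mul, Subgroup.coe_mul, Subgroup.coe_inv, hcz,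
      mem_centralizer_singleton_iff.1 g.2, mul_inv_cancel_right]
  exact DihedralGroup.noConfusion rfl (heq_of_eq (DD.inj (hg.symm.trans this)))

theorem mem_Wc_of_odd (B : Base z v h) (D : TData z v T x n) (hinv : v * x * v⁻¹ = x⁻¹) {y : K}
    (ho : Odd (orderOf y)) (hy : Commute y z) : y ∈ Wc z := by
  have : Fact (Nat.Prime 2) := ⟨Nat.prime_two⟩
  have hc := complement B D hinv
  refine ⟨⟨y, mem_centralizer_singleton_iff.2 hy.eq⟩, ?_, rfl⟩
  have hn : (Cfsg.pResidual 2 ↥(centralizer ({z} : Set K))).Normal := by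
    have := Fusion.pResidual_characteristic (p := 2) (G := ↥(centralizer ({z} : Set K)))
    infer_instance
  exact Core.le_pPrimeCore (Fusion.coprime_card_pResidual_of_hasNormalPComplement hc)
    (Fusion.mem_pResidual_of_coprime (by rw [orderOf_mk]; exact Nat.coprime_two_right.2 ho))

theorem decomp (B : Base z v h) (D : TData z v T x n) (hinv : v * x * v⁻¹ = x⁻¹) {y : K}
    (hy : Commute y z) : ∃ w ∈ Wc z, ∃ t ∈ (T : Subgroup K), y = w * t := by
  have : Fact (Nat.Prime 2) := ⟨Nat.prime_two⟩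
  have hc := complement B D hinv
  have hle := D.le_cent B.comm
  obtain ⟨⟨⟨w, hw⟩, ⟨t, ht'⟩⟩, hwt⟩ :=
    (Fusion.isComplement'_pResidual hc (T.subtype hle)).2 ⟨y, mem_centralizer_singleton_iff.2 hy.eq⟩
  have ht : t ∈ (T.subtype hle : Subgroup ↥(centralizer ({z} : Set K))) := ht'
  rw [T.coe_subtype hle, mem_subgroupOf] at ht
  refine ⟨w, mem_Wc_of_odd B D hinv ?_ (mem_centralizer_singleton_iff.1 w.2), t, ht,
    (congrArg Subtype.val hwt).symm⟩
  rw [Subgroup.orderOf_coe]
  exact Nat.coprime_two_right.1 ((Fusion.mem_pResidual_iff hc).1 hw)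

theorem eq_one_of_Wc_T {w : K} (hw : w ∈ Wc z) (hwT : w ∈ (T : Subgroup K)) : w = 1 :=
  eq_one_of_odd_mem T.2 hwT (odd_orderOf_mem (Wc_odd z) hw)

/-- The part of the core centralized by `u = vx` is trivial. -/
theorem fixed_eq_bot (B : Base z v h) (D : TData z v T x n) (hinv : v * x * v⁻¹ = x⁻¹)
    (hidx : ∀ M : Subgroup K, M.index ≠ 2) (htrick : Trick z v h) :
    Wc z ⊓ centralizer ({v * x} : Set K) = ⊥ := by
  classical
  have : Fact (Nat.Prime 2) := ⟨Nat.prime_two⟩
  set X := Wc z ⊓ centralizer ({v * x} : Set K) with hXdef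
  obtain ⟨u, hudef⟩ : ∃ u, u = v * x := ⟨_, rfl⟩
  rw [← hudef] at hXdef
  by_contra hX1
  have hn := D.hn
  have hzT : z ∈ (T : Subgroup K) := D.half ▸ pow_mem D.xT _
  have hxz : Commute x z := D.half ▸ (Commute.refl x).pow_right _
  have huT : u ∈ (T : Subgroup K) := hudef ▸ mul_mem D.vT D.xT
  have hu2 : orderOf u = 2 := by
    refine orderOf_eq_prime ?_ fun e => D.vx ?_
    · rw [pow_two, hudef, ← mul_assoc]
      nth_rewrite 2 [← inv_eq_of_order_two B.hv]
      rw [hinv, inv_mul_cancel]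
    · rw [hudef] at e
      rw [eq_inv_of_mul_eq_one_left e]; exact inv_mem (mem_zpowers x)
  have huz : Commute u z := hudef ▸ B.zv_comm.mul_left hxz
  have hcx : IsConj z u := isConj_of_no_index_two hidx D huT hu2
  -- the odd elements centralizing z and u
  have hXiff : ∀ y, y ∈ X ↔ Odd (orderOf y) ∧ Commute y z ∧ Commute y u := by
    intro y
    constructor
    · rintro ⟨h1, h2⟩
      exact ⟨odd_orderOf_mem (Wc_odd z) h1, Wc_comm h1, hudef ▸ mem_centralizer_singleton_iff.1 h2⟩
    · rintro ⟨ho, hz, hu⟩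
      exact ⟨mem_Wc_of_odd B D hinv ho hz, mem_centralizer_singleton_iff.2 (hudef ▸ hu.eq)⟩
  have hXW : X ≤ Wc z := inf_le_left
  obtain ⟨y0, hy0, hy01⟩ := (bot_or_exists_ne_one X).resolve_left hX1
  have hvX : ∀ y ∈ X, v * y * v⁻¹ = y⁻¹ := fun y hy => B.inverts (hXW hy)
  have hxX : ∀ y ∈ X, x * y * x⁻¹ = y⁻¹ := by
    intro y hy
    have hu' : Commute y u := ((hXiff y).1 hy).2.2
    calc x * y * x⁻¹ = v⁻¹ * ((u * y) * u⁻¹) * v := by rw [hudef]; group
      _ = v⁻¹ * y * v := by rw [← hu'.eq, mul_inv_cancel_right]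
      _ = y⁻¹ := by
        have := hvX y hy
        rwa [inv_eq_of_order_two B.hv] at this ⊢
  set M := normalizer (X : Set K) with hM
  have hWM : ∀ w ∈ Wc z, w ∈ M := fun w hw => mem_normalizer_of_conj fun y hy => by
    rw [(B.Wc_abelian hw (hXW hy)).eq, mul_inv_cancel_right]; exact hy
  have hxM : x ∈ M := mem_normalizer_of_conj fun y hy => by rw [hxX y hy]; exact inv_mem hy
  have hvM : v ∈ M := mem_normalizer_of_conj fun y hy => by rw [hvX y hy]; exact inv_mem hy
  have hTM : (T : Subgroup K) ≤ M := by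
    intro t ht
    obtain ⟨i, rfl | rfl⟩ := cases_of_index_two D.xT D.vT D.xo D.card D.vx ht
    · exact zpow_mem hxM i
    · exact mul_mem (zpow_mem hxM i) hvM
  have hCM : ∀ y, Commute y z → y ∈ M := by
    intro y hy
    obtain ⟨w, hw, t, ht, rfl⟩ := decomp B D hinv hy
    exact mul_mem (hWM w hw) (hTM ht)
  -- an element exchanging z and u
  obtain ⟨g, hg⟩ := isConj_iff.1 hcx.symm
  set s := g * z * g⁻¹ with hs
  have hsz : Commute s z := hg ▸ huz.symm.map (MulAut.conj g).toMonoidHom
  have hs2 : orderOf s = 2 := by rw [hs, orderOf_conj', B.hz]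
  have hs1 : s ≠ z := by
    intro e
    have h1 : g * z * g⁻¹ = g * u * g⁻¹ := e.trans hg.symm
    have h2 : z = u := (MulAut.conj g).injective h1
    have h3 : v = z * x⁻¹ := by rw [h2, hudef, mul_inv_cancel_right]
    exact D.vx (h3 ▸ mul_mem (D.half ▸ npow_mem_zpowers x _) (inv_mem (mem_zpowers x)))
  obtain ⟨c, hcz, hcs⟩ : ∃ c, Commute c z ∧ c * s * c⁻¹ = u := by
    have hle := D.le_cent B.comm
    let s' : centralizer ({z} : Set K) := ⟨s, mem_centralizer_singleton_iff.2 hsz.eq⟩
    obtain ⟨d, hd⟩ := Invol.exists_conj_mem_of_isPGroup (T.subtype hle) (x := s')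
      ⟨1, by rw [pow_one, orderOf_mk, hs2]⟩
    rw [T.coe_subtype hle, mem_subgroupOf] at hd
    change (d : K) * s * (d : K)⁻¹ ∈ (T : Subgroup K) at hd
    have hdz : Commute (d : K) z := mem_centralizer_singleton_iff.1 d.2
    have hd2 : orderOf ((d : K) * s * (d : K)⁻¹) = 2 := by rw [orderOf_conj', hs2]
    obtain ⟨i, e | e⟩ := cases_of_index_two D.xT D.vT D.xo D.card D.vx hd
    · exfalso
      rcases zpow_eq_half (by omega) D.xo D.half (i := i) (e ▸ mul_self_eq_one hd2) with e1 | e1
      · exact ne_one_of_order_two hd2 (e.trans e1)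
      · refine hs1 ((MulAut.conj (d : K)).injective ?_)
        show (d : K) * s * (d : K)⁻¹ = d * z * (d : K)⁻¹
        rw [e.trans e1, hdz.eq, mul_inv_cancel_right]
    · obtain ⟨a, rfl | rfl⟩ := Int.even_or_odd' i
      · exfalso
        have e1 : x ^ (2 * a) * v = x ^ a * v * (x ^ a)⁻¹ := by
          have := conj_refl hinv a 0
          rw [zpow_zero, one_mul, add_zero] at this
          exact this.symm
        rw [e1] at e
        set k := (x ^ a)⁻¹ * d * g with hk
        have hkz : k * z * k⁻¹ = v := by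
          calc k * z * k⁻¹ = (x ^ a)⁻¹ * ((d : K) * s * (d : K)⁻¹) * x ^ a := by rw [hk, hs]; group
            _ = v := by rw [e]; group
        have hku : k * u * k⁻¹ = z := by
          calc k * u * k⁻¹ = (x ^ a)⁻¹ * ((d : K) * (g * u * g⁻¹) * (d : K)⁻¹) * x ^ a := by
                rw [hk]; group
            _ = (x ^ a)⁻¹ * (z * x ^ a) := by rw [hg, hdz.eq, mul_inv_cancel_right, mul_assoc]
            _ = z := by rw [← (hxz.zpow_left a).eq, inv_mul_cancel_left]
        refine hy01 (conj_eq_one_iff.1 (B.odd_cent (y := k * y0 * k⁻¹) ?_ ?_ ?_))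
        · rw [orderOf_conj']; exact ((hXiff y0).1 hy0).1
        · exact hku ▸ ((hXiff y0).1 hy0).2.2.map (MulAut.conj k).toMonoidHom
        · exact hkz ▸ ((hXiff y0).1 hy0).2.1.map (MulAut.conj k).toMonoidHom
      · refine ⟨x ^ (-(a + 1)) * d, (hxz.zpow_left _).mul_left hdz, ?_⟩
        calc x ^ (-(a + 1)) * (d : K) * s * (x ^ (-(a + 1)) * (d : K))⁻¹
            = x ^ (-(a + 1)) * ((d : K) * s * (d : K)⁻¹) * (x ^ (-(a + 1)))⁻¹ := by group
          _ = x ^ (-1 : ℤ) * v := by rw [e, conj_refl hinv]; congr 2; ring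
          _ = u := by rw [hudef, ← swap_inverting hinv 1, zpow_one]
  set k := c * g with hk
  have hku : k * u * k⁻¹ = z := by
    calc k * u * k⁻¹ = c * (g * u * g⁻¹) * c⁻¹ := by rw [hk]; group
      _ = z := by rw [hg, hcz.eq, mul_inv_cancel_right]
  have hkz : k * z * k⁻¹ = u := by rw [← hcs, hk, hs]; group
  have hkM : k ∈ M := mem_normalizer_of_conj fun y hy => by
    obtain ⟨ho, hz, hu⟩ := (hXiff y).1 hy
    refine (hXiff _).2 ⟨by rw [orderOf_conj']; exact ho, ?_, ?_⟩
    · exact hku ▸ hu.map (MulAut.conj k).toMonoidHom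
    · exact hkz ▸ hz.map (MulAut.conj k).toMonoidHom
  have hzX : ∀ y ∈ X, Commute z y := fun y hy => ((hXiff y).1 hy).2.1.symm
  have hvnot : ∀ m ∈ M, m * z * m⁻¹ ≠ v := by
    intro m hm e
    refine hy01 (B.odd_cent ((hXiff y0).1 hy0).1 (hzX y0 hy0).symm ?_)
    have hy' : m⁻¹ * y0 * m ∈ X := by
      have := conj_mem_of_normalizer (inv_mem hm) hy0
      simpa using this
    have h1 := (hzX _ hy').map (MulAut.conj m).toMonoidHom
    change Commute (m * z * m⁻¹) (m * (m⁻¹ * y0 * m) * m⁻¹) at h1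
    rw [e, show m * (m⁻¹ * y0 * m) * m⁻¹ = y0 by group] at h1
    exact h1.symm
  by_cases hbad : ∃ b ∈ M, Commute b v ∧ Odd (orderOf b) ∧ b ≠ 1
  · -- an odd element of C(v) normalising X
    obtain ⟨b, hbM, hbv, hbo, hb1⟩ := hbad
    set b0 := h⁻¹ * b * h with hb0def
    have hb0o : Odd (orderOf b0) := by
      have := orderOf_conj' h⁻¹ b
      rw [inv_inv] at this
      rw [hb0def, this]; exact hbo
    have hb0z : Commute b0 z := by
      have h1 := hbv.map (MulAut.conj h⁻¹).toMonoidHom
      change Commute (h⁻¹ * b * h⁻¹⁻¹) (h⁻¹ * v * h⁻¹⁻¹) at h1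
      rw [inv_inv, show h⁻¹ * v * h = z by rw [← B.hh]; group] at h1
      exact h1
    have hb0W := mem_Wc_of_odd B D hinv hb0o hb0z
    have eb : b = h * b0 * h⁻¹ := by rw [hb0def]; group
    have hzb : z * b * z⁻¹ = b⁻¹ := by
      rw [eb, show z * (h * b0 * h⁻¹) * z⁻¹ = h * ((h⁻¹ * z * h) * b0 * (h⁻¹ * z * h)⁻¹) * h⁻¹ by group,
        B.h_inv_z, show z * v * b0 * (z * v)⁻¹ = z * (v * b0 * v⁻¹) * z⁻¹ by group, B.inverts hb0W,
        (Wc_comm hb0W).inv_left.symm.eq, mul_inv_cancel_right]
      group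
    have hbX : ∀ y ∈ X, Commute b y := by
      intro y hy
      have h1 : b * y * b⁻¹ ∈ X := conj_mem_of_normalizer hbM hy
      have h2 : b⁻¹ * y * b = b * y * b⁻¹ := by
        calc b⁻¹ * y * b = (z * b * z⁻¹) * (z * y * z⁻¹) * (z * b * z⁻¹)⁻¹ := by
              rw [hzb, (hzX y hy).eq, mul_inv_cancel_right, inv_inv]
          _ = z * (b * y * b⁻¹) * z⁻¹ := by group
          _ = b * y * b⁻¹ := by rw [(hzX _ h1).eq, mul_inv_cancel_right]
      have h3 : Commute (b * b) y := by
        show b * b * y = y * (b * b)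
        calc b * b * y = b * (b * y * b⁻¹) * b := by group
          _ = b * (b⁻¹ * y * b) * b := by rw [h2]
          _ = y * (b * b) := by group
      obtain ⟨m, hm⟩ := hbo
      have h4 : b = (b * b) ^ (m + 1) := by
        rw [← pow_two, ← pow_mul, show 2 * (m + 1) = orderOf b + 1 by omega, pow_succ, pow_orderOf_eq_one,
          one_mul]
      rw [h4]
      exact h3.pow_left _
    have ho : Odd (-1 : ℤ) := by decide
    have hxe : v * x * v⁻¹ = x ^ (-1 : ℤ) := by rw [hinv, zpow_neg_one]
    have heo : (-1 : ℤ) - 1 = 2 * (-1) := by norm_num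
    have hrv := B.quarter_conj D hxe ho heo
    have hrz : Commute (x ^ (2 ^ (n - 2))) z := hxz.pow_left _
    have := B.trick_apply htrick hrz hrv (fun w hw => (B.quarter_comm D hxe ho heo hw).2) hXW hX1
      hb0W (fun y hy => eb ▸ hbX y hy)
    exact hb1 (by rw [eb, this]; group)
  · -- the centralizer of v in M is the four-group
    push Not at hbad
    have hCle : ∀ m : M, Commute (m : K) v → (m : K) = 1 ∨ (m : K) = z ∨ (m : K) = v ∨ (m : K) = z * v := by
      let L : Subgroup K := M ⊓ centralizer ({v} : Set K)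
      have hL : IsPGroup 2 L := isPGroup_two_of_no_odd fun y hy ho => by
        by_contra hy1
        exact hy1 (hbad y hy.1 (mem_centralizer_singleton_iff.1 hy.2) ho)
      intro m hm
      by_contra hcon
      have hmL : (m : K) ∈ L := ⟨m.2, mem_centralizer_singleton_iff.2 hm.eq⟩
      set V := closure ({z, v} : Set K) with hV
      have hVmem : ∀ y ∈ V, y = 1 ∨ y = z ∨ y = v ∨ y = z * v := fun y hy =>
        mem_closure_pair B.zz B.vv B.comm hy
      have hVL : V ≤ L := by
        rw [hV, closure_le]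
        rintro y (rfl | rfl)
        · exact ⟨hTM hzT, mem_centralizer_singleton_iff.2 B.comm.symm⟩
        · exact ⟨hvM, mem_centralizer_singleton_iff.2 rfl⟩
      have := hL.isNilpotent
      have hlt : V.subgroupOf L < ⊤ := lt_top_iff_ne_top.2 fun e => hcon (hVmem _ (by
        have : (⟨m, hmL⟩ : L) ∈ V.subgroupOf L := e ▸ mem_top _
        exact this))
      obtain ⟨q, hqN, hqV⟩ := SetLike.exists_of_lt (Group.normalizerCondition_of_isNilpotent _ hlt)
      have hqv : Commute (q : K) v := mem_centralizer_singleton_iff.1 q.2.2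
      have hqz : (q : K) * z * (q : K)⁻¹ ∈ V :=
        ((mem_normalizer_iff.1 hqN) ⟨z, hVL (subset_closure (Or.inl rfl))⟩).1
          (subset_closure (Or.inl rfl))
      rcases hVmem _ hqz with e | e | e | e
      · exact ne_one_of_order_two B.hz (conj_eq_one_iff.1 e)
      · refine hqV ?_
        show (q : K) ∈ V
        rcases B.cent q (mul_inv_eq_iff_eq_mul.1 e) hqv with e' | e' | e' | e' <;> rw [e']
        exacts [one_mem _, subset_closure (Or.inl rfl), subset_closure (Or.inr rfl),
          mul_mem (subset_closure (Or.inl rfl)) (subset_closure (Or.inr rfl))]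
      · exact hvnot _ q.2.1 e
      · have hy0' : (q : K)⁻¹ * y0 * q ∈ X := by
          have := conj_mem_of_normalizer (inv_mem q.2.1) hy0
          simpa using this
        have h1 := (hzX _ hy0').map (MulAut.conj (q : K)).toMonoidHom
        change Commute ((q : K) * z * (q : K)⁻¹) ((q : K) * ((q : K)⁻¹ * y0 * q) * (q : K)⁻¹) at h1
        rw [e, show (q : K) * ((q : K)⁻¹ * y0 * q) * (q : K)⁻¹ = y0 by group] at h1
        refine hy01 (B.odd_cent ((hXiff y0).1 hy0).1 (hzX y0 hy0).symm ?_)
        have h2 := (hzX y0 hy0).mul_left h1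
        rw [← mul_assoc, B.zz, one_mul] at h2
        exact h2.symm
    have hzM : z ∈ M := hTM hzT
    have hC4 : Nat.card (centralizer ({(⟨v, hvM⟩ : M)} : Set M)) = 4 := by
      have hset : ((centralizer ({(⟨v, hvM⟩ : M)} : Set M)) : Set M) =
          {1, ⟨z, hzM⟩, ⟨v, hvM⟩, ⟨z, hzM⟩ * ⟨v, hvM⟩} := by
        ext m
        rw [SetLike.mem_coe, mem_centralizer_singleton_iff]
        constructor
        · intro hm
          rcases hCle m (congrArg Subtype.val hm) with e | e | e | e
          exacts [Or.inl (Subtype.ext e), Or.inr (Or.inl (Subtype.ext e)),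
            Or.inr (Or.inr (Or.inl (Subtype.ext e))), Or.inr (Or.inr (Or.inr (Subtype.ext e)))]
        · rintro (rfl | rfl | rfl | rfl) <;> refine Subtype.ext ?_
          exacts [(Commute.one_left v).eq, B.comm.symm, rfl, (B.zv_comm.symm.mul_left (Commute.refl v)).eq]
      rw [← SetLike.coe_sort_coe, Nat.card_coe_set_eq, hset, Set.ncard_insert_of_notMem,
        Set.ncard_insert_of_notMem, Set.ncard_pair]
      · intro e; exact B.zv_ne (congrArg Subtype.val e).symm
      · simp only [Set.mem_insert_iff, Set.mem_singleton_iff, not_or]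
        exact ⟨fun e => B.ne (congrArg Subtype.val e).symm,
          fun e => B.zv_ne' (congrArg Subtype.val e).symm⟩
      · simp only [Set.mem_insert_iff, Set.mem_singleton_iff, not_or]
        exact ⟨fun e => ne_one_of_order_two B.hz (congrArg Subtype.val e).symm,
          fun e => ne_one_of_order_two B.hv (congrArg Subtype.val e).symm,
          fun e => B.zv_one (congrArg Subtype.val e).symm⟩
    let TM : Sylow 2 M := T.subtype hTM
    have hcard : Nat.card (TM : Subgroup M) = 2 ^ (n + 1) := by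
      rw [T.coe_subtype hTM, Nat.card_congr (subgroupOfEquivOfLe hTM).toEquiv, D.card]
    have hres := two_class TM (t := (⟨z, hzM⟩ : M)) (v := ⟨v, hvM⟩) (x := ⟨x, hxM⟩) (m := n)
      (by omega) (by rw [T.coe_subtype hTM, mem_subgroupOf]; exact D.xT)
      (by rw [T.coe_subtype hTM, mem_subgroupOf]; exact D.vT) (by rw [orderOf_mk, D.xo]) hcard
      (Subtype.ext D.half) (by rw [orderOf_mk, B.hv])
      (fun hm => by
        obtain ⟨i, hi⟩ := mem_zpowers_iff.1 hm
        exact D.vx (mem_zpowers_iff.2 ⟨i, by simpa using congrArg Subtype.val hi⟩))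
      (Subtype.ext hinv) hC4 (isConj_iff.2 ⟨⟨k, hkM⟩, Subtype.ext (hkz.trans hudef)⟩)
      (fun hc => by
        obtain ⟨m, hm⟩ := isConj_iff.1 hc
        exact hvnot m m.2 (congrArg Subtype.val hm))
    omega

end Cfsg.Agent.SubdegThree
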