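import Cfsg.Agent.SubdegThree.Basic
import Mathlib.GroupTheory.Perm.Fin
import Mathlib.GroupTheory.Sylow

/-!
Fixed elements of the symmetric group of degree four.
-/

set_option autoImplicit false

namespace Cfsg.Agent.SubdegThree.P4

open Equiv Subgroup

abbrev S4 := Equiv.Perm (Fin 4)

def zz : S4 := swap 0 1 * swap 2 3
def vv : S4 := swap 0 2 * swap 1 3
def rr : S4 := swap 0 2 * swap 2 1 * swap 1 3
def hh : S4 := if (swap 1 2 * swap 1 3) * zz * (swap 1 2 * swap 1 3)⁻¹ = vv then swap 1 2 * swap 1 3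
  else swap 1 3 * swap 1 2

theorem rels : orderOf zz = 2 ∧ orderOf vv = 2 ∧ vv * zz = zz * vv ∧ vv ≠ zz ∧ hh * zz * hh⁻¹ = vv ∧
    hh * vv * hh⁻¹ = zz * vv ∧ hh ^ 3 = 1 ∧ rr * rr = zz ∧ rr * vv * rr⁻¹ = zz * vv := by
  refine ⟨orderOf_eq_prime (by decide) (by decide), orderOf_eq_prime (by decide) (by decide), ?_⟩
  decide

theorem cent : ∀ y : S4, y * zz = zz * y → y * vv = vv * y → y = 1 ∨ y = zz ∨ y = vv ∨ y = zz * vv := by
  decide

theorem normal_V : ∀ y : S4,
    (y * zz * y⁻¹ = zz ∨ y * zz * y⁻¹ = vv ∨ y * zz * y⁻¹ = zz * vv) ∧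
      (y * vv * y⁻¹ = zz ∨ y * vv * y⁻¹ = vv ∨ y * vv * y⁻¹ = zz * vv) := by
  decide

theorem gen : ∀ y : S4, ∃ (a : Fin 4) (b : Fin 2) (c : Fin 3), y = rr ^ (a : ℕ) * vv ^ (b : ℕ) * hh ^ (c : ℕ) := by
  decide

theorem card_centralizer : Nat.card (centralizer ({zz} : Set S4)) = 8 := by
  rw [← SetLike.coe_sort_coe, Nat.card_coe_set_eq,
    show (centralizer ({zz} : Set S4) : Set S4) = ((Finset.univ.filter fun y : S4 => y * zz = zz * y) : Finset S4) by
      ext y; simp [mem_centralizer_singleton_iff],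
    Set.ncard_coe_finset]
  decide

theorem mem_cent : zz ∈ centralizer ({zz} : Set S4) ∧ vv ∈ centralizer ({zz} : Set S4) ∧
    rr ∈ centralizer ({zz} : Set S4) := by
  simp only [mem_centralizer_singleton_iff]
  decide

/-- Every subgroup of order eight contains the four-group and is conjugate to the standard one. -/
theorem of_card_eight (U : Subgroup S4) (hU : Nat.card U = 8) :
    zz ∈ U ∧ vv ∈ U ∧ ∃ σ : S4, U.map (MulAut.conj σ).toMonoidHom = centralizer ({zz} : Set S4) := by
  have : Fact (Nat.Prime 2) := ⟨Nat.prime_two⟩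
  obtain ⟨hz2, hv2, hc, -, -⟩ := rels
  have hidx : ∀ X : Subgroup S4, Nat.card X = 8 → ¬ 2 ∣ X.index := by
    intro X hX
    have h := X.card_mul_index
    rw [hX, Nat.card_eq_fintype_card (α := S4), Fintype.card_perm, Fintype.card_fin] at h
    norm_num [Nat.factorial] at h
    omega
  let TU : Sylow 2 S4 := (IsPGroup.of_card (n := 3) (by rw [hU]; norm_num) : IsPGroup 2 U).toSylow (hidx U hU)
  let TZ : Sylow 2 S4 := (IsPGroup.of_card (n := 3) (by rw [card_centralizer]; norm_num) :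
    IsPGroup 2 (centralizer ({zz} : Set S4))).toSylow (hidx _ card_centralizer)
  set V := closure ({zz, vv} : Set S4)
  have hVn : V.Normal := by
    refine ⟨fun a ha g => ?_⟩
    have hmap : V.map (MulAut.conj g).toMonoidHom ≤ V := by
      rw [MonoidHom.map_closure, closure_le]
      have hm : ∀ w, (w = zz ∨ w = vv ∨ w = zz * vv) → w ∈ V := by
        intro w hw
        rcases hw with rfl | rfl | rfl
        exacts [subset_closure (Or.inl rfl), subset_closure (Or.inr rfl),
          mul_mem (subset_closure (Or.inl rfl)) (subset_closure (Or.inr rfl))]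
      rintro _ ⟨w, rfl | rfl, rfl⟩
      exacts [hm _ (normal_V g).1, hm _ (normal_V g).2]
    exact hmap ⟨a, ha, rfl⟩
  have hV2 : IsPGroup 2 V := by
    refine fun a => ⟨1, Subtype.ext ?_⟩
    rw [SubmonoidClass.coe_pow, OneMemClass.coe_one, pow_one, pow_two]
    rcases mem_closure_pair (mul_self_eq_one hz2) (mul_self_eq_one hv2) hc a.2 with e | e | e | e <;> rw [e]
    · rfl
    · exact mul_self_eq_one hz2
    · exact mul_self_eq_one hv2
    · decide
  have hle : V ≤ (TU : Subgroup S4) := hV2.le_sylow_of_normal TU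
  obtain ⟨σ, hσ⟩ := MulAction.exists_smul_eq S4 TU TZ
  refine ⟨hle (subset_closure (Or.inl rfl)), hle (subset_closure (Or.inr rfl)), σ, ?_⟩
  have := congrArg Sylow.toSubgroup hσ
  rw [Sylow.coe_subgroup_smul] at this
  exact this

end Cfsg.Agent.SubdegThree.P4
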