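import Cfsg.Agent.SubdegThree.Fusion

/-!
The semidihedral case: the elements of order four outside the cyclic maximal subgroup are fused to
those inside within the centralizer of `z`.
-/

set_option autoImplicit false

namespace Cfsg.Agent.SubdegThree

open Subgroup

variable {K : Type*} [Group K] {z v h x : K} {T : Sylow 2 K} {n : ℕ}

theorem zpow_even {z : K} (hz : z * z = 1) {i : ℤ} (hi : Even i) : z ^ i = 1 := by
  obtain ⟨a, rfl⟩ := hi
  rw [← two_mul, zpow_mul, zpow_two, hz, one_zpow]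

theorem zpow_odd {z : K} (hz : z * z = 1) {i : ℤ} (hi : Odd i) : z ^ i = z := by
  obtain ⟨a, rfl⟩ := hi
  rw [zpow_add, zpow_even hz ⟨a, two_mul a⟩, one_mul, zpow_one]

/-- Conjugation of the cyclic maximal subgroup by `v`. -/
theorem sd_conj (hxz : Commute x z) (hsd : v * x * v⁻¹ = x⁻¹ * z) (i : ℤ) :
    v * x ^ i * v⁻¹ = x ^ (-i) * z ^ i := by
  rw [← conj_zpow, hsd, (hxz.inv_left).mul_zpow, inv_zpow, zpow_neg]

theorem sd_swap (hxz : Commute x z) (hsd : v * x * v⁻¹ = x⁻¹ * z) (i : ℤ) :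
    v * x ^ i = x ^ (-i) * z ^ i * v := by
  rw [← sd_conj hxz hsd i, inv_mul_cancel_right]

/-- Squares in the outer coset. -/
theorem sd_sq (hxz : Commute x z) (hsd : v * x * v⁻¹ = x⁻¹ * z) (hv : v * v = 1) (i : ℤ) :
    x ^ i * v * (x ^ i * v) = z ^ i := by
  rw [mul_assoc, ← mul_assoc v, sd_swap hxz hsd, mul_assoc, hv, mul_one, ← mul_assoc, ← zpow_add,
    add_neg_cancel, zpow_zero, one_mul]

/-- The dihedral maximal subgroup. -/
def dihPart (hxz : Commute x z) (hsd : v * x * v⁻¹ = x⁻¹ * z) (hz : z * z = 1) (hv : v * v = 1) :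
    Subgroup K where
  carrier := {y | ∃ i : ℤ, Even i ∧ (y = x ^ i ∨ y = x ^ i * v)}
  one_mem' := ⟨0, ⟨0, rfl⟩, Or.inl (zpow_zero x).symm⟩
  mul_mem' := by
    rintro _ _ ⟨i, hi, rfl | rfl⟩ ⟨j, hj, rfl | rfl⟩
    · exact ⟨i + j, hi.add hj, Or.inl (zpow_add x i j).symm⟩
    · exact ⟨i + j, hi.add hj, Or.inr (by rw [zpow_add, mul_assoc])⟩
    · refine ⟨i + -j, hi.add hj.neg, Or.inr ?_⟩
      rw [mul_assoc, sd_swap hxz hsd, zpow_even hz hj, mul_one, ← mul_assoc, zpow_add]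
    · refine ⟨i + -j, hi.add hj.neg, Or.inl ?_⟩
      rw [mul_assoc, ← mul_assoc v, sd_swap hxz hsd, zpow_even hz hj, mul_one, mul_assoc _ v v, hv,
        mul_one, zpow_add]
  inv_mem' := by
    rintro _ ⟨i, hi, rfl | rfl⟩
    · exact ⟨-i, hi.neg, Or.inl (zpow_neg x i).symm⟩
    · refine ⟨i, hi, Or.inr (inv_eq_of_mul_eq_one_right ?_)⟩
      rw [sd_sq hxz hsd hv, zpow_even hz hi]

variable [Finite K]

theorem TData.xz (D : TData z v T x n) : Commute x z := D.half ▸ (Commute.refl x).pow_right _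

theorem zpow_half_even (D : TData z v T x n) {i : ℤ} (h : x ^ i * x ^ i = 1) : Even i := by
  have hn := D.hn
  rw [← zpow_add, ← orderOf_dvd_iff_zpow_eq_one, D.xo, ← two_mul] at h
  obtain ⟨m, rfl⟩ : ∃ m, n = m + 2 := ⟨n - 2, by omega⟩
  rw [Nat.cast_pow, Nat.cast_ofNat, pow_succ', mul_dvd_mul_iff_left (two_ne_zero : (2 : ℤ) ≠ 0),
    pow_succ'] at h
  obtain ⟨c, rfl⟩ := h
  exact ⟨2 ^ m * c, by ring⟩

theorem sq_one_mem_dihPart (B : Base z v h) (D : TData z v T x n) (hsd : v * x * v⁻¹ = x⁻¹ * z)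
    {y : K} (hy : y ∈ (T : Subgroup K)) (h2 : y * y = 1) :
    y ∈ dihPart D.xz hsd B.zz B.vv := by
  obtain ⟨i, rfl | rfl⟩ := cases_of_index_two D.xT D.vT D.xo D.card D.vx hy
  · exact ⟨i, zpow_half_even D h2, Or.inl rfl⟩
  · refine ⟨i, ?_, Or.inr rfl⟩
    rw [sd_sq D.xz hsd B.vv] at h2
    by_contra ho
    rw [Int.not_even_iff_odd] at ho
    exact ne_one_of_order_two B.hz ((zpow_odd B.zz ho).symm.trans h2)

theorem relIndex_dihPart (B : Base z v h) (D : TData z v T x n) (hsd : v * x * v⁻¹ = x⁻¹ * z) :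
    (dihPart D.xz hsd B.zz B.vv).relIndex (T : Subgroup K) = 2 := by
  have hn := D.hn
  have hev : ∀ i : ℤ, x ^ i ∈ dihPart D.xz hsd B.zz B.vv ↔ Even i := by
    intro i
    refine ⟨?_, fun hi => ⟨i, hi, Or.inl rfl⟩⟩
    rintro ⟨j, hj, e | e⟩
    · rw [zpow_eq_zpow_iff_modEq, D.xo, Int.modEq_iff_dvd] at e
      have h2 : (2 : ℤ) ∣ j - i := (dvd_trans (by
        push_cast; exact dvd_pow_self 2 (by omega)) e)
      exact even_iff_two_dvd.2 (by
        obtain ⟨c, hc⟩ := h2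
        obtain ⟨d, hd⟩ := hj
        exact ⟨d - c, by omega⟩)
    · exact absurd (by
        rw [show v = (x ^ j)⁻¹ * x ^ i by rw [e, inv_mul_cancel_left]]
        exact mul_mem (inv_mem (zpow_mem (mem_zpowers x) j)) (zpow_mem (mem_zpowers x) i)) D.vx
  have hvM : v ∈ dihPart D.xz hsd B.zz B.vv := ⟨0, ⟨0, rfl⟩, Or.inr (by rw [zpow_zero, one_mul])⟩
  rw [relIndex_eq_two_iff]
  refine ⟨x, D.xT, fun b hb => ?_⟩
  obtain ⟨i, rfl | rfl⟩ := cases_of_index_two D.xT D.vT D.xo D.card D.vx hb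
  · rw [← zpow_add_one, hev, hev, xor_iff_iff_not, Int.even_add_one]
  · rw [mul_mem_cancel_right hvM, hev,
      show x ^ i * v * x = x ^ (i - 1) * z * v by
        rw [mul_assoc]
        nth_rewrite 2 [← zpow_one x]
        rw [sd_swap D.xz hsd, zpow_one z, ← mul_assoc, ← mul_assoc, ← zpow_add, ← sub_eq_add_neg],
      mul_mem_cancel_right hvM, mul_mem_cancel_right, hev, xor_iff_iff_not, Int.even_sub_one]
    exact ⟨((2 ^ (n - 1) : ℕ) : ℤ), by rw [Int.even_coe_nat]; exact Nat.even_pow.2 ⟨even_two, by omega⟩,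
      Or.inl (by rw [zpow_natCast, D.half])⟩

theorem quarter_sq (D : TData z v T x n) : x ^ (2 ^ (n - 2)) * x ^ (2 ^ (n - 2)) = z := by
  have hn := D.hn
  rw [← pow_add, ← D.half, show n - 1 = (n - 2) + 1 by omega, pow_succ, mul_two]

/-- The element `xv` of order four is conjugate to the quarter element inside the centralizer of `z`. -/
theorem fuse_four (B : Base z v h) (D : TData z v T x n) (hsd : v * x * v⁻¹ = x⁻¹ * z)
    (hidx : ∀ M : Subgroup K, M.index ≠ 2) :
    ∃ g : K, Commute g z ∧ (g⁻¹ * (x * v) * g = x ^ (2 ^ (n - 2)) ∨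
      g⁻¹ * (x * v) * g = x ^ (2 ^ (n - 2)) * z) := by
  have hn := D.hn
  set r := x ^ (2 ^ (n - 2)) with hr
  set M := dihPart D.xz hsd B.zz B.vv with hM
  have huu : x * v * (x * v) = z := by
    have := sd_sq D.xz hsd B.vv 1
    simpa using this
  by_contra hcon
  push Not at hcon
  refine (TwoTransfer.exists_index_two T M (relIndex_dihPart B D hsd) (x * v) (mul_mem D.xT D.vT)
    (fun k g hk hmem => ?_) fun g hg hgM => ?_).elim fun N hN => hidx N hN.2.1
  · refine sq_one_mem_dihPart B D hsd hmem ?_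
    obtain ⟨i, rfl⟩ : ∃ i, k = i + 1 := ⟨k - 1, by omega⟩
    rw [pow_succ', pow_mul, pow_two, huu]
    calc g⁻¹ * z ^ 2 ^ i * g * (g⁻¹ * z ^ 2 ^ i * g) = g⁻¹ * (z * z) ^ 2 ^ i * g := by
          rw [(Commute.refl z).mul_pow]; group
      _ = 1 := by rw [B.zz, one_pow, mul_one, inv_mul_cancel]
  · obtain ⟨i, hi, e | e⟩ := hgM
    · have hy2 : x ^ i * x ^ i = g⁻¹ * z * g := by rw [← e, ← huu]; group
      have hy4 : (x ^ i * x ^ i) * (x ^ i * x ^ i) = 1 := by
        rw [hy2, show g⁻¹ * z * g * (g⁻¹ * z * g) = g⁻¹ * (z * z) * g by group, B.zz, mul_one,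
          inv_mul_cancel]
      have hgz : g⁻¹ * z * g = z := by
        rw [← hy2]
        rw [← zpow_add] at hy4 ⊢
        rcases zpow_eq_half (by omega) D.xo D.half hy4 with e1 | e1
        · exfalso
          rw [zpow_add, hy2] at e1
          apply ne_one_of_order_two B.hz
          calc z = g * (g⁻¹ * z * g) * g⁻¹ := by group
            _ = 1 := by rw [e1]; group
        · exact e1
      have hgc : Commute g z := by
        show g * z = z * g
        conv_lhs => rw [← hgz]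
        group
      obtain ⟨h1, h2⟩ := hcon g hgc
      have hrr : r * r = z := quarter_sq D
      have hsq : (x ^ i * r⁻¹) * (x ^ i * r⁻¹) = 1 := by
        have hc : Commute (x ^ i) r⁻¹ := ((Commute.refl x).pow_right _).inv_right.zpow_left i
        rw [hc.symm.mul_mul_mul_comm, hy2, hgz, ← mul_inv_rev, hrr, mul_inv_cancel]
      rw [hr, ← zpow_natCast, ← zpow_neg, ← zpow_add] at hsq
      rcases zpow_eq_half (by omega) D.xo D.half hsq with e1 | e1
      · refine h1 (e.trans ?_)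
        rw [zpow_add, zpow_neg, zpow_natCast, mul_inv_eq_one] at e1
        exact e1
      · refine h2 (e.trans ?_)
        rw [zpow_add, zpow_neg, zpow_natCast, mul_inv_eq_iff_eq_mul] at e1
        rw [e1]
        exact (D.xz.pow_left _).symm.eq
    · have h1 : (g⁻¹ * (x * v) * g) * (g⁻¹ * (x * v) * g) = 1 := by
        rw [e, sd_sq D.xz hsd B.vv, zpow_even B.zz hi]
      apply ne_one_of_order_two B.hz
      calc z = g * ((g⁻¹ * (x * v) * g) * (g⁻¹ * (x * v) * g)) * g⁻¹ := by rw [← huu]; group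
        _ = 1 := by rw [h1]; group

end Cfsg.Agent.SubdegThree
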