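import Cfsg.Agent.SubdegThree.SDFusion
import Cfsg.Agent.SubdegThree.CoreLift
import Cfsg.Agent.SubdegThree.TwoClass
import Cfsg.Agent.SubdegThree.Norm
import Cfsg.Agent.SmallOrder.Order5616.Cent48
import Cfsg.Agent.MaxClass.Class

/-!
The semidihedral case: the centralizer of `z` modulo its odd core is `GL(2,3)`.
-/

set_option autoImplicit false

namespace Cfsg.Agent.SubdegThree

open Subgroup

variable {K : Type*} [Group K] [Finite K] {z v h x : K} {T : Sylow 2 K} {n : ℕ}

theorem sd_comm_z (B : Base z v h) (D : TData z v T x n) {t : K} (ht : t ∈ (T : Subgroup K)) :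
    Commute t z := by
  obtain ⟨i, rfl | rfl⟩ := cases_of_index_two D.xT D.vT D.xo D.card D.vx ht
  · exact D.xz.zpow_left i
  · exact (D.xz.zpow_left i).mul_left B.zv_comm

theorem sd_x_even (D : TData z v T x n) (hsd : v * x * v⁻¹ = x⁻¹ * z) :
    v * x * v⁻¹ = x ^ (((2 ^ (n - 1) : ℕ) : ℤ) - 1) := by
  rw [hsd, zpow_sub_one, zpow_natCast, D.half]
  exact D.xz.inv_left.eq

/-- The quarter element and `xv` centralize the core. -/
theorem sd_comm_Wc (B : Base z v h) (D : TData z v T x n) (hsd : v * x * v⁻¹ = x⁻¹ * z)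
    (hidx : ∀ M : Subgroup K, M.index ≠ 2) {w : K} (hw : w ∈ Wc z) :
    Commute (x ^ (2 ^ (n - 2))) w ∧ Commute (x * v) w ∧ x * w * x⁻¹ = w⁻¹ := by
  have hn := D.hn
  have ho : Odd (((2 ^ (n - 2) : ℕ) : ℤ) - 1) := by
    refine Int.odd_iff.2 ?_
    obtain ⟨m, hm⟩ : ∃ m, n - 2 = m + 1 := ⟨n - 3, by omega⟩
    rw [hm, pow_succ]
    push_cast
    omega
  have heo : ((2 ^ (n - 1) : ℕ) : ℤ) - 1 - 1 = 2 * (((2 ^ (n - 2) : ℕ) : ℤ) - 1) := by
    rw [show n - 1 = (n - 2) + 1 by omega, pow_succ]
    push_cast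
    ring
  have hq : ∀ w' ∈ Wc z, Commute (x ^ (2 ^ (n - 2))) w' := fun w' hw' =>
    (B.quarter_comm D (sd_x_even D hsd) ho heo hw').2
  obtain ⟨g, hgz, hg⟩ := fuse_four B D hsd hidx
  have hw' : g⁻¹ * w * g ∈ Wc z := by
    have := Wc_conj hw hgz.inv_left
    simpa using this
  have hu : Commute (g⁻¹ * (x * v) * g) (g⁻¹ * w * g) := by
    rcases hg with e | e <;> rw [e]
    · exact hq _ hw'
    · exact (hq _ hw').mul_left (Wc_comm hw').symm
  have hu' : Commute (x * v) w := by
    have := hu.map (MulAut.conj g).toMonoidHom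
    simpa [mul_assoc] using this
  refine ⟨hq w hw, hu', ?_⟩
  calc x * w * x⁻¹ = (x * v) * (v⁻¹ * w * v) * (x * v)⁻¹ := by group
    _ = (x * v) * w⁻¹ * (x * v)⁻¹ := by
      have := B.inverts hw
      rw [inv_eq_of_order_two B.hv] at this ⊢
      rw [this]
    _ = w⁻¹ := by rw [hu'.inv_right.eq, mul_inv_cancel_right]

theorem sd_quot (B : Base z v h) (D : TData z v T x n) (hsd : v * x * v⁻¹ = x⁻¹ * z)
    (hidx : ∀ M : Subgroup K, M.index ≠ 2) :
    Nonempty ((↥(centralizer ({z} : Set K)) ⧸ Cfsg.oddCore ↥(centralizer ({z} : Set K)))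
      ≃* GL (Fin 2) (ZMod 3)) := by
  classical
  have : Fact (Nat.Prime 2) := ⟨Nat.prime_two⟩
  have hn := D.hn
  have hzT : z ∈ (T : Subgroup K) := D.half ▸ pow_mem D.xT _
  set C := centralizer ({z} : Set K) with hCdef
  have hle : (T : Subgroup K) ≤ C := fun t ht =>
    mem_centralizer_singleton_iff.2 (sd_comm_z B D ht).eq
  set W := Cfsg.oddCore ↥C with hW
  have hWn : W.Normal := inferInstance
  have hWodd : Odd (Nat.card W) := Nat.coprime_two_right.1 (Core.coprime_card_pPrimeCore (p := 2))
  let Q := ↥C ⧸ W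
  let π : C →* Q := QuotientGroup.mk' W
  have hπ : Function.Surjective π := QuotientGroup.mk'_surjective W
  let zc : C := ⟨z, mem_centralizer_singleton_iff.2 rfl⟩
  let vc : C := ⟨v, hle D.vT⟩
  let xc : C := ⟨x, hle D.xT⟩
  let t : Q := π zc
  have htc : t ∈ center Q := by
    rw [mem_center_iff]
    intro q
    obtain ⟨c, rfl⟩ := hπ q
    rw [← map_mul, ← map_mul]
    exact congrArg π (Subtype.ext (mem_centralizer_singleton_iff.1 c.2))
  have hπ1 : ∀ c : C, π c = 1 ↔ (c : K) ∈ Wc z := by
    intro c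
    show (QuotientGroup.mk' W) c = 1 ↔ _
    rw [QuotientGroup.mk'_apply, QuotientGroup.eq_one_iff]
    exact ⟨fun hc => ⟨c, hc, rfl⟩, fun ⟨c', hc', e⟩ => (Subtype.ext e : c' = c) ▸ hc'⟩
  have hWT : ∀ y, y ∈ Wc z → y ∈ (T : Subgroup K) → y = 1 := fun y h1 h2 =>
    eq_one_of_odd_mem T.2 h2 (odd_orderOf_mem (Wc_odd z) h1)
  have hto : orderOf t = 2 := by
    refine orderOf_eq_prime (by rw [← map_pow]; exact (congrArg π (Subtype.ext (by
      rw [SubmonoidClass.coe_pow, OneMemClass.coe_one, pow_two]; exact B.zz))).trans (map_one π)) fun e => ?_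
    exact ne_one_of_order_two B.hz (hWT z ((hπ1 zc).1 e) hzT)
  set Z2 := zpowers t with hZ2
  have hZn : Z2.Normal := by
    refine ⟨fun a ha g => ?_⟩
    have : a ∈ center Q := (zpowers_le.2 htc) ha
    rw [mem_center_iff.1 this g, mul_inv_cancel_right]
    exact ha
  have hZmem : ∀ q, q ∈ Z2 ↔ q = 1 ∨ q = t := by
    intro q
    refine ⟨fun hq => ?_, fun hq => ?_⟩
    · obtain ⟨i, rfl⟩ := mem_zpowers_iff.1 hq
      rcases Int.even_or_odd i with hi | hi
      · exact Or.inl (zpow_even (mul_self_eq_one hto) hi)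
      · exact Or.inr (zpow_odd (mul_self_eq_one hto) hi)
    · rcases hq with rfl | rfl
      exacts [one_mem _, mem_zpowers _]
  let Y := Q ⧸ Z2
  let σ : Q →* Y := QuotientGroup.mk' Z2
  let φ : C →* Y := σ.comp π
  have hφ : Function.Surjective φ := (QuotientGroup.mk'_surjective Z2).comp hπ
  have hker : ∀ c : C, φ c = 1 ↔ (c : K) ∈ Wc z ∨ (c : K) * z ∈ Wc z := by
    intro c
    show (QuotientGroup.mk' Z2) (π c) = 1 ↔ _
    rw [QuotientGroup.mk'_apply, QuotientGroup.eq_one_iff, hZmem]
    have htt : t * t = 1 := mul_self_eq_one hto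
    refine or_congr (hπ1 c) ⟨fun e => (hπ1 (c * zc)).1 (by rw [map_mul, e]; exact htt), fun e => ?_⟩
    have := (hπ1 (c * zc)).2 e
    rw [map_mul] at this
    rw [eq_inv_of_mul_eq_one_left this]
    exact inv_eq_of_order_two hto
  have hkerT : ∀ c : C, (c : K) ∈ (T : Subgroup K) → φ c = 1 → (c : K) = 1 ∨ (c : K) = z := by
    intro c hc e
    rcases (hker c).1 e with e1 | e1
    · exact Or.inl (hWT _ e1 hc)
    · right
      rw [eq_inv_of_mul_eq_one_left (hWT _ e1 (mul_mem hc hzT)), inv_eq_of_order_two B.hz]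
  let TC : Sylow 2 C := T.subtype hle
  let TY : Sylow 2 Y := TC.mapSurjective hφ
  have hTYmem : ∀ y, y ∈ (TY : Subgroup Y) ↔ ∃ c : C, (c : K) ∈ (T : Subgroup K) ∧ φ c = y := by
    intro y
    show y ∈ ((TC : Subgroup C).map φ) ↔ _
    rw [mem_map]
    simp only [T.coe_subtype hle, mem_subgroupOf, TC]
  have hTYc : Nat.card (TY : Subgroup Y) = 2 ^ n := by
    have hcardT : Nat.card (TC : Subgroup C) = 2 ^ (n + 1) := by
      rw [T.coe_subtype hle, Nat.card_congr (subgroupOfEquivOfLe hle).toEquiv, D.card]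
    have h1 := (φ.subgroupMap (TC : Subgroup C)).ker.card_mul_index
    rw [index_ker, MonoidHom.range_eq_top.2 (φ.subgroupMap_surjective _), card_top, hcardT] at h1
    have h2 : Nat.card (φ.subgroupMap (TC : Subgroup C)).ker = 2 := by
      have hzc : (⟨zc, by rw [T.coe_subtype hle]; exact hzT⟩ : (TC : Subgroup C)) ∈
          (φ.subgroupMap (TC : Subgroup C)).ker :=
        Subtype.ext ((hker zc).2 (Or.inr (by show z * z ∈ Wc z; rw [B.zz]; exact one_mem _)))
      refine (Nat.card_eq_two_iff' (1 : (φ.subgroupMap (TC : Subgroup C)).ker)).2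
        ⟨⟨_, hzc⟩, fun e => ne_one_of_order_two B.hz (congrArg
          (fun c : (φ.subgroupMap (TC : Subgroup C)).ker => (((c : (TC : Subgroup C)) : C) : K)) e),
          fun c hc => ?_⟩
      obtain ⟨⟨c, hcT⟩, hck⟩ := c
      have hcT' : (c : K) ∈ (T : Subgroup K) := by
        have := hcT; rw [T.coe_subtype hle, mem_subgroupOf] at this; exact this
      rcases hkerT c hcT' (congrArg Subtype.val hck) with e | e
      · exact absurd (Subtype.ext (Subtype.ext (Subtype.ext e))) hc
      · exact Subtype.ext (Subtype.ext (Subtype.ext e))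
    rw [h2, pow_succ'] at h1
    exact Nat.eq_of_mul_eq_mul_left two_pos h1
  -- the generators
  set t' := φ (xc ^ (2 ^ (n - 2))) with ht'
  set v' := φ vc with hv'
  set x' := φ xc with hx'
  have hzφ : φ zc = 1 := (hker zc).2 (Or.inr (by show z * z ∈ Wc z; rw [B.zz]; exact one_mem _))
  have hxz' : φ (xc ^ 2 ^ (n - 1)) = 1 := by
    rw [show xc ^ 2 ^ (n - 1) = zc from Subtype.ext (by simpa [xc, zc] using D.half), hzφ]
  have hx'o : orderOf x' = 2 ^ (n - 1) := by
    obtain ⟨m, hm⟩ : ∃ m, n - 1 = m + 1 := ⟨n - 2, by omega⟩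
    rw [hm]
    refine orderOf_eq_prime_pow (fun e => ?_) (by rw [← hm, ← map_pow, hxz'])
    rw [← map_pow] at e
    have hr : x ^ 2 ^ m ∈ (T : Subgroup K) := pow_mem D.xT _
    have hor : orderOf (x ^ 2 ^ m) = 4 := by
      rw [orderOf_pow_of_dvd (by positivity) (by rw [D.xo]; exact pow_dvd_pow 2 (by omega)), D.xo,
        Nat.pow_div (by omega) two_pos, show n - m = 2 by omega]
      norm_num
    rcases hkerT (xc ^ 2 ^ m) (by simpa [xc] using hr) e with e1 | e1 <;>
      simp only [SubmonoidClass.coe_pow, xc] at e1 <;> rw [e1] at hor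
    · rw [orderOf_one] at hor; omega
    · rw [B.hz] at hor; omega
  have hv'o : orderOf v' = 2 := by
    refine orderOf_eq_prime (by rw [← map_pow]; exact (congrArg φ (Subtype.ext (by
      rw [SubmonoidClass.coe_pow, OneMemClass.coe_one, pow_two]; exact B.vv))).trans (map_one φ)) fun e => ?_
    rcases hkerT vc D.vT e with e1 | e1
    · exact ne_one_of_order_two B.hv e1
    · exact B.ne e1
  have hinv : v' * x' * v'⁻¹ = x'⁻¹ := by
    rw [← map_inv, ← map_mul, ← map_mul, show vc * xc * vc⁻¹ = xc⁻¹ * zc from Subtype.ext hsd,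
      map_mul, hzφ, mul_one, map_inv]
  have hvx' : v' ∉ zpowers x' := by
    intro hm
    obtain ⟨i, hi⟩ := mem_zpowers_iff.1 hm
    rw [hx', ← map_zpow] at hi
    have e : φ (xc ^ i * vc⁻¹) = 1 := by rw [map_mul, hi, map_inv, mul_inv_cancel]
    have hTm : x ^ i * v⁻¹ ∈ (T : Subgroup K) := mul_mem (zpow_mem D.xT i) (inv_mem D.vT)
    rcases hkerT (xc ^ i * vc⁻¹) (by simpa [xc, vc] using hTm) e with e1 | e1 <;>
      simp only [Subgroup.coe_mul, Subgroup.coe_zpow, Subgroup.coe_inv, xc, vc] at e1
    · exact D.vx (mul_inv_eq_one.1 e1 ▸ zpow_mem (mem_zpowers x) i)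
    · refine D.vx ?_
      rw [show v = z⁻¹ * x ^ i by rw [← e1]; group]
      exact mul_mem (inv_mem (D.half ▸ npow_mem_zpowers x _)) (zpow_mem (mem_zpowers x) i)
  set rc : C := xc ^ (2 ^ (n - 2)) with hrc
  have hrK : (rc : K) = x ^ (2 ^ (n - 2)) := by simp [rc, xc]
  have hrT : (rc : K) ∈ (T : Subgroup K) := hrK ▸ pow_mem D.xT _
  have hrr : (rc : K) * rc = z := hrK ▸ quarter_sq D
  have hrv : (rc : K) * v * (rc : K)⁻¹ = z * v := by
    rw [hrK]
    refine B.quarter_conj D (sd_x_even D hsd) (o := ((2 ^ (n - 2) : ℕ) : ℤ) - 1) ?_ ?_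
    · refine Int.odd_iff.2 ?_
      obtain ⟨m, hm⟩ : ∃ m, n - 2 = m + 1 := ⟨n - 3, by omega⟩
      rw [hm, pow_succ]
      push_cast
      omega
    · rw [show n - 1 = (n - 2) + 1 by omega, pow_succ]
      push_cast
      ring
  -- the centralizer of v'
  have hC4 : Nat.card (centralizer ({v'} : Set Y)) = 4 := by
    have hset : (centralizer ({v'} : Set Y) : Set Y) = {1, t', v', t' * v'} := by
      have htv : t' * v' = v' * t' := by
        rw [ht', hv', ← map_mul, ← map_mul]
        have e : rc * vc = zc * (vc * rc) := Subtype.ext (by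
          show (rc : K) * v = z * (v * rc)
          rw [← mul_assoc, ← hrv, inv_mul_cancel_right])
        rw [e, map_mul, hzφ, one_mul]
      ext y
      rw [SetLike.mem_coe, mem_centralizer_singleton_iff]
      constructor
      · intro hy
        obtain ⟨c, rfl⟩ := hφ y
        have hd : ∃ a : K, a ∈ Wc z ∧ ((c : K) * v * (c : K)⁻¹ = a * v ∨ (c : K) * v * (c : K)⁻¹ = a * (z * v)) := by
          have e : φ (c * vc * c⁻¹ * vc⁻¹) = 1 := by
            rw [map_mul, map_mul, map_mul, map_inv, map_inv, ← hv', hy]; group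
          rcases (hker _).1 e with e1 | e1
          · exact ⟨_, e1, Or.inl (by simp only [Subgroup.coe_mul, Subgroup.coe_inv, vc]; group)⟩
          · refine ⟨_, e1, Or.inr ?_⟩
            simp only [Subgroup.coe_mul, Subgroup.coe_inv, vc]
            rw [mul_assoc _ z (z * v), ← mul_assoc z z v, B.zz, one_mul]
            group
        obtain ⟨a, ha, hca⟩ := hd
        obtain ⟨m, hm⟩ := odd_orderOf_mem (Wc_odd z) ha
        set s := a ^ (m + 1) with hs
        have hsW : s ∈ Wc z := pow_mem ha _
        have hsv : s * v * s⁻¹ = a * v := by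
          calc s * v * s⁻¹ = s * (v * s⁻¹ * v⁻¹) * v := by group
            _ = s * s * v := by rw [← conj_inv, B.inverts hsW, inv_inv]
            _ = a * v := by
              rw [hs, ← pow_add, show m + 1 + (m + 1) = orderOf a + 1 by omega, pow_succ,
                pow_orderOf_eq_one, one_mul]
        have hsz : s * z * s⁻¹ = z := by rw [(Wc_comm hsW).eq, mul_inv_cancel_right]
        have hd2 : (s⁻¹ * c) * v * (s⁻¹ * c)⁻¹ = v ∨ (s⁻¹ * (c : K)) * v * (s⁻¹ * c)⁻¹ = z * v := by
          rcases hca with e | e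
          · left
            calc (s⁻¹ * (c : K)) * v * (s⁻¹ * c)⁻¹ = s⁻¹ * ((c : K) * v * (c : K)⁻¹) * s := by group
              _ = v := by rw [e, ← hsv]; group
          · right
            calc (s⁻¹ * (c : K)) * v * (s⁻¹ * c)⁻¹ = s⁻¹ * ((c : K) * v * (c : K)⁻¹) * s := by group
              _ = s⁻¹ * (z * (a * v)) * s := by
                rw [e, ← mul_assoc a z v, (Wc_comm ha).eq, mul_assoc z a v]
              _ = s⁻¹ * ((s * z * s⁻¹) * (s * v * s⁻¹)) * s := by rw [hsz, hsv]
              _ = z * v := by group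
        obtain ⟨b, hb, hbd⟩ := B.norm_cases (sd_comm_z B D hrT) hrv
          ((Wc_comm hsW).inv_left.mul_left (mem_centralizer_singleton_iff.1 c.2)) hd2
        let sc : C := ⟨s, mem_centralizer_singleton_iff.2 (Wc_comm hsW).eq⟩
        have hφs : φ sc = 1 := (hker sc).2 (Or.inl hsW)
        have hφb : ∀ bc : C, ((bc : K) = 1 ∨ (bc : K) = z ∨ (bc : K) = v ∨ (bc : K) = z * v) →
            φ bc = 1 ∨ φ bc = v' := by
          intro bc hbc
          rcases hbc with e | e | e | e
          · exact Or.inl (by rw [show bc = 1 from Subtype.ext e, map_one])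
          · exact Or.inl (by rw [show bc = zc from Subtype.ext e, hzφ])
          · exact Or.inr (by rw [show bc = vc from Subtype.ext e])
          · exact Or.inr (by rw [show bc = zc * vc from Subtype.ext e, map_mul, hzφ, one_mul])
        have hbC : b ∈ C := by
          rcases hb with rfl | rfl | rfl | rfl
          exacts [one_mem _, hle hzT, hle D.vT, mul_mem (hle hzT) (hle D.vT)]
        simp only [Set.mem_insert_iff, Set.mem_singleton_iff]
        rcases hbd with e | e
        · have ec : c = sc * ⟨b, hbC⟩ := Subtype.ext (by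
            show (c : K) = s * b; rw [← e, mul_inv_cancel_left])
          rw [ec, map_mul, hφs, one_mul]
          rcases hφb ⟨b, hbC⟩ hb with e1 | e1
          exacts [Or.inl e1, Or.inr (Or.inr (Or.inl e1))]
        · have ec : c = sc * (rc * ⟨b, hbC⟩) := Subtype.ext (by
            show (c : K) = s * ((rc : K) * b); rw [← e, mul_inv_cancel_left])
          rw [ec, map_mul, hφs, one_mul, map_mul, ← ht']
          rcases hφb ⟨b, hbC⟩ hb with e1 | e1 <;> rw [e1]
          exacts [Or.inr (Or.inl (mul_one _)), Or.inr (Or.inr (Or.inr rfl))]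
      · rintro (rfl | rfl | rfl | rfl)
        exacts [(Commute.one_left v').eq, htv, rfl, ((Commute.mul_left (show Commute t' v' from htv) (Commute.refl v')).eq)]
    have ht'x : t' ∈ zpowers x' := by rw [ht', hrc, map_pow]; exact npow_mem_zpowers _ _
    have ht1 : t' ≠ 1 := by
      intro e
      rcases hkerT rc hrT e with e1 | e1
      · rw [e1, one_mul] at hrr; exact ne_one_of_order_two B.hz hrr.symm
      · rw [e1, B.zz] at hrr; exact ne_one_of_order_two B.hz hrr.symm
    rw [← SetLike.coe_sort_coe, Nat.card_coe_set_eq, hset, Set.ncard_insert_of_notMem,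
      Set.ncard_insert_of_notMem, Set.ncard_pair]
    · intro e; exact ht1 (by simpa using e.symm)
    · simp only [Set.mem_insert_iff, Set.mem_singleton_iff, not_or]
      exact ⟨fun e => hvx' (e ▸ ht'x), fun e => ne_one_of_order_two hv'o (mul_eq_left.1 e.symm)⟩
    · simp only [Set.mem_insert_iff, Set.mem_singleton_iff, not_or]
      exact ⟨ht1.symm, (ne_one_of_order_two hv'o).symm, fun e => hvx' (by
        rw [eq_inv_of_mul_eq_one_right e.symm]; exact inv_mem ht'x)⟩
  -- fusion in Y
  have hconj : IsConj t' (v' * x') := by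
    obtain ⟨g, hgz, hg⟩ := fuse_four B D hsd hidx
    let gc : C := ⟨g, mem_centralizer_singleton_iff.2 hgz.eq⟩
    have e1 : φ (gc⁻¹ * (xc * vc) * gc) = t' := by
      rcases hg with e | e
      · rw [show gc⁻¹ * (xc * vc) * gc = rc from Subtype.ext (by rw [hrK]; exact e)]
      · rw [show gc⁻¹ * (xc * vc) * gc = rc * zc from Subtype.ext (by
          show g⁻¹ * (x * v) * g = (rc : K) * z; rw [hrK]; exact e), map_mul, hzφ, mul_one]
    rw [← e1]
    refine isConj_iff.2 ⟨φ (xc⁻¹ * gc), ?_⟩
    rw [← map_inv, ← map_mul, ← map_mul, hx', hv', ← map_mul]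
    exact congrArg φ (by group)
  have hnc : ¬ IsConj t' v' := by
    intro hc
    obtain ⟨y, hy⟩ := isConj_iff.1 hc
    obtain ⟨c, rfl⟩ := hφ y
    have e : φ (c * rc * c⁻¹ * vc⁻¹) = 1 := by
      rw [map_mul, map_mul, map_mul, map_inv, map_inv, ← ht', hy, ← hv', mul_inv_cancel]
    obtain ⟨a, ha, hca⟩ : ∃ a ∈ Wc z, (c : K) * rc * (c : K)⁻¹ = a * v ∨
        (c : K) * rc * (c : K)⁻¹ = a * (z * v) := by
      rcases (hker _).1 e with e1 | e1
      · exact ⟨_, e1, Or.inl (by simp only [Subgroup.coe_mul, Subgroup.coe_inv, vc]; group)⟩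
      · refine ⟨_, e1, Or.inr ?_⟩
        simp only [Subgroup.coe_mul, Subgroup.coe_inv, vc]
        rw [mul_assoc _ z (z * v), ← mul_assoc z z v, B.zz, one_mul]
        group
    have hsq : (a * v) * (a * v) = 1 := by
      calc (a * v) * (a * v) = a * (v * a * v⁻¹) * (v * v) := by group
        _ = 1 := by rw [B.inverts ha, mul_inv_cancel, one_mul, B.vv]
    have hcz : (c : K) * z * (c : K)⁻¹ = z := by
      rw [mem_centralizer_singleton_iff.1 c.2, mul_inv_cancel_right]
    apply ne_one_of_order_two B.hz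
    calc z = ((c : K) * rc * (c : K)⁻¹) * ((c : K) * rc * (c : K)⁻¹) := by
          rw [← hcz, ← hrr]; group
      _ = 1 := by
        rcases hca with e1 | e1 <;> rw [e1]
        · exact hsq
        · rw [← mul_assoc a z v, (Wc_comm ha).eq, mul_assoc z a v]
          have hc' : Commute (a * v) z := (Wc_comm ha).mul_left B.zv_comm
          rw [hc'.mul_mul_mul_comm, B.zz, hsq, one_mul]
  have hxTY : x' ∈ (TY : Subgroup Y) := (hTYmem _).2 ⟨xc, D.xT, rfl⟩
  have hvTY : v' ∈ (TY : Subgroup Y) := (hTYmem _).2 ⟨vc, D.vT, rfl⟩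
  have htY : x' ^ (2 ^ ((n - 1) - 1)) = t' := by
    rw [ht', hrc, map_pow, show n - 1 - 1 = n - 2 by omega]
  obtain ⟨hn3, hcomm⟩ := two_class TY (m := n - 1) (by omega) hxTY hvTY hx'o
    (by rw [hTYc]; congr 1; omega) htY hv'o hvx' hinv hC4 hconj hnc
  have hn' : n = 3 := by omega
  subst hn'
  norm_num at hx'o htY hTYc
  -- the class of t'
  have ht'o : orderOf t' = 2 := by
    have := half_order (x := x') (m := 2) (by norm_num) (by rw [hx'o]; norm_num) (t := t')
      (by simpa using htY)
    exact this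
  have hx't : ∀ i : ℤ, x' ^ i = 1 ∨ x' ^ i = x' ∨ x' ^ i = t' ∨ x' ^ i = x' * t' := by
    intro i
    have h2 : x' ^ (2 : ℤ) = t' := by rw [← htY]; exact zpow_natCast x' 2
    obtain ⟨a, rfl | rfl⟩ := Int.even_or_odd' i
    · rw [zpow_mul, h2]
      rcases Int.even_or_odd a with ha | ha
      exacts [Or.inl (zpow_even (mul_self_eq_one ht'o) ha),
        Or.inr (Or.inr (Or.inl (zpow_odd (mul_self_eq_one ht'o) ha)))]
    · rw [add_comm, zpow_add, zpow_one, zpow_mul, h2]
      rcases Int.even_or_odd a with ha | ha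
      · rw [zpow_even (mul_self_eq_one ht'o) ha, mul_one]; exact Or.inr (Or.inl rfl)
      · rw [zpow_odd (mul_self_eq_one ht'o) ha]; exact Or.inr (Or.inr (Or.inr rfl))
  have htcomm : ∀ y ∈ (TY : Subgroup Y), Commute y t' := by
    intro y hy
    have hxt : Commute x' t' := htY ▸ (Commute.refl x').pow_right _
    have hvt : Commute v' t' := by
      have h1 := inv_zpow_of_inverting hinv ((2 : ℕ) : ℤ)
      rw [zpow_neg, zpow_natCast, htY, inv_eq_of_order_two ht'o] at h1
      exact mul_inv_eq_iff_eq_mul.1 h1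
    obtain ⟨i, rfl | rfl⟩ := cases_of_index_two hxTY hvTY (by rw [hx'o]; norm_num : orderOf x' = 2 ^ 2)
      (by rw [hTYc]; norm_num) hvx' hy
    exacts [hxt.zpow_left i, (hxt.zpow_left i).mul_left hvt]
  set u' := v' * x' with hu'
  set S : Set Y := {y | IsConj t' y} with hS
  have hSconj : ∀ y ∈ S, ∀ g, g * y * g⁻¹ ∈ S := fun y hy g => hy.trans (isConj_iff.2 ⟨g, rfl⟩)
  have hScomm : ∀ a ∈ S, ∀ b ∈ S, Commute a b := by
    intro a ha b hb
    obtain ⟨g, rfl⟩ := isConj_iff.1 (ha : IsConj t' a)
    obtain ⟨g', rfl⟩ := isConj_iff.1 (hb : IsConj t' b)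
    exact hcomm g g'
  have hu'S : u' ∈ S := hconj
  have htS : t' ∈ S := IsConj.refl t'
  have hSTY : ∀ y ∈ S, y ∈ (TY : Subgroup Y) := by
    have hEn : (closure S).Normal := by
      refine ⟨fun a ha g => ?_⟩
      have hmap : (closure S).map (MulAut.conj g).toMonoidHom ≤ closure S := by
        rw [MonoidHom.map_closure, closure_le]
        rintro _ ⟨b, hb, rfl⟩
        exact subset_closure (hSconj b hb g)
      exact hmap ⟨a, ha, rfl⟩
    have hab : ∀ a ∈ closure S, ∀ b ∈ closure S, Commute a b := by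
      intro a ha b hb
      have h1 : closure S ≤ centralizer S := (closure_le _).2 fun p hp =>
        mem_centralizer_iff.2 fun q hq => (hScomm q hq p hp).eq
      have h2 := h1 ha
      rw [← centralizer_closure] at h2
      exact ((mem_centralizer_iff.1 h2) b hb).symm
    have h2g : IsPGroup 2 (closure S) := by
      refine fun a => ⟨1, Subtype.ext ?_⟩
      rw [SubmonoidClass.coe_pow, OneMemClass.coe_one, pow_one, pow_two]
      obtain ⟨a, ha⟩ := a
      refine closure_induction (p := fun y _ => y * y = 1) (fun y hy => ?_) (one_mul 1) ?_ ?_ ha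
      · exact mul_self_eq_one (Invol.orderOf_eq_two_of_isConj hy ht'o)
      · intro p q hp hq e1 e2
        rw [(hab q hq p hp).mul_mul_mul_comm, e1, e2, one_mul]
      · intro p _ e
        rw [← mul_inv_rev, e, inv_one]
    intro y hy
    have := hEn
    exact h2g.le_sylow_of_normal TY (subset_closure hy)
  have hScases : ∀ y ∈ S, y = t' ∨ y = u' ∨ y = u' * t' := by
    intro y hy
    have hy2 : orderOf y = 2 := Invol.orderOf_eq_two_of_isConj hy ht'o
    obtain ⟨i, e | e⟩ := cases_of_index_two hxTY hvTY (by rw [hx'o]; norm_num : orderOf x' = 2 ^ 2)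
      (by rw [hTYc]; norm_num) hvx' (hSTY y hy)
    · left
      rcases zpow_eq_half (m := 2) (by norm_num) (by rw [hx'o]; norm_num) (by simpa using htY) (i := i)
        (e ▸ mul_self_eq_one hy2) with e1 | e1
      · exact absurd (e.trans e1) (ne_one_of_order_two hy2)
      · exact e.trans e1
    · rcases Int.even_or_odd i with hi | hi
      · exact absurd ((e ▸ hy : IsConj t' (x' ^ i * v')).trans ((refl_isConj hinv i).1 hi).symm) hnc
      · right
        obtain ⟨a, rfl⟩ := hi
        have hu1 : u' = x' ^ (-1 : ℤ) * v' := by rw [hu', ← swap_inverting hinv 1, zpow_one]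
        have h2 : x' ^ (2 : ℤ) = t' := by rw [← htY]; exact zpow_natCast x' 2
        have e3 : x' ^ (2 * a + 1) * v' = t' ^ (a + 1) * u' := by
          rw [hu1, ← h2, ← zpow_mul, ← mul_assoc, ← zpow_add]; congr 2; ring
        rw [e, e3]
        rcases Int.even_or_odd (a + 1) with ha | ha
        · rw [zpow_even (mul_self_eq_one ht'o) ha, one_mul]; exact Or.inl rfl
        · rw [zpow_odd (mul_self_eq_one ht'o) ha]
          exact Or.inr (hScomm t' htS u' hu'S).eq
  -- no odd core in Y
  have hYodd : ∀ y ∈ Cfsg.oddCore Y, y = 1 := by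
    intro y hy
    set P := (Cfsg.oddCore Y).comap φ with hP
    obtain ⟨c, hc, hco⟩ := exists_odd_lift φ (odd_orderOf_mem
      (Nat.coprime_two_right.1 (Core.coprime_card_pPrimeCore (p := 2))) hy) (hφ y)
    have hPC : Cfsg.HasNormalPComplement 2 P := by
      obtain ⟨S2⟩ : Nonempty (Sylow 2 P) := inferInstance
      refine complement_of_central S2 fun p hp g => ?_
      have hpφ : φ (p : C) = 1 := by
        refine eq_one_of_odd_mem (P := ((S2 : Subgroup P).map P.subtype).map φ)
          ((S2.2.map _).map _) ⟨_, ⟨p, hp, rfl⟩, rfl⟩ (odd_orderOf_mem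
            (Nat.coprime_two_right.1 (Core.coprime_card_pPrimeCore (p := 2))) p.2)
      have hpz : ((p : C) : K) = 1 ∨ ((p : C) : K) = z := by
        have hp2 : ∃ k, orderOf ((p : C) : K) = 2 ^ k := by
          obtain ⟨k, hk⟩ := IsPGroup.iff_orderOf.1 S2.2 ⟨p, hp⟩
          exact ⟨k, by rw [Subgroup.orderOf_coe, Subgroup.orderOf_coe]; simpa using hk⟩
        have hoo : ∀ a, a ∈ Wc z → (∃ k, orderOf a = 2 ^ k) → a = 1 := by
          rintro a ha ⟨k, hk⟩
          have := odd_orderOf_mem (Wc_odd z) ha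
          rw [hk] at this
          rcases k with _ | k
          · exact orderOf_eq_one_iff.1 (by rw [hk, pow_zero])
          · exact absurd this (by rw [Nat.not_odd_iff_even, pow_succ]; exact even_two.mul_left _)
        rcases (hker _).1 hpφ with e | e
        · exact Or.inl (hoo _ e hp2)
        · right
          have hcz : Commute ((p : C) : K) z := mem_centralizer_singleton_iff.1 (p : C).2
          obtain ⟨k, hk⟩ := hp2
          have h1 : (((p : C) : K) * z) ^ 2 ^ (k + 1) = 1 := by
            have hp1 : ((p : C) : K) ^ 2 ^ k = 1 := hk ▸ pow_orderOf_eq_one _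
            rw [hcz.mul_pow, pow_succ, pow_mul, hp1, one_pow, one_mul,
              mul_comm (2 ^ k) 2, pow_mul, pow_two, B.zz, one_pow]
          obtain ⟨k', -, hk'⟩ := (Nat.dvd_prime_pow Nat.prime_two).1 (orderOf_dvd_of_pow_eq_one h1)
          rw [eq_inv_of_mul_eq_one_left (hoo _ e ⟨k', hk'⟩), inv_eq_of_order_two B.hz]
      refine Subtype.ext (Subtype.ext ?_)
      simp only [Subgroup.coe_mul]
      rcases hpz with e | e <;> rw [e]
      · simp
      · exact mem_centralizer_singleton_iff.1 (g : C).2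
    have hcW := odd_mem_oddCore P hPC (show c ∈ P from by rw [hP, mem_comap, hc]; exact hy) hco
    rw [← hc]
    exact (hker c).2 (Or.inl ⟨c, hcW, rfl⟩)
  -- the centralizer of the class
  set L := centralizer S with hL
  have hLn : L.Normal := by
    refine ⟨fun a ha g => mem_centralizer_iff.2 fun y hy => ?_⟩
    have h1 := mem_centralizer_iff.1 ha _ (hSconj y hy g⁻¹)
    rw [inv_inv] at h1
    calc y * (g * a * g⁻¹) = g * ((g⁻¹ * y * g) * a) * g⁻¹ := by group
      _ = g * (a * (g⁻¹ * y * g)) * g⁻¹ := by rw [h1]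
      _ = g * a * g⁻¹ * y := by group
  have hutv : ∀ y ∈ (TY : Subgroup Y), Commute y u' → y = 1 ∨ y = t' ∨ y = u' ∨ y = u' * t' := by
    intro y hy hyu
    obtain ⟨i, e | e⟩ := cases_of_index_two hxTY hvTY (by rw [hx'o]; norm_num : orderOf x' = 2 ^ 2)
      (by rw [hTYc]; norm_num) hvx' hy
    · have hxu : ¬ Commute x' u' := by
        intro hc
        have e2 : u' * x' * u'⁻¹ = x'⁻¹ := by
          rw [hu', show v' * x' * x' * (v' * x')⁻¹ = v' * x' * v'⁻¹ by group, hinv]
        rw [hc.symm.eq, mul_inv_cancel_right] at e2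
        have := orderOf_dvd_of_pow_eq_one (x := x') (n := 2) (by
          rw [pow_two]; nth_rewrite 1 [e2]; rw [inv_mul_cancel])
        rw [hx'o] at this
        norm_num at this
      rcases hx't i with e1 | e1 | e1 | e1 <;> rw [e1] at e
      · exact Or.inl e
      · exact absurd (e ▸ hyu) hxu
      · exact Or.inr (Or.inl e)
      · exfalso
        apply hxu
        have h2 : Commute (x' * t' * t') u' := (e ▸ hyu).mul_left (hScomm t' htS u' hu'S)
        rwa [mul_assoc, mul_self_eq_one ht'o, mul_one] at h2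
    · -- reflections
      rcases Int.even_or_odd i with hi | hi
      · exfalso
        have hvu : Commute v' u' := by
          obtain ⟨a, rfl⟩ := hi
          have h2 : x' ^ (2 : ℤ) = t' := by rw [← htY]; exact zpow_natCast x' 2
          rw [e, show a + a = 2 * a by ring, zpow_mul, h2] at hyu
          have h1 : Commute ((t' ^ a)⁻¹ * (t' ^ a * v')) u' :=
            ((hScomm t' htS u' hu'S).zpow_left a).inv_left.mul_left hyu
          rwa [inv_mul_cancel_left] at h1
        have h3 : v' * u' * v'⁻¹ = u' := by rw [hvu.eq, mul_inv_cancel_right]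
        rw [hu', show v' * (v' * x') * v'⁻¹ = v' * (v' * x' * v'⁻¹) by group, hinv,
          mul_right_inj] at h3
        have := orderOf_dvd_of_pow_eq_one (x := x') (n := 2) (by
          rw [pow_two]; nth_rewrite 1 [← h3]; rw [inv_mul_cancel])
        rw [hx'o] at this
        norm_num at this
      · have hy' : IsConj t' y := hconj.trans (e ▸ (refl_isConj hinv i).2 hi)
        rcases hScases y hy' with e1 | e1 | e1
        exacts [Or.inr (Or.inl e1), Or.inr (Or.inr (Or.inl e1)), Or.inr (Or.inr (Or.inr e1))]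
  have hLTY : L ≤ (TY : Subgroup Y) := by
    have hLC : Cfsg.HasNormalPComplement 2 L := by
      obtain ⟨S2⟩ : Nonempty (Sylow 2 L) := inferInstance
      refine complement_of_central S2 fun p hp g => ?_
      obtain ⟨k, hk⟩ := MulAction.exists_smul_eq Y (Classical.choose ((S2.2.map L.subtype).exists_le_sylow)) TY
      have hmem : k * (p : Y) * k⁻¹ ∈ (TY : Subgroup Y) := by
        rw [← hk, Sylow.coe_subgroup_smul]
        exact ⟨p, Classical.choose_spec (S2.2.map L.subtype).exists_le_sylow ⟨p, hp, rfl⟩, rfl⟩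
      have hmL : k * (p : Y) * k⁻¹ ∈ L := hLn.conj_mem _ p.2 k
      have hu := (mem_centralizer_iff.1 hmL u' hu'S).symm
      have hgL : k * (g : Y) * k⁻¹ ∈ L := hLn.conj_mem _ g.2 k
      have hgc : ∀ y ∈ S, Commute (k * (g : Y) * k⁻¹) y := fun y hy =>
        (mem_centralizer_iff.1 hgL y hy).symm
      have hc : Commute (k * (g : Y) * k⁻¹) (k * (p : Y) * k⁻¹) := by
        rcases hutv _ hmem hu with e | e | e | e <;> rw [e]
        exacts [Commute.one_right _, hgc _ htS, hgc _ hu'S, (hgc _ hu'S).mul_right (hgc _ htS)]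
      refine Subtype.ext ((MulAut.conj k).injective ?_)
      show k * ((g : Y) * p) * k⁻¹ = k * ((p : Y) * g) * k⁻¹
      calc k * ((g : Y) * p) * k⁻¹ = (k * (g : Y) * k⁻¹) * (k * (p : Y) * k⁻¹) := by group
        _ = (k * (p : Y) * k⁻¹) * (k * (g : Y) * k⁻¹) := hc.eq
        _ = k * ((p : Y) * g) * k⁻¹ := by group
    have hL2 : IsPGroup 2 L := isPGroup_two_of_no_odd fun y hy ho =>
      hYodd y (odd_mem_oddCore L hLC hy ho)
    exact hL2.le_sylow_of_normal TY
  have hCt : ∀ y : Y, Commute y t' → y ∈ (TY : Subgroup Y) := by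
    intro y hy
    have hty : y * t' * y⁻¹ = t' := by rw [hy.eq, mul_inv_cancel_right]
    have hS' := hScases _ (hSconj u' hu'S y)
    have htu : t' ≠ u' := fun e => hvx' (by
      rw [show v' = t' * x'⁻¹ by rw [e, hu', mul_inv_cancel_right]]
      exact mul_mem (htY ▸ npow_mem_zpowers _ _) (inv_mem (mem_zpowers _)))
    have hne : y * u' * y⁻¹ ≠ t' := fun e => htu ((MulAut.conj y).injective (hty.trans e.symm))
    have key : ∀ c : Y, Commute c t' → Commute c u' → c ∈ L := fun c h1 h2 =>
      mem_centralizer_iff.2 fun s hs => by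
        rcases hScases s hs with e | e | e <;> rw [e]
        exacts [h1.symm.eq, h2.symm.eq, (h2.mul_right h1).symm.eq]
    rcases hS' with e | e | e
    · exact absurd e hne
    · exact hLTY (key y hy (mul_inv_eq_iff_eq_mul.1 e))
    · have hxu : x'⁻¹ * (u' * t') * x' = u' := by
        have e1 : x'⁻¹ * u' * x' = u' * t' := by
          rw [hu', ← htY]
          calc x'⁻¹ * (v' * x') * x' = (v' * x' * v'⁻¹) * (v' * x') * x' := by rw [hinv]
            _ = (v' * x') * x' ^ 2 := by rw [pow_two]; group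
        calc x'⁻¹ * (u' * t') * x' = (x'⁻¹ * u' * x') * (x'⁻¹ * t' * x') := by group
          _ = u' := by
            rw [e1, mul_assoc x'⁻¹, ← (htcomm x' hxTY).eq, inv_mul_cancel_left, mul_assoc,
              mul_self_eq_one ht'o, mul_one]
      have h1 : x'⁻¹ * y ∈ L := key _ ((htcomm x' hxTY).inv_left.mul_left hy)
        (mul_inv_eq_iff_eq_mul.1 (by
          calc x'⁻¹ * y * u' * (x'⁻¹ * y)⁻¹ = x'⁻¹ * (y * u' * y⁻¹) * x' := by group
            _ = u' := by rw [e, hxu]))
      have := mul_mem hxTY (hLTY h1)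
      rwa [mul_inv_cancel_left] at this
  have hCteq : centralizer ({t'} : Set Y) = (TY : Subgroup Y) := le_antisymm
    (fun y hy => hCt y (mem_centralizer_singleton_iff.1 hy))
    (fun y hy => mem_centralizer_singleton_iff.2 (htcomm y hy).eq)
  have hY24 : Nat.card Y = 24 := by
    have hS3 : Nat.card {y : Y // IsConj t' y} = 3 := by
      rw [show Nat.card {y : Y // IsConj t' y} = S.ncard from Nat.card_coe_set_eq S,
        show S = {t', u', u' * t'} from Set.ext fun y => ⟨fun hy => hScases y hy, fun hy => by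
          rcases hy with rfl | rfl | rfl
          · exact htS
          · exact hu'S
          · refine hu'S.trans (isConj_iff.2 ⟨x'⁻¹, ?_⟩)
            rw [inv_inv, hu', ← htY]
            calc x'⁻¹ * (v' * x') * x' = (v' * x' * v'⁻¹) * (v' * x') * x' := by rw [hinv]
              _ = (v' * x') * x' ^ 2 := by rw [pow_two]; group⟩,
        Set.ncard_insert_of_notMem, Set.ncard_pair]
      · intro e; exact ne_one_of_order_two ht'o (mul_eq_left.1 e.symm)
      · simp only [Set.mem_insert_iff, Set.mem_singleton_iff, not_or]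
        refine ⟨fun e => hvx' ?_, fun e => ?_⟩
        · rw [show v' = t' * x'⁻¹ by rw [e, hu', mul_inv_cancel_right]]
          exact mul_mem (htY ▸ npow_mem_zpowers _ _) (inv_mem (mem_zpowers _))
        · exact ne_one_of_order_two (Invol.orderOf_eq_two_of_isConj hu'S ht'o) (mul_eq_right.1 e.symm)
    have := Invol.card_isConj_mul_card_centralizer t'
    rw [hS3, hCteq, hTYc] at this
    omega
  have hQ48 : Nat.card Q = 48 := by
    have h1 := Z2.card_mul_index
    rw [Nat.card_zpowers, hto, index_eq_card, show Nat.card (Q ⧸ Z2) = 24 from hY24] at h1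
    omega
  have hv3 : ∀ q : Q, orderOf q = 3 → Nat.card (centralizer ({q} : Set Q)) ≤ 6 := by
    intro q hq
    set q' : Y := σ q with hq'
    have hq'3 : orderOf q' = 3 := by
      refine orderOf_eq_prime (hp := ⟨Nat.prime_three⟩) (by rw [← map_pow, ← hq, pow_orderOf_eq_one, map_one]) fun e => ?_
      rw [hq', QuotientGroup.mk'_apply, QuotientGroup.eq_one_iff, hZmem] at e
      rcases e with e | e <;> rw [e] at hq
      · rw [orderOf_one] at hq; omega
      · omega
    have hno : ∀ s : Y, orderOf s = 2 → ¬ Commute q' s := by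
      intro s hs hc
      obtain ⟨g, hg⟩ := Invol.exists_conj_mem_of_isPGroup TY (x := s) ⟨1, by rw [pow_one, hs]⟩
      have hgq : Commute (g * q' * g⁻¹) (g * s * g⁻¹) := hc.map (MulAut.conj g).toMonoidHom
      have hgo : orderOf (g * q' * g⁻¹) = 3 := by rw [orderOf_conj', hq'3]
      have hgs2 : orderOf (g * s * g⁻¹) = 2 := by rw [orderOf_conj', hs]
      have bad : ∀ a : Y, IsConj a (g * s * g⁻¹) → Nat.card (centralizer ({a} : Set Y)) ∣ 8 → False := by
        intro a ha hd
        obtain ⟨k, hk⟩ := isConj_iff.1 ha.symm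
        have hck : Commute (k * (g * q' * g⁻¹) * k⁻¹) (k * (g * s * g⁻¹) * k⁻¹) :=
          hgq.map (MulAut.conj k).toMonoidHom
        rw [hk] at hck
        have hmem : k * (g * q' * g⁻¹) * k⁻¹ ∈ centralizer ({a} : Set Y) :=
          mem_centralizer_singleton_iff.2 hck.eq
        have h3 := (Subgroup.orderOf_dvd_natCard _ hmem).trans hd
        rw [orderOf_conj', hgo] at h3
        norm_num at h3
      obtain ⟨i, e | e⟩ := cases_of_index_two hxTY hvTY (by rw [hx'o]; norm_num : orderOf x' = 2 ^ 2)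
        (by rw [hTYc]; norm_num) hvx' hg
      · rcases zpow_eq_half (m := 2) (by norm_num) (by rw [hx'o]; norm_num) (by simpa using htY) (i := i)
          (e ▸ mul_self_eq_one hgs2) with e1 | e1
        · exact ne_one_of_order_two hgs2 (e.trans e1)
        · exact bad t' (by rw [e, e1]) (by rw [hCteq, hTYc])
      · rcases Int.even_or_odd i with hi | hi
        · exact bad v' (e ▸ (refl_isConj hinv i).1 hi) (by rw [hC4]; norm_num)
        · exact bad t' (hconj.trans (e ▸ (refl_isConj hinv i).2 hi)) (by rw [hCteq, hTYc])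
    have hY3 : Nat.card (centralizer ({q'} : Set Y)) ≤ 3 := by
      have hd : Nat.card (centralizer ({q'} : Set Y)) ∣ 24 := hY24 ▸ card_subgroup_dvd_card _
      have h2 : ¬ 2 ∣ Nat.card (centralizer ({q'} : Set Y)) := by
        intro h2
        obtain ⟨s, hs⟩ := exists_prime_orderOf_dvd_card' 2 h2
        exact hno s (by rw [Subgroup.orderOf_coe, hs])
          (mem_centralizer_singleton_iff.1 s.2).symm
      have h3 : Nat.card (centralizer ({q'} : Set Y)) ∣ 3 := by
        have hc : Nat.Coprime (Nat.card (centralizer ({q'} : Set Y))) 8 := by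
          have := (Nat.prime_two.coprime_iff_not_dvd.2 h2).symm
          simpa using this.pow_right 3
        exact hc.dvd_of_dvd_mul_left (show _ ∣ 8 * 3 from hd)
      exact Nat.le_of_dvd (by norm_num) h3
    let f : centralizer ({q} : Set Q) →* centralizer ({q'} : Set Y) :=
      (σ.comp (centralizer ({q} : Set Q)).subtype).codRestrict _ fun a => by
        rw [mem_centralizer_singleton_iff]
        show σ (a : Q) * σ q = σ q * σ (a : Q)
        rw [← map_mul, ← map_mul, mem_centralizer_singleton_iff.1 a.2]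
    have h1 := f.ker.card_mul_index
    rw [index_ker] at h1
    have h2 : Nat.card f.ker ≤ 2 := by
      rw [← hto, ← Nat.card_zpowers]
      refine Nat.card_le_card_of_injective (fun a => ⟨((a : centralizer ({q} : Set Q)) : Q), ?_⟩)
        fun a b e => Subtype.ext (Subtype.ext (Subtype.mk.inj e))
      exact (QuotientGroup.eq_one_iff _).1 (congrArg Subtype.val (MonoidHom.mem_ker.1 a.2))
    have h3 : Nat.card f.range ≤ 3 :=
      (Nat.card_le_card_of_injective _ f.range.subtype_injective).trans hY3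
    calc Nat.card (centralizer ({q} : Set Q)) = Nat.card f.ker * Nat.card f.range := h1.symm
      _ ≤ 2 * 3 := Nat.mul_le_mul h2 h3
      _ = 6 := rfl
  obtain ⟨ψ, hψ, hψk, -⟩ := SmallOrder.Order5616.exists_s4 hQ48 hto htc hv3
  let TQ : Sylow 2 Q := TC.mapSurjective hπ
  have hTQmem : ∀ q, q ∈ (TQ : Subgroup Q) ↔ ∃ c : C, (c : K) ∈ (T : Subgroup K) ∧ π c = q := by
    intro q
    show q ∈ ((TC : Subgroup C).map π) ↔ _
    rw [mem_map]
    simp only [T.coe_subtype hle, mem_subgroupOf, TC]
  have hinjT : ∀ a b : C, (a : K) ∈ (T : Subgroup K) → (b : K) ∈ (T : Subgroup K) → π a = π b → a = b := by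
    intro a b ha hb e
    have h1 : π (a * b⁻¹) = 1 := by rw [map_mul, map_inv, e, mul_inv_cancel]
    have h2 := hWT _ ((hπ1 _).1 h1) (mul_mem ha (inv_mem hb))
    exact Subtype.ext (mul_inv_eq_one.1 h2)
  have hQT : ∀ q : Q, q ∈ (TQ : Subgroup Q) → orderOf q = 2 →
      ∃ c : C, (c : K) ∈ (T : Subgroup K) ∧ orderOf (c : K) = 2 ∧ π c = q := by
    intro q hq ho
    obtain ⟨c, hc, rfl⟩ := (hTQmem q).1 hq
    refine ⟨c, hc, orderOf_eq_prime ?_ (fun e => ?_), rfl⟩
    · have h1 : π (c ^ 2) = π 1 := by rw [map_pow, ← ho, pow_orderOf_eq_one, map_one]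
      have := hinjT (c ^ 2) 1 (by simpa using pow_mem hc 2) (by simp) h1
      simpa using congrArg Subtype.val this
    · rw [show c = 1 from Subtype.ext e, map_one, orderOf_one] at ho
      omega
  refine (SmallOrder.Order5616.gl23_or_quaternion hQ48 hto htc hψ hψk fun T16 hT16 => ?_).resolve_right
    fun hq => ?_
  · -- five involutions
    have hp16 : IsPGroup 2 T16 := IsPGroup.of_card (n := 4) (by rw [hT16]; norm_num)
    obtain ⟨R, hR⟩ := hp16.exists_le_sylow
    have hR16 : Nat.card (R : Subgroup Q) = 16 := by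
      rw [Sylow.card_eq_multiplicity, hQ48, show (48 : ℕ) = 2 ^ 4 * 3 by norm_num,
        Nat.factorization_mul (by norm_num) (by norm_num), Finsupp.add_apply,
        Nat.factorization_pow, Finsupp.smul_apply, Nat.Prime.factorization_self Nat.prime_two,
        Nat.factorization_eq_zero_of_not_dvd (by norm_num)]
      norm_num
    have hRT : T16 = (R : Subgroup Q) := eq_of_le_of_card_ge hR (by rw [hT16, hR16])
    obtain ⟨k, hk⟩ := MulAction.exists_smul_eq Q R TQ
    have e1 : Nat.card {q : Q // q ∈ T16 ∧ orderOf q = 2} =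
        Nat.card {q : Q // q ∈ (TQ : Subgroup Q) ∧ orderOf q = 2} := by
      refine Nat.card_congr (Equiv.subtypeEquiv (MulAut.conj k).toEquiv fun q => ?_)
      show q ∈ T16 ∧ orderOf q = 2 ↔ k * q * k⁻¹ ∈ (TQ : Subgroup Q) ∧ orderOf (k * q * k⁻¹) = 2
      rw [orderOf_conj', hRT, ← hk, Sylow.coe_subgroup_smul]
      refine and_congr_left' ⟨fun hq => ⟨q, hq, rfl⟩, ?_⟩
      rintro ⟨p, hp, e⟩
      rwa [(MulAut.conj k).injective (e : MulAut.conj k p = MulAut.conj k q)] at hp
    rw [e1]
    let f : Option (Fin 4) → {q : Q // q ∈ (TQ : Subgroup Q) ∧ orderOf q = 2} := fun o => match o with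
      | none => ⟨t, (hTQmem _).2 ⟨zc, hzT, rfl⟩, hto⟩
      | some a => ⟨π (xc ^ (2 * (a : ℕ)) * vc),
          (hTQmem _).2 ⟨_, by simpa [xc, vc] using mul_mem (pow_mem D.xT _) D.vT, rfl⟩, by
            refine orderOf_eq_prime ?_ fun e => ?_
            · rw [← map_pow]
              refine (congrArg π (Subtype.ext ?_)).trans (map_one π)
              simp only [SubmonoidClass.coe_pow, Subgroup.coe_mul, OneMemClass.coe_one, xc, vc, pow_two]
              rw [← zpow_natCast, sd_sq D.xz hsd B.vv, zpow_even B.zz (by rw [Int.even_coe_nat]; exact even_two_mul _)]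
            · have h1 := hWT _ ((hπ1 _).1 e) (by simpa [xc, vc] using mul_mem (pow_mem D.xT _) D.vT)
              simp only [Subgroup.coe_mul, SubmonoidClass.coe_pow, xc, vc] at h1
              exact D.vx (by rw [eq_inv_of_mul_eq_one_right h1]; exact inv_mem (npow_mem_zpowers _ _))⟩
    have hf : Function.Bijective f := by
      constructor
      · rintro (_ | a) (_ | b) e <;> have e' := congrArg Subtype.val e <;> dsimp only [f] at e'
        · rfl
        · exfalso
          have h1 := hinjT _ _ hzT (by simpa [xc, vc] using mul_mem (pow_mem D.xT _) D.vT) e'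
          have h2 : z = x ^ (2 * (b : ℕ)) * v := by simpa [zc, xc, vc] using congrArg Subtype.val h1
          refine D.vx ?_
          rw [show v = (x ^ (2 * (b : ℕ)))⁻¹ * z by rw [h2]; group]
          exact mul_mem (inv_mem (npow_mem_zpowers _ _)) (D.half ▸ npow_mem_zpowers x _)
        · exfalso
          have h1 := hinjT _ _ (by simpa [xc, vc] using mul_mem (pow_mem D.xT _) D.vT) hzT e'
          have h2 : x ^ (2 * (a : ℕ)) * v = z := by simpa [zc, xc, vc] using congrArg Subtype.val h1
          refine D.vx ?_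
          rw [show v = (x ^ (2 * (a : ℕ)))⁻¹ * z by rw [← h2]; group]
          exact mul_mem (inv_mem (npow_mem_zpowers _ _)) (D.half ▸ npow_mem_zpowers x _)
        · have h1 := hinjT _ _ (by simpa [xc, vc] using mul_mem (pow_mem D.xT _) D.vT)
            (by simpa [xc, vc] using mul_mem (pow_mem D.xT _) D.vT) e'
          have h2 : x ^ (2 * (a : ℕ)) = x ^ (2 * (b : ℕ)) := by
            simpa [xc, vc] using congrArg Subtype.val h1
          have h3 := pow_injOn_Iio_orderOf (x := x) (by rw [Set.mem_Iio, D.xo]; omega)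
            (by rw [Set.mem_Iio, D.xo]; omega) h2
          exact congrArg some (Fin.ext (by omega))
      · rintro ⟨q, hq, ho⟩
        obtain ⟨c, hc, hco, rfl⟩ := hQT q hq ho
        obtain ⟨i, e | e⟩ := cases_of_index_two D.xT D.vT D.xo D.card D.vx hc
        · refine ⟨none, Subtype.ext ?_⟩
          show t = π c
          rcases zpow_eq_half (m := 3) (by norm_num) D.xo D.half (i := i) (e ▸ mul_self_eq_one hco) with
            e1 | e1
          · exact absurd (e.trans e1) (ne_one_of_order_two hco)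
          · exact congrArg π (Subtype.ext (e.trans e1).symm)
        · have hi : Even i := by
            by_contra hodd'
            rw [Int.not_even_iff_odd] at hodd'
            refine ne_one_of_order_two B.hz ?_
            rw [← zpow_odd B.zz hodd', ← sd_sq D.xz hsd B.vv i, ← e, mul_self_eq_one hco]
          obtain ⟨a, rfl⟩ := hi
          obtain ⟨b, hb⟩ : ∃ b : Fin 4, ((b : ℕ) : ℤ) = a % 4 :=
            ⟨⟨(a % 4).toNat, by omega⟩, by simp; omega⟩
          refine ⟨some b, Subtype.ext (congrArg π (Subtype.ext ?_))⟩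
          simp only [Subgroup.coe_mul, SubmonoidClass.coe_pow, xc, vc, e]
          rw [← zpow_natCast]
          congr 1
          rw [zpow_eq_zpow_iff_modEq, D.xo, Int.modEq_iff_dvd]
          push_cast
          rw [hb]
          omega
    rw [← Nat.card_congr (Equiv.ofBijective f hf), Nat.card_eq_fintype_card, Fintype.card_option,
      Fintype.card_fin]
  · obtain ⟨e⟩ := hq TQ
    have hv1 : π vc ∈ (TQ : Subgroup Q) := (hTQmem _).2 ⟨vc, D.vT, rfl⟩
    have hvo2 : orderOf (e ⟨π vc, hv1⟩) = 2 := by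
      rw [MulEquiv.orderOf_eq, orderOf_mk]
      refine orderOf_eq_prime (by rw [← map_pow]; exact (congrArg π (Subtype.ext (by
        rw [SubmonoidClass.coe_pow, OneMemClass.coe_one, pow_two]; exact B.vv))).trans (map_one π))
        fun e1 => ne_one_of_order_two B.hv (hWT v ((hπ1 vc).1 e1) D.vT)
    have hr1 : π rc ∈ (TQ : Subgroup Q) := (hTQmem _).2 ⟨rc, hrT, rfl⟩
    have h1 := MaxClass.quaternion_involution_central hvo2 (e ⟨π rc, hr1⟩)
    rw [← map_mul, ← map_mul] at h1
    have h2 := congrArg Subtype.val (e.injective h1)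
    change π rc * π vc = π vc * π rc at h2
    rw [← map_mul, ← map_mul] at h2
    have h3 := congrArg Subtype.val (hinjT _ _ (mul_mem hrT D.vT) (mul_mem D.vT hrT) h2)
    change (rc : K) * v = v * rc at h3
    rw [h3, mul_inv_cancel_right] at hrv
    exact ne_one_of_order_two B.hz (mul_eq_right.1 hrv.symm)

end Cfsg.Agent.SubdegThree
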