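import Cfsg.Agent.SubdegThree.Basic

/-!
Elements of a 2-group with a cyclic subgroup of index two.
-/

set_option autoImplicit false

namespace Cfsg.Agent.SubdegThree

open Subgroup

variable {K : Type*} [Group K]

theorem cases_of_index_two {T : Subgroup K} {x v : K} {m : ℕ} (hx : x ∈ T) (hv : v ∈ T)
    (hxo : orderOf x = 2 ^ m) (hT : Nat.card T = 2 ^ (m + 1)) (hvx : v ∉ zpowers x)
    {y : K} (hy : y ∈ T) : ∃ i : ℤ, y = x ^ i ∨ y = x ^ i * v := by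
  set Z := (zpowers x).subgroupOf T
  have hi : Z.index = 2 := by
    have h := Z.card_mul_index
    rw [Nat.card_congr (subgroupOfEquivOfLe (zpowers_le.2 hx)).toEquiv, Nat.card_zpowers, hxo, hT,
      pow_succ] at h
    exact Nat.eq_of_mul_eq_mul_left (Nat.two_pow_pos m) h
  by_cases hyx : y ∈ zpowers x
  · obtain ⟨i, rfl⟩ := mem_zpowers_iff.1 hyx
    exact ⟨i, Or.inl rfl⟩
  · have hv' : (⟨v, hv⟩ : T)⁻¹ ∉ Z := fun h => hvx (inv_mem_iff.1 h)
    have hy' : (⟨y, hy⟩ : T) ∉ Z := hyx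
    have hmem := (mul_mem_iff_of_index_two hi).2 (iff_of_false hy' hv')
    obtain ⟨i, hi⟩ := mem_zpowers_iff.1 hmem
    refine ⟨i, Or.inr ?_⟩
    change x ^ i = y * v⁻¹ at hi
    rw [hi, inv_mul_cancel_right]

theorem zpow_eq_half {x t : K} {m : ℕ} (hm : 1 ≤ m) (hxo : orderOf x = 2 ^ m)
    (ht : x ^ (2 ^ (m - 1)) = t) {i : ℤ} (h : x ^ i * x ^ i = 1) : x ^ i = 1 ∨ x ^ i = t := by
  rw [← zpow_add, ← orderOf_dvd_iff_zpow_eq_one, hxo, ← two_mul] at h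
  obtain ⟨j, rfl⟩ : ∃ j, m = j + 1 := ⟨m - 1, by omega⟩
  rw [Nat.cast_pow, Nat.cast_ofNat, pow_succ', mul_dvd_mul_iff_left (two_ne_zero : (2 : ℤ) ≠ 0)] at h
  obtain ⟨c, rfl⟩ := h
  rw [show ((2 : ℤ) ^ j) = ((2 ^ j : ℕ) : ℤ) by push_cast; rfl, zpow_mul, zpow_natCast]
  rw [Nat.add_sub_cancel] at ht
  rw [ht]
  have htt : t * t = 1 := by
    rw [← ht, ← pow_add, ← two_mul, ← pow_succ', ← hxo, pow_orderOf_eq_one]
  obtain ⟨d, rfl | rfl⟩ := Int.even_or_odd' c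
  · left
    rw [zpow_mul, zpow_two, htt, one_zpow]
  · right
    rw [zpow_add, zpow_mul, zpow_two, htt, one_zpow, one_mul, zpow_one]

theorem half_order {x t : K} {m : ℕ} (hm : 1 ≤ m) (hxo : orderOf x = 2 ^ m)
    (ht : x ^ (2 ^ (m - 1)) = t) : orderOf t = 2 := by
  obtain ⟨j, rfl⟩ : ∃ j, m = j + 1 := ⟨m - 1, by omega⟩
  rw [← ht, Nat.add_sub_cancel, orderOf_pow_of_dvd (by positivity) (by rw [hxo]; exact pow_dvd_pow 2 (by omega)),
    hxo, pow_succ, Nat.mul_div_cancel_left _ (Nat.two_pow_pos j)]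

theorem inv_zpow_of_inverting {x v : K} (h : v * x * v⁻¹ = x⁻¹) (i : ℤ) :
    v * x ^ i * v⁻¹ = x ^ (-i) := by
  rw [← conj_zpow, h, inv_zpow, zpow_neg]

theorem swap_inverting {x v : K} (h : v * x * v⁻¹ = x⁻¹) (i : ℤ) :
    v * x ^ i = x ^ (-i) * v := by
  rw [← inv_zpow_of_inverting h i, inv_mul_cancel_right]

theorem conj_refl {x v : K} (h : v * x * v⁻¹ = x⁻¹) (a i : ℤ) :
    x ^ a * (x ^ i * v) * (x ^ a)⁻¹ = x ^ (2 * a + i) * v := by
  rw [← zpow_neg, show x ^ a * (x ^ i * v) * x ^ (-a) = x ^ a * x ^ i * (v * x ^ (-a)) by group,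
    swap_inverting h, neg_neg, ← mul_assoc, ← zpow_add, ← zpow_add]
  congr 2
  ring

/-- The reflection classes. -/
theorem refl_isConj {x v : K} (h : v * x * v⁻¹ = x⁻¹) (i : ℤ) :
    (Even i → IsConj v (x ^ i * v)) ∧ (Odd i → IsConj (v * x) (x ^ i * v)) := by
  constructor
  · rintro ⟨a, rfl⟩
    refine isConj_iff.2 ⟨x ^ a, ?_⟩
    have := conj_refl h a 0
    rw [zpow_zero, one_mul, add_zero, two_mul] at this
    exact this
  · rintro ⟨a, rfl⟩
    refine isConj_iff.2 ⟨x ^ (a + 1), ?_⟩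
    have := conj_refl h (a + 1) (-1)
    rw [← swap_inverting h 1, zpow_one] at this
    rw [this]
    congr 2
    ring

end Cfsg.Agent.SubdegThree
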