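import Cfsg.Prelude.Def_CaseTheorems
import Cfsg.Agent.SubdegThree.TwoGen
import Cfsg.Agent.Core.PCore

/-!
The local data at a self-centralizing four-group `{1, z, v, zv}` with an element `h` permuting its
involutions, and the action on the odd core of the centralizer of `z`.
-/

set_option autoImplicit false

namespace Cfsg.Agent.SubdegThree

open Subgroup

variable {K : Type*} [Group K]

/-- A self-centralizing four-group with an element of order three on it. -/
structure Base (z v h : K) : Prop where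
  hz : orderOf z = 2
  hv : orderOf v = 2
  comm : v * z = z * v
  ne : v ≠ z
  hh : h * z * h⁻¹ = v
  hhv : h * v * h⁻¹ = z * v
  cent : ∀ y : K, Commute y z → Commute y v → y = 1 ∨ y = z ∨ y = v ∨ y = z * v

/-- A Sylow 2-subgroup with a cyclic subgroup of index two avoiding `v`. -/
structure TData (z v : K) (T : Sylow 2 K) (x : K) (n : ℕ) : Prop where
  xT : x ∈ (T : Subgroup K)
  vT : v ∈ (T : Subgroup K)
  hn : 3 ≤ n
  xo : orderOf x = 2 ^ n
  card : Nat.card (T : Subgroup K) = 2 ^ (n + 1)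
  half : x ^ (2 ^ (n - 1)) = z
  vx : v ∉ zpowers x

/-- The odd core of the centralizer of `z`, as a subgroup of the whole group. -/
def Wc (z : K) : Subgroup K :=
  (Cfsg.oddCore ↥(centralizer ({z} : Set K))).map (centralizer ({z} : Set K)).subtype

/-- No element other than one centralizes three conjugates of a subgroup inverted by `v`. -/
def Trick (z v h : K) : Prop :=
  ∀ Y : Subgroup K, Y ≤ Wc z → Y ≠ ⊥ → Odd (Nat.card Y) → (∀ y ∈ Y, Commute y z) →
    (∀ y ∈ Y, v * y * v⁻¹ = y⁻¹) →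
    (∀ d : K, Commute d z → (d * v * d⁻¹ = v ∨ d * v * d⁻¹ = z * v) → ∀ y ∈ Y, d * y * d⁻¹ ∈ Y) →
    ∀ c : K, (∀ y ∈ Y, Commute c y) → (∀ y ∈ Y, Commute c (h * y * h⁻¹)) →
      (∀ y ∈ Y, Commute c (h * h * y * (h * h)⁻¹)) → c = 1

theorem Wc_comm {z w : K} (hw : w ∈ Wc z) : Commute w z := by
  obtain ⟨c, -, rfl⟩ := hw
  exact mem_centralizer_singleton_iff.1 c.2

theorem Wc_odd [Finite K] (z : K) : Odd (Nat.card (Wc z)) := by
  rw [Wc, card_map_of_injective (Subgroup.subtype_injective _)]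
  exact Nat.coprime_two_right.1 (Core.coprime_card_pPrimeCore (p := 2))

theorem Wc_conj [Finite K] {z w d : K} (hw : w ∈ Wc z) (hd : Commute d z) :
    d * w * d⁻¹ ∈ Wc z := by
  obtain ⟨c, hc, rfl⟩ := hw
  have hn : (Cfsg.oddCore ↥(centralizer ({z} : Set K))).Normal := inferInstance
  exact ⟨⟨d, mem_centralizer_singleton_iff.2 hd.eq⟩ * c *
    ⟨d, mem_centralizer_singleton_iff.2 hd.eq⟩⁻¹, hn.conj_mem c hc _, rfl⟩

namespace Base

variable {z v h : K}

theorem zz (B : Base z v h) : z * z = 1 := mul_self_eq_one B.hz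

theorem vv (B : Base z v h) : v * v = 1 := mul_self_eq_one B.hv

theorem zv_comm (B : Base z v h) : Commute v z := B.comm

theorem hzv (B : Base z v h) : h * (z * v) * h⁻¹ = z := by
  have : h * (z * v) * h⁻¹ = (h * z * h⁻¹) * (h * v * h⁻¹) := by group
  rw [this, B.hh, B.hhv, ← mul_assoc, B.comm, mul_assoc, B.vv, mul_one]

theorem h_inv_z (B : Base z v h) : h⁻¹ * z * h = z * v := by
  calc h⁻¹ * z * h = h⁻¹ * (h * (z * v) * h⁻¹) * h := by rw [B.hzv]
    _ = z * v := by group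

theorem hhz (B : Base z v h) : h * h * z * (h * h)⁻¹ = z * v := by
  calc h * h * z * (h * h)⁻¹ = h * (h * z * h⁻¹) * h⁻¹ := by group
    _ = z * v := by rw [B.hh, B.hhv]

theorem hh2v (B : Base z v h) : h * h * v * (h * h)⁻¹ = z := by
  calc h * h * v * (h * h)⁻¹ = h * (h * v * h⁻¹) * h⁻¹ := by group
    _ = z := by rw [B.hhv, B.hzv]

theorem zv_ne (B : Base z v h) : z * v ≠ v := fun e => ne_one_of_order_two B.hz (mul_eq_right.1 e)

theorem zv_ne' (B : Base z v h) : z * v ≠ z := fun e => ne_one_of_order_two B.hv (mul_eq_left.1 e)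

theorem zv_one (B : Base z v h) : z * v ≠ 1 := fun e => B.ne (by
  calc v = z * z * v := by rw [B.zz, one_mul]
    _ = z := by rw [mul_assoc, e, mul_one])

/-- The elements commuting with `v` and with odd order elements. -/
theorem odd_cent (B : Base z v h) {y : K} (ho : Odd (orderOf y)) (hz : Commute y z)
    (hv : Commute y v) : y = 1 := by
  refine eq_one_of_odd_of_sq ho ?_
  rcases B.cent y hz hv with e | e | e | e <;> rw [e]
  · rw [mul_one]
  · exact B.zz
  · exact B.vv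
  · rw [mul_assoc, ← mul_assoc v, B.comm, mul_assoc z, B.vv, mul_one, B.zz]

variable [Finite K]

/-- A normal subgroup of even order contains `z` once the Sylow 2-subgroup is known. -/
theorem z_mem_normal (B : Base z v h) {T : Sylow 2 K} {x : K} {n : ℕ} (D : TData z v T x n)
    (hvx : ¬ Commute x v) (N : Subgroup K) [N.Normal] (h2 : 2 ∣ Nat.card N) : z ∈ N := by
  obtain ⟨y, hyN, hyT, hy1, hy⟩ := exists_central_of_normal T N h2
  have hzT : z ∈ (T : Subgroup K) := D.half ▸ pow_mem D.xT _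
  rcases B.cent y (hy z hzT) (hy v D.vT) with e | e | e | e
  · exact absurd e hy1
  · exact e ▸ hyN
  · exact absurd (show Commute x v from (e ▸ hy x D.xT).symm) hvx
  · exfalso
    apply hvx
    have h1 : Commute x (z * v) := (e ▸ hy x D.xT).symm
    have h2 : Commute x z := D.half ▸ (Commute.refl x).pow_right _
    have h3 := h2.mul_right h1
    rwa [← mul_assoc, B.zz, one_mul] at h3

theorem inverts (B : Base z v h) {w : K} (hw : w ∈ Wc z) : v * w * v⁻¹ = w⁻¹ := by
  have hmem : ∀ w : Wc z, v * w * v⁻¹ ∈ Wc z := fun w => Wc_conj w.2 B.zv_comm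
  let f : Wc z →* Wc z := MonoidHom.mk' (fun w => ⟨v * w * v⁻¹, hmem w⟩) fun a b => Subtype.ext (by
    simp only [Subgroup.coe_mul]; group)
  have hfix : MonoidHom.FixedPointFree f := by
    intro a ha
    have e : v * a * v⁻¹ = a := congrArg Subtype.val ha
    exact Subtype.ext (B.odd_cent (odd_orderOf_mem (Wc_odd z) a.2) (Wc_comm a.2)
      (mul_inv_eq_iff_eq_mul.1 e).symm)
  have hinv : Function.Involutive f := by
    intro a
    refine Subtype.ext ?_
    show v * (v * a * v⁻¹) * v⁻¹ = a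
    rw [show v * (v * a * v⁻¹) * v⁻¹ = (v * v) * a * (v * v)⁻¹ by group, B.vv]
    simp
  exact congrArg Subtype.val (congrFun (hfix.coe_eq_inv_of_involutive hinv) ⟨w, hw⟩)

theorem Wc_abelian (B : Base z v h) {a b : K} (ha : a ∈ Wc z) (hb : b ∈ Wc z) : Commute a b := by
  have h1 := B.inverts ((Wc z).mul_mem ha hb)
  rw [show v * (a * b) * v⁻¹ = (v * a * v⁻¹) * (v * b * v⁻¹) by group, B.inverts ha, B.inverts hb,
    ← mul_inv_rev, inv_inj] at h1
  exact h1.symm

/-- An element of odd exponent difference squares into the centralizer of the core. -/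
theorem pow_two_comm (B : Base z v h) {x w : K} (hw : w ∈ Wc z) (hxz : Commute x z) {e : ℤ}
    (he : v * x * v⁻¹ = x ^ e) : Commute (x ^ (e - 1)) w := by
  have hu : x⁻¹ * w * x ∈ Wc z := by
    have := Wc_conj hw hxz.inv_left
    rwa [inv_inv] at this
  have h1 : v * w * v⁻¹ = w⁻¹ := B.inverts hw
  have h2 : v * (x * w * x⁻¹) * v⁻¹ = (x * w * x⁻¹)⁻¹ := B.inverts (Wc_conj hw hxz)
  have h3 : x ^ e * w⁻¹ * (x ^ e)⁻¹ = (x * w * x⁻¹)⁻¹ := by
    rw [← he, ← h1, ← h2]; group
  have h4 : x ^ (e - 1) * w⁻¹ * (x ^ (e - 1))⁻¹ = w⁻¹ := by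
    calc x ^ (e - 1) * w⁻¹ * (x ^ (e - 1))⁻¹ = x⁻¹ * (x ^ e * w⁻¹ * (x ^ e)⁻¹) * x := by
          rw [zpow_sub_one]
          group
      _ = w⁻¹ := by rw [h3]; group
  have h5 : Commute (x ^ (e - 1)) w⁻¹ := mul_inv_eq_iff_eq_mul.1 h4
  simpa using h5.inv_right

/-- The element of order four squaring to `z` centralizes the core. -/
theorem quarter_comm (B : Base z v h) {T : Sylow 2 K} {x : K} {n : ℕ} (D : TData z v T x n)
    {e : ℤ} (he : v * x * v⁻¹ = x ^ e) {o : ℤ} (ho : Odd o) (heo : e - 1 = 2 * o)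
    {w : K} (hw : w ∈ Wc z) :
    Commute (x ^ (2 : ℤ)) w ∧ Commute (x ^ (2 ^ (n - 2))) w := by
  have hxz : Commute x z := D.half ▸ (Commute.refl x).pow_right _
  have h1 : Commute (x ^ (2 * o)) w := heo ▸ B.pow_two_comm hw hxz he
  obtain ⟨a, b, hab⟩ : IsCoprime o ((2 : ℤ) ^ n) :=
    (((Int.prime_two).coprime_iff_not_dvd).2
      fun hd => (Int.not_even_iff_odd.2 ho) (even_iff_two_dvd.2 hd)).symm.pow_right
  have h2 : x ^ ((2 : ℤ) ^ n) = 1 := by
    rw [show ((2 : ℤ) ^ n) = ((2 ^ n : ℕ) : ℤ) by push_cast; rfl, zpow_natCast, ← D.xo,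
      pow_orderOf_eq_one]
  have h3 : x ^ (2 : ℤ) = (x ^ (2 * o)) ^ a := by
    rw [← zpow_mul]
    calc x ^ (2 : ℤ) = x ^ (2 * o * a + (2 : ℤ) ^ n * (2 * b)) := by
          congr 1
          linear_combination (-2 : ℤ) * hab
      _ = x ^ (2 * o * a) := by rw [zpow_add, zpow_mul _ ((2 : ℤ) ^ n), h2, one_zpow, mul_one]
  have h4 : Commute (x ^ (2 : ℤ)) w := h3 ▸ h1.zpow_left a
  refine ⟨h4, ?_⟩
  have hn := D.hn
  rw [show n - 2 = (n - 3) + 1 by omega, pow_succ', pow_mul, ← zpow_natCast x 2]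
  exact h4.pow_left _

/-- The quarter element swaps `v` and `zv`. -/
theorem quarter_conj (B : Base z v h) {T : Sylow 2 K} {x : K} {n : ℕ} (D : TData z v T x n)
    {e : ℤ} (he : v * x * v⁻¹ = x ^ e) {o : ℤ} (ho : Odd o) (heo : e - 1 = 2 * o) :
    x ^ (2 ^ (n - 2)) * v * (x ^ (2 ^ (n - 2)))⁻¹ = z * v := by
  have hn := D.hn
  set r := x ^ (2 ^ (n - 2)) with hr
  have hr2 : r * r = z := by
    rw [hr, ← pow_add, ← D.half, show n - 1 = (n - 2) + 1 by omega, pow_succ, mul_two]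
  have hz4 : r ^ (2 : ℤ) = z := by rw [zpow_two]; exact hr2
  have h1 : v * r * v⁻¹ = r * z := by
    rw [hr, ← zpow_natCast, ← conj_zpow, he, ← zpow_mul, mul_comm, zpow_mul, zpow_natCast, ← hr,
      show e = 2 * o + 1 by linarith, zpow_add, zpow_one, zpow_mul, hz4]
    obtain ⟨j, rfl⟩ := ho
    rw [zpow_add, zpow_mul, zpow_two, B.zz, one_zpow, one_mul, zpow_one]
    rw [← hr2]; group
  have h2 : v * r = r * z * v := by rw [← h1, inv_mul_cancel_right]
  have hrz : Commute z r := hr2 ▸ (Commute.refl r).mul_left (Commute.refl r)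
  calc r * v * r⁻¹ = (z * z) * r * v * r⁻¹ := by rw [B.zz, one_mul]
    _ = z * (r * z * v) * r⁻¹ := by rw [mul_assoc z z r, hrz.eq, ← mul_assoc z (r * z) v]
    _ = z * v := by rw [← h2]; group

/-- The elements of the centralizer of `z` moving `v` inside the four-group. -/
theorem norm_cases (B : Base z v h) {r d : K} (hrz : Commute r z) (hrv : r * v * r⁻¹ = z * v)
    (hd : Commute d z) (hdv : d * v * d⁻¹ = v ∨ d * v * d⁻¹ = z * v) :
    ∃ a, (a = 1 ∨ a = z ∨ a = v ∨ a = z * v) ∧ (d = a ∨ d = r * a) := by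
  rcases hdv with e | e
  · exact ⟨d, B.cent d hd (mul_inv_eq_iff_eq_mul.1 e), Or.inl rfl⟩
  · refine ⟨r⁻¹ * d, B.cent _ (hrz.inv_left.mul_left hd) ?_, Or.inr (by group)⟩
    refine mul_inv_eq_iff_eq_mul.1 ?_
    calc (r⁻¹ * d) * v * (r⁻¹ * d)⁻¹ = r⁻¹ * (d * v * d⁻¹) * r := by group
      _ = r⁻¹ * (r * v * r⁻¹) * r := by rw [e, hrv]
      _ = v := by group

/-- An element of `hWh⁻¹` centralizing a subgroup of `W` normalised by `V` and `r` is trivial. -/
theorem trick_apply (B : Base z v h) (htrick : Trick z v h) {r : K} (hrz : Commute r z)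
    (hrv : r * v * r⁻¹ = z * v) (hrW : ∀ w ∈ Wc z, Commute r w) {Y : Subgroup K} (hY : Y ≤ Wc z)
    (hY1 : Y ≠ ⊥) {b : K} (hb : b ∈ Wc z) (hc : ∀ y ∈ Y, Commute (h * b * h⁻¹) y) : b = 1 := by
  have hinv : ∀ d : K, Commute d z → (d * v * d⁻¹ = v ∨ d * v * d⁻¹ = z * v) →
      ∀ y ∈ Y, d * y * d⁻¹ ∈ Y := by
    intro d hd hdv y hy
    have hw := hY hy
    have hzy : z * y * z⁻¹ = y := by rw [(Wc_comm hw).symm.eq, mul_inv_cancel_right]
    have hr' : ∀ q ∈ Y, r * q * r⁻¹ = q := fun q hq => by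
      rw [(hrW q (hY hq)).eq, mul_inv_cancel_right]
    have hA : ∀ a, (a = 1 ∨ a = z ∨ a = v ∨ a = z * v) → a * y * a⁻¹ ∈ Y := by
      intro a ha
      rcases ha with e | e | e | e <;> rw [e]
      · simpa using hy
      · rw [hzy]; exact hy
      · rw [B.inverts hw]; exact inv_mem hy
      · rw [show (z * v) * y * (z * v)⁻¹ = z * (v * y * v⁻¹) * z⁻¹ by group, B.inverts hw,
          (Wc_comm hw).inv_left.symm.eq, mul_inv_cancel_right]
        exact inv_mem hy
    obtain ⟨a, ha, rfl | rfl⟩ := B.norm_cases hrz hrv hd hdv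
    · exact hA d ha
    · rw [show (r * a) * y * (r * a)⁻¹ = r * (a * y * a⁻¹) * r⁻¹ by group, hr' _ (hA a ha)]
      exact hA a ha
  set r' := h * r * h⁻¹ with hr'def
  have hr'b : Commute r' (h * b * h⁻¹) := (hrW b hb).map (MulAut.conj h).toMonoidHom
  set q := (h * h)⁻¹ * r' with hq
  have hqz : Commute q z := by
    refine mul_inv_eq_iff_eq_mul.1 ?_
    have e1 : r' * z * r'⁻¹ = z * v := by
      calc r' * z * r'⁻¹ = h * (r * (h⁻¹ * z * h) * r⁻¹) * h⁻¹ := by rw [hr'def]; group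
        _ = h * ((r * z * r⁻¹) * (r * v * r⁻¹)) * h⁻¹ := by rw [B.h_inv_z]; group
        _ = z * v := by
          rw [hrz.eq, mul_inv_cancel_right, hrv, ← mul_assoc z z v, B.zz, one_mul, B.hhv]
    calc q * z * q⁻¹ = (h * h)⁻¹ * (r' * z * r'⁻¹) * (h * h) := by
          simp only [hq, mul_inv_rev, inv_inv, mul_assoc]
      _ = (h * h)⁻¹ * (h * h * z * (h * h)⁻¹) * (h * h) := by rw [e1, B.hhz]
      _ = z := by group
  have hqv : q * v * q⁻¹ = v ∨ q * v * q⁻¹ = z * v := by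
    have e1 : r' * v * r'⁻¹ = v := by
      calc r' * v * r'⁻¹ = h * (r * (h⁻¹ * v * h) * r⁻¹) * h⁻¹ := by rw [hr'def]; group
        _ = h * (r * z * r⁻¹) * h⁻¹ := by rw [← B.hh]; group
        _ = v := by rw [hrz.eq, mul_inv_cancel_right, B.hh]
    right
    calc q * v * q⁻¹ = (h * h)⁻¹ * (r' * v * r'⁻¹) * (h * h) := by
          simp only [hq, mul_inv_rev, inv_inv, mul_assoc]
      _ = h⁻¹ * (h⁻¹ * v * h) * h := by rw [e1]; group
      _ = h⁻¹ * z * h := by rw [← B.hh]; group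
      _ = z * v := B.h_inv_z
  have h3 : ∀ y ∈ Y, Commute (h * b * h⁻¹) (h * h * y * (h * h)⁻¹) := by
    intro y hy
    have hy' : q⁻¹ * y * q ∈ Y := by
      have hqi : q⁻¹ * v * q = v ∨ q⁻¹ * v * q = z * v := by
        rcases hqv with e | e
        · left
          calc q⁻¹ * v * q = q⁻¹ * (q * v * q⁻¹) * q := by rw [e]
            _ = v := by group
        · right
          calc q⁻¹ * v * q = q⁻¹ * ((z * z) * v) * q := by rw [B.zz, one_mul]
            _ = q⁻¹ * z * (q * v * q⁻¹) * q := by rw [e]; group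
            _ = z * v := by rw [hqz.inv_left.eq]; group
      have h5 := hinv q⁻¹ hqz.inv_left (by simpa using hqi) y hy
      simpa using h5
    have e : h * h * y * (h * h)⁻¹ = r' * (q⁻¹ * y * q) * r'⁻¹ := by
      simp only [hq, mul_inv_rev, inv_inv, mul_assoc, mul_inv_cancel_left, mul_inv_cancel, mul_one]
    rw [e]
    have h6 := (hc _ hy').map (MulAut.conj r').toMonoidHom
    change Commute (r' * (h * b * h⁻¹) * r'⁻¹) (r' * (q⁻¹ * y * q) * r'⁻¹) at h6
    rwa [hr'b.eq, mul_inv_cancel_right] at h6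
  have h2 : ∀ y ∈ Y, Commute (h * b * h⁻¹) (h * y * h⁻¹) := fun y hy =>
    (B.Wc_abelian hb (hY hy)).map (MulAut.conj h).toMonoidHom
  exact conj_eq_one_iff.1 (htrick Y hY hY1 ((Wc_odd z).of_dvd_nat (card_dvd_of_le hY))
    (fun y hy => Wc_comm (hY hy)) (fun y hy => B.inverts (hY hy)) hinv _ hc h2 h3)

end Base

end Cfsg.Agent.SubdegThree
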