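import Cfsg.Agent.DGroupPSL.Pgl
import Cfsg.Agent.SL2Class.PSL
import Cfsg.Agent.Classical.LinearBasic
import Cfsg.Agent.Classical.SmallPSL
import Cfsg.Agent.S0807
import Cfsg.Agent.SubdegThree.Quot

/-!
Involution centralisers in `PSL(2, q)` and `PGL(2, q)` of order twelve, and `PGL(2, 5) ≅ S5`.
-/

set_option autoImplicit false

namespace Cfsg.Agent.SubdegThree

open Matrix

section PSL

open Cfsg.Agent.SL2Class

variable {F : Type*} [Field F] [Fintype F]

local notation "SG" => Matrix.SpecialLinearGroup (Fin 2) F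
local notation "PG" => Matrix.ProjectiveSpecialLinearGroup (Fin 2) F

theorem psl_twelve {x : PG} (hx : orderOf x = 2)
    (h12 : Nat.card (Subgroup.centralizer ({x} : Set PG)) = 12) :
    Fintype.card F = 11 ∨ Fintype.card F = 13 := by
  classical
  obtain ⟨p, hp⟩ := CharP.exists F
  haveI := Fact.mk (CharP.char_is_prime F p)
  obtain ⟨g, rfl⟩ := proj_surjective (F := F) x
  have hne : proj g ≠ 1 := fun e => by rw [e, orderOf_one] at hx; omega
  have hg2 : g ^ 2 ∈ Subgroup.center SG := orderOf_proj_dvd_iff.1 (dvd_of_eq hx)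
  have hgns : NonScalar g := by
    by_contra h
    exact hne (proj_eq_one.2 (SL2Class.mem_center_iff.2 h))
  have hP := (Subgroup.centralizer ({proj g} : Set PG)).card_mul_index
  have hS := (Subgroup.centralizer ({g} : Set SG)).card_mul_index
  rw [h12] at hP
  have hcp := Classical.card_psl_mul (ι := Fin 2) (F := F)
  rw [Fintype.card_fin] at hcp
  have hidx : 0 < (Subgroup.centralizer ({proj g} : Set PG)).index :=
    Nat.pos_of_ne_zero Subgroup.index_ne_zero_of_finite
  by_cases h2 : (2 : F) = 0
  · exfalso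
    have ht : tr g = 0 := by
      have hb := center_eq_bot h2
      rw [hb, Subgroup.mem_bot, pow_two] at hg2
      have hi : g⁻¹ = g := inv_eq_of_mul_eq_one_right hg2
      have e := inv_eq g
      rw [hi] at e
      have e00 := congrFun (congrFun e 0) 0
      simp [lin_apply, tr] at e00
      rw [tr, ← e00]
      linear_combination ((g : Matrix (Fin 2) (Fin 2) F) 0 0) * h2
    have hi := index_proj_of_tr_ne (g := g) (Or.inr h2)
    have hc := card_cent_double_even h2 hgns ht
    obtain ⟨n, hpp, hn⟩ := FiniteField.card F p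
    have hp2 : p = 2 := by
      have : ((2 : ℕ) : F) = 0 := by exact_mod_cast h2
      exact (Nat.prime_dvd_prime_iff_eq hpp Nat.prime_two).1 ((CharP.cast_eq_zero_iff F p 2).1 this)
    have hgcd : Nat.gcd 2 (Fintype.card F - 1) = 1 := by
      rw [hn, hp2]
      obtain ⟨m, hm⟩ : (2 : ℕ) ∣ 2 ^ (n : ℕ) := dvd_pow_self 2 n.ne_zero
      have := Nat.two_pow_pos (n : ℕ)
      exact Nat.coprime_two_left.2 ⟨m - 1, by omega⟩
    rw [hgcd, one_mul] at hcp
    rw [← hcp, hc, ← hi, ← hP] at hS
    have hq : Fintype.card F = 12 := Nat.eq_of_mul_eq_mul_right hidx hS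
    have h3 : 3 ∣ 2 ^ (n : ℕ) := by
      rw [hp2] at hn
      rw [← hn, hq]; norm_num
    have := Nat.prime_three.dvd_of_dvd_pow h3
    omega
  · have ht : tr g = 0 := by
      rw [pow_two] at hg2
      rcases mem_center_cases.1 hg2 with e | e
      · exfalso
        rcases sq_eq_one_cases h2 (x := g) e with h | h
        · exact hne (by rw [h, map_one])
        · exact hne (proj_eq_one.2 (h ▸ neg_one_mem_center))
      · have hi : g⁻¹ = -g := by
          refine inv_eq_of_mul_eq_one_right ?_
          have : g * -g = -(g * g) := Subtype.ext (by simp)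
          rw [this, e, neg_neg]
        have h := tr_inv g
        rw [hi, tr_neg] at h
        exact (mul_eq_zero.1 (show (2 : F) * tr g = 0 by linear_combination -h)).resolve_left h2
    have hgcd : Nat.gcd 2 (Fintype.card F - 1) = 2 := by
      have := card_odd_of_two_ne_zero h2
      exact Nat.gcd_eq_left (by omega)
    have hi := index_proj_trace_zero h2 ht
    rw [hgcd] at hcp
    rw [← hcp, ← hi, ← hP] at hS
    have h4 : tr g * tr g ≠ 4 := by
      rw [ht, mul_zero]
      exact fun e => mul_ne_zero h2 h2 (by linear_combination -e)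
    set c := Nat.card (Subgroup.centralizer ({g} : Set SG)) with hc
    have hc12 : c = 12 :=
      Nat.eq_of_mul_eq_mul_right (show 0 < 2 * (Subgroup.centralizer ({proj g} : Set PG)).index by omega)
        (by ring_nf; ring_nf at hS; exact hS)
    rcases card_cent_semisimple h4 with h | h <;> rw [← hc, hc12] at h <;> omega

end PSL

section PGL

open Cfsg.Agent.DGroupPSL.Pgl2

variable {F : Type*} [Field F] [Fintype F]

local notation "P2" => Matrix.ProjGenLinGroup (Fin 2) F

/-- A lower bound for involution centralisers in `PGL(2, q)`. -/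
theorem pgl_cent_bound (hodd : Odd (Fintype.card F)) {x : P2} (hx : orderOf x = 2) :
    2 * (Fintype.card F - 1) ≤ Nat.card (Subgroup.centralizer ({x} : Set P2)) := by
  classical
  haveI : Finite P2 := Finite.of_surjective _ ProjGenLinGroup.mk_surjective
  obtain ⟨M, rfl, hM1, hMt⟩ := lift_involution hx
  have h2 := two_ne_zero' hodd
  set m := (M : Matrix (Fin 2) (Fin 2) F) with hm
  have hm11 : m 1 1 = -m 0 0 := by linear_combination hMt
  have hdet : ∀ s : F, (1 + s • m).det = 1 + s * s * m.det := by
    intro s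
    simp [Matrix.det_fin_two, hm11]
    ring
  obtain ⟨N, hN⟩ : ∃ N : GL (Fin 2) F,
      (N : Matrix (Fin 2) (Fin 2) F) * m = -(m * (N : Matrix (Fin 2) (Fin 2) F)) := by
    have mkN : ∀ p r t : F, -(p * p) - r * t ≠ 0 → 2 * m 0 0 * p + m 0 1 * t + m 1 0 * r = 0 →
        ∃ N : GL (Fin 2) F,
          (N : Matrix (Fin 2) (Fin 2) F) * m = -(m * (N : Matrix (Fin 2) (Fin 2) F)) := by
      intro p r t hd he
      refine ⟨GeneralLinearGroup.mkOfDetNeZero !![p, r; t, -p]
        (by rw [Matrix.det_fin_two_of]; intro h; exact hd (by linear_combination h)), ?_⟩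
      show !![p, r; t, -p] * m = -(m * !![p, r; t, -p])
      ext i j
      fin_cases i <;> fin_cases j <;> simp [Matrix.mul_apply, Fin.sum_univ_two, hm11] <;>
        first | ring1 | linear_combination he | linear_combination -he
    by_cases hb : m 0 1 = 0
    · by_cases he : m 1 0 = 0
      · exact mkN 0 1 1 (by simp) (by rw [hb, he]; ring)
      · exact mkN (m 1 0) (-2 * m 0 0) 0 (by simp [he]) (by rw [hb]; ring)
    · by_cases he : m 1 0 = 0
      · exact mkN (m 0 1) 0 (-2 * m 0 0) (by simp [hb]) (by rw [he]; ring)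
      · exact mkN 0 (m 0 1) (-m 1 0) (by simp [hb, he]) (by ring)
  set C := Subgroup.centralizer ({ProjGenLinGroup.mk M} : Set P2) with hC
  let P : Subgroup P2 := (Subgroup.centralizer ({M} : Set (GL (Fin 2) F))).map ProjGenLinGroup.mk
  have hcomm : ∀ {A : GL (Fin 2) F}, A ∈ Subgroup.centralizer ({M} : Set (GL (Fin 2) F)) →
      (A : Matrix (Fin 2) (Fin 2) F) * m = m * A := fun {A} hA => by
    have := congrArg Units.val (Subgroup.mem_centralizer_singleton_iff.1 hA)
    rwa [Units.val_mul, Units.val_mul] at this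
  have hPC : P ≤ C := by
    rintro _ ⟨A, hA, rfl⟩
    rw [hC, Subgroup.mem_centralizer_singleton_iff, ← map_mul, ← map_mul,
      Subgroup.mem_centralizer_singleton_iff.1 hA]
  have hNC : ProjGenLinGroup.mk N ∈ C := by
    rw [hC, Subgroup.mem_centralizer_singleton_iff, ← map_mul, ← map_mul]
    refine mk_eq_of_smul (neg_ne_zero.2 one_ne_zero) ?_
    rw [Units.val_mul, Units.val_mul, neg_smul, one_smul, hN, neg_neg]
  have hNP : ProjGenLinGroup.mk N ∉ P := by
    rintro ⟨A, hA, h⟩
    obtain ⟨r, -, hr⟩ := smul_of_mk_eq h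
    have h3 : (N : Matrix (Fin 2) (Fin 2) F) * m = m * N := by
      rw [hr, Matrix.smul_mul, Matrix.mul_smul, hcomm hA]
    have h4 : (2 : F) • (m * (N : Matrix (Fin 2) (Fin 2) F)) = 0 := by
      rw [two_smul]; nth_rw 1 [← h3]; rw [hN, neg_add_cancel]
    have h5 := (smul_eq_zero.1 h4).resolve_left h2
    have h6 := congrArg Matrix.det h5
    rw [Matrix.det_mul, Matrix.det_zero] at h6
    exact mul_ne_zero M.det_ne_zero N.det_ne_zero h6
  -- the elements `1 + s • M` and `M`
  let W : Finset F := Finset.univ.filter fun s => (1 + s • m).det ≠ 0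
  have hW : Fintype.card F ≤ W.card + 2 := by
    have hc : (Finset.univ \ W).card ≤ 2 := by
      rcases (Finset.univ \ W).eq_empty_or_nonempty with h | ⟨s₀, hs₀⟩
      · rw [h]; simp
      · refine le_trans (Finset.card_le_card (t := {s₀, -s₀}) ?_) (Finset.card_le_two)
        intro s hs
        simp [W] at hs hs₀
        rw [hdet] at hs hs₀
        have hd : m.det ≠ 0 := M.det_ne_zero
        have : s * s = s₀ * s₀ := mul_right_cancel₀ hd (by linear_combination hs - hs₀)
        rcases mul_self_eq_mul_self_iff.1 this with e | e <;> simp [e]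
    have := Finset.card_sdiff_add_card_eq_card (Finset.subset_univ W)
    rw [Finset.card_univ] at this
    omega
  let u : ↥W → GL (Fin 2) F := fun s =>
    GeneralLinearGroup.mkOfDetNeZero (1 + (s : F) • m) (Finset.mem_filter.1 s.2).2
  have huv : ∀ s : ↥W, ((u s : GL (Fin 2) F) : Matrix (Fin 2) (Fin 2) F) = 1 + (s : F) • m :=
    fun s => rfl
  have hline : ∀ a b : F, a • (1 : Matrix (Fin 2) (Fin 2) F) + b • m = 0 → a = 0 ∧ b = 0 := by
    intro a b h
    have e00 := congrFun (congrFun h 0) 0
    have e01 := congrFun (congrFun h 0) 1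
    have e10 := congrFun (congrFun h 1) 0
    have e11 := congrFun (congrFun h 1) 1
    simp at e00 e01 e10 e11
    have hb : b = 0 := by
      by_contra hb
      exact hM1 ⟨e01.resolve_left hb, e10.resolve_left hb,
        mul_left_cancel₀ hb (by linear_combination e00 - e11)⟩
    exact ⟨by rw [hb] at e00; simpa using e00, hb⟩
  let z : ↥W ⊕ Unit → GL (Fin 2) F := Sum.elim u fun _ => M
  have hz : ∀ w, z w ∈ Subgroup.centralizer ({M} : Set (GL (Fin 2) F)) := by
    intro w
    rw [Subgroup.mem_centralizer_singleton_iff]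
    refine Units.ext ?_
    rw [Units.val_mul, Units.val_mul]
    rcases w with s | _
    · show (1 + (s : F) • m) * m = m * (1 + (s : F) • m)
      rw [Matrix.add_mul, Matrix.mul_add, Matrix.one_mul, Matrix.mul_one, Matrix.smul_mul,
        Matrix.mul_smul]
    · rfl
  let f : ↥W ⊕ Unit → ↥P := fun w => ⟨ProjGenLinGroup.mk (z w), Subgroup.mem_map_of_mem _ (hz w)⟩
  have hMu : ∀ s : ↥W, ProjGenLinGroup.mk (u s) ≠ ProjGenLinGroup.mk M := by
    intro s h
    obtain ⟨r, hr0, hr⟩ := smul_of_mk_eq h
    rw [huv, smul_add, smul_smul] at hr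
    exact hr0 (hline r (r * (s : F) - 1) (by
      rw [sub_smul, one_smul]
      calc r • (1 : Matrix (Fin 2) (Fin 2) F) + ((r * (s : F)) • m - m)
          = (r • 1 + (r * (s : F)) • m) - m := by abel
        _ = 0 := sub_eq_zero.2 hr.symm)).1
  have hf : Function.Injective f := by
    intro w w' h
    have h' : ProjGenLinGroup.mk (z w) = ProjGenLinGroup.mk (z w') := congrArg Subtype.val h
    rcases w with s | _ <;> rcases w' with s' | _
    · obtain ⟨r, -, hr⟩ := smul_of_mk_eq h'
      change (1 + (s' : F) • m) = r • (1 + (s : F) • m) at hr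
      rw [smul_add, smul_smul] at hr
      obtain ⟨h1, h3⟩ := hline (r - 1) (r * (s : F) - (s' : F))
        (by rw [sub_smul, sub_smul, one_smul]
            calc r • (1 : Matrix (Fin 2) (Fin 2) F) - 1 + ((r * (s : F)) • m - (s' : F) • m)
                = (r • 1 + (r * (s : F)) • m) - (1 + (s' : F) • m) := by abel
              _ = 0 := sub_eq_zero.2 hr.symm)
      rw [sub_eq_zero] at h1
      rw [h1, one_mul, sub_eq_zero] at h3
      exact congrArg Sum.inl (Subtype.ext h3)
    · exact absurd h' (hMu s)
    · exact absurd h'.symm (hMu s')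
    · rfl
  have hcard := Nat.card_le_card_of_injective f hf
  rw [Nat.card_eq_fintype_card, Fintype.card_sum, Fintype.card_coe, Fintype.card_unit] at hcard
  obtain ⟨k, hk⟩ := Subgroup.card_dvd_of_le hPC
  have hlt : P ≠ C := fun e => hNP (e ▸ hNC)
  have hk2 : 2 ≤ k := by
    rcases k with _ | _ | k
    · exfalso; rw [mul_zero] at hk; exact Nat.card_pos.ne' hk
    · exfalso
      exact hlt (Subgroup.eq_of_le_of_card_ge hPC (le_of_eq (by rw [hk, zero_add, mul_one])))
    · omega
  rw [hk, mul_comm (Nat.card ↥P)]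
  calc 2 * (Fintype.card F - 1) ≤ 2 * Nat.card ↥P := by omega
    _ ≤ k * Nat.card ↥P := Nat.mul_le_mul_right _ hk2

/-- `PGL(2, 5)` without solvable normal subgroups is the symmetric group. -/
theorem pgl_five (hF : Fintype.card F = 5)
    (hcore : ∀ N : Subgroup P2, N.Normal → Group.IsSolvable N → N = ⊥) :
    Nonempty (P2 ≃* Equiv.Perm (Fin 5)) := by
  classical
  haveI : Finite P2 := Finite.of_surjective _ ProjGenLinGroup.mk_surjective
  let T : Matrix.ProjectiveSpecialLinearGroup (Fin 2) F →* P2 := ProjectiveSpecialLinearGroup.toPGL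
  have hT : Function.Injective T := ProjectiveSpecialLinearGroup.toPGL_injective
  have hSL : Nat.card (SpecialLinearGroup (Fin 2) F) = 120 := by
    rw [SL2Class.card_sl, hF]; rfl
  have hPSL : Nat.card (Matrix.ProjectiveSpecialLinearGroup (Fin 2) F) = 60 := by
    have h := Classical.card_psl_mul (ι := Fin 2) (F := F)
    rw [Fintype.card_fin, hF, hSL, show Nat.gcd 2 (5 - 1) = 2 from rfl] at h
    omega
  have hPGL : Nat.card P2 = 120 := by rw [Classical.card_pgl, hSL]
  have hTr : Nat.card T.range = 60 := by
    rw [← Nat.card_congr (MonoidHom.ofInjective hT).toEquiv, hPSL]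
  have hTi : T.range.index = 2 := by
    have := T.range.card_mul_index
    rw [hTr, hPGL] at this
    omega
  haveI hTn : T.range.Normal := Subgroup.normal_of_index_eq_two hTi
  have h5 : Nat.card {V : Subgroup (Matrix.ProjectiveSpecialLinearGroup (Fin 2) F) // IsKleinFour V} = 5 := by
    have := S0807.result hF (by decide)
    omega
  obtain ⟨⟨V, hV⟩⟩ : Nonempty
      {V : Subgroup (Matrix.ProjectiveSpecialLinearGroup (Fin 2) F) // IsKleinFour V} :=
    (Nat.card_pos_iff.1 (by rw [h5]; norm_num)).1
  set W := V.map T with hW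
  set N := Subgroup.normalizer (W : Set P2) with hNdef
  have hle : ∀ g : P2, W.map (MulAut.conj g).toMonoidHom ≤ T.range := by
    rintro g _ ⟨_, ⟨v, -, rfl⟩, rfl⟩
    exact hTn.conj_mem _ ⟨v, rfl⟩ g
  have hcard : ∀ g : P2, ((W.map (MulAut.conj g).toMonoidHom).comap T).map T =
      W.map (MulAut.conj g).toMonoidHom := fun g => Subgroup.map_comap_eq_self (hle g)
  have hKl : ∀ g : P2, IsKleinFour ↥((W.map (MulAut.conj g).toMonoidHom).comap T) := by
    intro g
    let e : ↥((W.map (MulAut.conj g).toMonoidHom).comap T) ≃* ↥V :=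
      (((Subgroup.equivMapOfInjective _ T hT).trans (MulEquiv.subgroupCongr (hcard g))).trans
        (Subgroup.equivMapOfInjective W _ (MulAut.conj g).injective).symm).trans
        (Subgroup.equivMapOfInjective V T hT).symm
    exact ⟨(Nat.card_congr e.toEquiv).trans hV.card_four,
      (Monoid.exponent_eq_of_mulEquiv e).trans hV.exponent_two⟩
  let f : P2 ⧸ N → {V : Subgroup (Matrix.ProjectiveSpecialLinearGroup (Fin 2) F) // IsKleinFour V} :=
    fun y => ⟨_, hKl y.out⟩
  have hf : Function.Injective f := by
    intro a b h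
    have h' := congrArg (fun K : Subgroup _ => K.map T) (congrArg Subtype.val h)
    simp only [f, hcard] at h'
    refine (QuotientGroup.out_eq' a).symm.trans ((QuotientGroup.eq.2 ?_).trans (QuotientGroup.out_eq' b))
    change _ ∈ Subgroup.normalizer (W : Set P2)
    have h'' := congrArg (fun K : Subgroup P2 => K.map (MulAut.conj a.out⁻¹).toMonoidHom) h'
    simp only [Subgroup.map_map] at h''
    rw [show (MulAut.conj a.out⁻¹).toMonoidHom.comp (MulAut.conj a.out).toMonoidHom =
        MonoidHom.id P2 from MonoidHom.ext fun y => by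
          show a.out⁻¹ * (a.out * y * a.out⁻¹) * a.out⁻¹⁻¹ = y
          group, Subgroup.map_id,
      show (MulAut.conj a.out⁻¹).toMonoidHom.comp (MulAut.conj b.out).toMonoidHom =
        (MulAut.conj (a.out⁻¹ * b.out)).toMonoidHom from MonoidHom.ext fun y => by
          show a.out⁻¹ * (b.out * y * b.out⁻¹) * a.out⁻¹⁻¹ = a.out⁻¹ * b.out * y * (a.out⁻¹ * b.out)⁻¹
          group] at h''
    rw [Subgroup.mem_normalizer_iff]
    intro y
    constructor
    · intro hy
      rw [h'']
      exact ⟨y, hy, rfl⟩
    · intro hy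
      rw [h''] at hy
      obtain ⟨y', hy', e⟩ := hy
      have : y' = y := (MulAut.conj (a.out⁻¹ * b.out)).injective e
      exact this ▸ hy'
  have hidx : N.index ≤ 5 := h5 ▸ Nat.card_le_card_of_injective f hf
  haveI := Classical.isSimpleGroup_psl (ι := Fin 2) (F := F)
    (Or.inr ⟨by simp, Classical.Small.exists_sq_ne_one (by omega)⟩)
  have hWne : W ≠ ⊥ := fun h => by
    have : Nat.card W = 4 := by rw [hW, Subgroup.card_map_of_injective hT]; exact hV.card_four
    rw [h, Subgroup.card_bot] at this
    omega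
  -- the core of the normaliser is trivial
  have hK : N.normalCore = ⊥ := by
    refine hcore _ (Subgroup.normalCore_normal N) ?_
    rcases Subgroup.Normal.eq_bot_or_eq_top
        (inferInstance : (N.normalCore.comap T).Normal) with h | h
    · have h1 : N.normalCore ⊓ T.range = ⊥ := by
        rw [inf_comm, ← Subgroup.map_comap_eq, h, Subgroup.map_bot]
      have h2 : Nat.card N.normalCore ∣ 2 := by
        have h3 := Subgroup.relIndex_dvd_index_of_normal T.range N.normalCore
        rw [hTi, Subgroup.relIndex, ← Subgroup.inf_subgroupOf_left, h1, Subgroup.bot_subgroupOf,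
          Subgroup.index_bot] at h3
        exact h3
      refine Group.isSolvable_of_comm fun a b => ?_
      rcases (Nat.dvd_prime Nat.prime_two).1 h2 with e | e
      · haveI := (Nat.card_eq_one_iff_unique.1 e).1
        exact Subsingleton.elim _ _
      · haveI : Fact (Nat.Prime 2) := ⟨Nat.prime_two⟩
        haveI := isCyclic_of_prime_card e
        exact (IsCyclic.isMulCommutative (α := N.normalCore)).is_comm.comm a b
    · exfalso
      have hn : V.Normal := by
        refine ⟨fun v hv y => ?_⟩
        have hy : y ∈ N.normalCore.comap T := h ▸ Subgroup.mem_top y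
        have := (Subgroup.mem_normalizer_iff.1 (N.normalCore_le hy) (T v)).1
          (Subgroup.mem_map_of_mem T hv)
        rw [← map_inv, ← map_mul, ← map_mul] at this
        obtain ⟨v', hv', e⟩ := this
        exact hT e ▸ hv'
      rcases hn.eq_bot_or_eq_top with e | e
      · exact hWne (by rw [hW, e, Subgroup.map_bot])
      · have := hV.card_four
        rw [e, Subgroup.card_top, hPSL] at this
        omega
  rw [Subgroup.normalCore_eq_ker] at hK
  have hinj : Function.Injective (MulAction.toPermHom P2 (P2 ⧸ N)) :=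
    (MonoidHom.ker_eq_bot_iff _).1 hK
  have hle' := Nat.card_le_card_of_injective _ hinj
  rw [hPGL, Nat.card_perm, ← Subgroup.index_eq_card] at hle'
  have hi5 : N.index = 5 := by
    by_contra hne
    have : N.index.factorial ≤ Nat.factorial 4 := Nat.factorial_le (by omega)
    have h24 : Nat.factorial 4 = 24 := rfl
    omega
  obtain ⟨e⟩ : Nonempty (P2 ⧸ N ≃ Fin 5) := by
    rw [← hi5, Subgroup.index_eq_card]
    exact ⟨Finite.equivFin _⟩
  refine ⟨MulEquiv.ofBijective ((Equiv.permCongrHom e).toMonoidHom.comp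
    (MulAction.toPermHom P2 (P2 ⧸ N))) ?_⟩
  refine (Nat.bijective_iff_injective_and_card _).2 ⟨(Equiv.permCongrHom e).injective.comp hinj, ?_⟩
  rw [hPGL, Nat.card_perm, Nat.card_fin]
  rfl

end PGL

end Cfsg.Agent.SubdegThree
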