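import Cfsg.Agent.SubdegThree.Setup
import Cfsg.Agent.SubdegThree.Data
import Cfsg.Agent.SubdegThree.PermFour
import Cfsg.Agent.S0205

/-!
The local data transported from the symmetric group of degree four into an ambient group.
-/

set_option autoImplicit false

namespace Cfsg.Agent.SubdegThree

open Subgroup

variable {G : Type*} [Group G]

theorem orderOf_map {ι : P4.S4 →* G} (hι : Function.Injective ι) (a : P4.S4) :
    orderOf (ι a) = orderOf a := orderOf_injective ι hι a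

/-- The four-group of an embedded symmetric group of degree four. -/
def fourOf (ι : P4.S4 →* G) : Subgroup G := closure ({ι P4.zz, ι P4.vv} : Set G)

theorem map_mem_fourOf (ι : P4.S4 →* G) {a : P4.S4}
    (ha : a = 1 ∨ a = P4.zz ∨ a = P4.vv ∨ a = P4.zz * P4.vv) : ι a ∈ fourOf ι := by
  rcases ha with rfl | rfl | rfl | rfl
  · rw [map_one]; exact one_mem _
  · exact subset_closure (Or.inl rfl)
  · exact subset_closure (Or.inr rfl)
  · rw [map_mul]; exact mul_mem (subset_closure (Or.inl rfl)) (subset_closure (Or.inr rfl))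

theorem mem_fourOf {ι : P4.S4 →* G} {y : G} (hy : y ∈ fourOf ι) :
    ∃ a : P4.S4, (a = 1 ∨ a = P4.zz ∨ a = P4.vv ∨ a = P4.zz * P4.vv) ∧ ι a = y := by
  obtain ⟨hz, hv, hc, -, -⟩ := P4.rels
  rcases mem_closure_pair (z := ι P4.zz) (v := ι P4.vv)
      (by rw [← map_mul, mul_self_eq_one hz, map_one]) (by rw [← map_mul, mul_self_eq_one hv, map_one])
      (by rw [← map_mul, ← map_mul, hc]) hy with rfl | rfl | rfl | rfl
  exacts [⟨1, Or.inl rfl, map_one ι⟩, ⟨_, Or.inr (Or.inl rfl), rfl⟩,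
    ⟨_, Or.inr (Or.inr (Or.inl rfl)), rfl⟩, ⟨_, Or.inr (Or.inr (Or.inr rfl)), map_mul ι _ _⟩]

theorem normalizes_fourOf (ι : P4.S4 →* G) (k : P4.S4) :
    ∀ y ∈ fourOf ι, ι k * y * (ι k)⁻¹ ∈ fourOf ι := by
  intro y hy
  obtain ⟨a, ha, rfl⟩ := mem_fourOf hy
  rw [← map_inv, ← map_mul, ← map_mul]
  refine map_mem_fourOf ι ?_
  exact (by decide +kernel : ∀ k a : P4.S4, (a = 1 ∨ a = P4.zz ∨ a = P4.vv ∨ a = P4.zz * P4.vv) →
    (k * a * k⁻¹ = 1 ∨ k * a * k⁻¹ = P4.zz ∨ k * a * k⁻¹ = P4.vv ∨ k * a * k⁻¹ = P4.zz * P4.vv)) k a ha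

theorem isSolvable_fourOf [Finite G] (ι : P4.S4 →* G) : Group.IsSolvable (fourOf ι) := by
  refine Group.isSolvable_of_comm fun a b => Subtype.ext ?_
  obtain ⟨p, hp, ea⟩ := mem_fourOf a.2
  obtain ⟨q, hq, eb⟩ := mem_fourOf b.2
  show (a : G) * b = b * a
  rw [← ea, ← eb, ← map_mul, ← map_mul]
  congr 1
  exact (by decide +kernel : ∀ p q : P4.S4, (p = 1 ∨ p = P4.zz ∨ p = P4.vv ∨ p = P4.zz * P4.vv) →
    (q = 1 ∨ q = P4.zz ∨ q = P4.vv ∨ q = P4.zz * P4.vv) → p * q = q * p) p q hp hq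

theorem fourOf_ne_bot {ι : P4.S4 →* G} (hι : Function.Injective ι) : fourOf ι ≠ ⊥ := fun e => by
  have h : ι P4.zz ∈ fourOf ι := subset_closure (Or.inl rfl)
  rw [e, mem_bot, map_eq_one_iff ι hι] at h
  exact ne_one_of_order_two P4.rels.1 h

/-- The base data. -/
theorem base_of_embedding {ι : P4.S4 →* G} (hι : Function.Injective ι)
    (hcent : ∀ y : G, Commute y (ι P4.zz) → Commute y (ι P4.vv) → y ∈ fourOf ι) :
    Base (ι P4.zz) (ι P4.vv) (ι P4.hh) where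
  hz := (orderOf_map hι _).trans P4.rels.1
  hv := (orderOf_map hι _).trans P4.rels.2.1
  comm := by rw [← map_mul, ← map_mul, P4.rels.2.2.1]
  ne := fun e => P4.rels.2.2.2.1 (hι e)
  hh := by rw [← map_inv, ← map_mul, ← map_mul, P4.rels.2.2.2.2.1]
  hhv := by rw [← map_inv, ← map_mul, ← map_mul, ← map_mul, P4.rels.2.2.2.2.2.1]
  cent := fun y h1 h2 => by
    obtain ⟨a, ha, rfl⟩ := mem_fourOf (hcent y h1 h2)
    rcases ha with rfl | rfl | rfl | rfl <;> simp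

/-- The three conjugates of a subgroup are permuted by the embedded group. -/
theorem conj_three (ι : P4.S4 →* G) {Y : Subgroup G}
    (hY : ∀ d : G, Commute d (ι P4.zz) → (d * ι P4.vv * d⁻¹ = ι P4.vv ∨
      d * ι P4.vv * d⁻¹ = ι P4.zz * ι P4.vv) → ∀ y ∈ Y, d * y * d⁻¹ ∈ Y) (k : P4.S4) (j : Fin 3)
    {y : G} (hy : y ∈ Y) :
    ∃ (a : Fin 3) (y' : G), y' ∈ Y ∧
      ι k * (ι P4.hh ^ (j : ℕ) * y * (ι P4.hh ^ (j : ℕ))⁻¹) * (ι k)⁻¹ =
        ι P4.hh ^ (a : ℕ) * y' * (ι P4.hh ^ (a : ℕ))⁻¹ := by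
  have key : ∀ (k : P4.S4) (j : Fin 3), ∃ a : Fin 3,
      (P4.hh ^ (a : ℕ))⁻¹ * k * P4.hh ^ (j : ℕ) * P4.zz =
        P4.zz * ((P4.hh ^ (a : ℕ))⁻¹ * k * P4.hh ^ (j : ℕ)) ∧
      (((P4.hh ^ (a : ℕ))⁻¹ * k * P4.hh ^ (j : ℕ)) * P4.vv * ((P4.hh ^ (a : ℕ))⁻¹ * k * P4.hh ^ (j : ℕ))⁻¹ = P4.vv ∨
      ((P4.hh ^ (a : ℕ))⁻¹ * k * P4.hh ^ (j : ℕ)) * P4.vv * ((P4.hh ^ (a : ℕ))⁻¹ * k * P4.hh ^ (j : ℕ))⁻¹ =
        P4.zz * P4.vv) := by
    decide +kernel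
  obtain ⟨a, h1, h2⟩ := key k j
  set d := (P4.hh ^ (a : ℕ))⁻¹ * k * P4.hh ^ (j : ℕ) with hd
  have hdz : Commute (ι d) (ι P4.zz) := by
    show ι d * ι P4.zz = ι P4.zz * ι d
    rw [← map_mul, ← map_mul, h1]
  refine ⟨a, ι d * y * (ι d)⁻¹, hY (ι d) hdz ?_ y hy, ?_⟩
  · rcases h2 with e | e
    · exact Or.inl (by rw [← map_inv, ← map_mul, ← map_mul, e])
    · exact Or.inr (by rw [← map_inv, ← map_mul, ← map_mul, e, map_mul])
  · rw [hd, map_mul, map_mul, map_inv, map_pow, map_pow]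
    group

/-- The centraliser of three conjugates is normalised by the embedded group. -/
theorem normalizes_threeCent [Finite G] (ι : P4.S4 →* G) {Y : Subgroup G}
    (hY : ∀ d : G, Commute d (ι P4.zz) → (d * ι P4.vv * d⁻¹ = ι P4.vv ∨
      d * ι P4.vv * d⁻¹ = ι P4.zz * ι P4.vv) → ∀ y ∈ Y, d * y * d⁻¹ ∈ Y) (k : P4.S4) :
    ∀ c ∈ centralizer {s : G | ∃ (j : Fin 3) (y : G), y ∈ Y ∧
        s = ι P4.hh ^ (j : ℕ) * y * (ι P4.hh ^ (j : ℕ))⁻¹},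
      ι k * c * (ι k)⁻¹ ∈ centralizer {s : G | ∃ (j : Fin 3) (y : G), y ∈ Y ∧
        s = ι P4.hh ^ (j : ℕ) * y * (ι P4.hh ^ (j : ℕ))⁻¹} := by
  intro c hc
  rw [mem_centralizer_iff] at hc ⊢
  rintro s ⟨j, y, hy, rfl⟩
  set s := ι P4.hh ^ (j : ℕ) * y * (ι P4.hh ^ (j : ℕ))⁻¹ with hs
  obtain ⟨a, y', hy', e⟩ := conj_three ι hY k⁻¹ j hy
  rw [← hs, map_inv, inv_inv] at e
  have h1 := hc _ ⟨a, y', hy', rfl⟩
  rw [← e] at h1
  calc s * (ι k * c * (ι k)⁻¹) = ι k * (((ι k)⁻¹ * s * ι k) * c) * (ι k)⁻¹ := by group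
    _ = ι k * (c * ((ι k)⁻¹ * s * ι k)) * (ι k)⁻¹ := by rw [h1]
    _ = ι k * c * (ι k)⁻¹ * s := by group

theorem mem_threeCent (ι : P4.S4 →* G) {Y : Subgroup G} {c : G} (h0 : ∀ y ∈ Y, Commute c y)
    (h1 : ∀ y ∈ Y, Commute c (ι P4.hh * y * (ι P4.hh)⁻¹))
    (h2 : ∀ y ∈ Y, Commute c (ι P4.hh * ι P4.hh * y * (ι P4.hh * ι P4.hh)⁻¹)) :
    c ∈ centralizer {s : G | ∃ (j : Fin 3) (y : G), y ∈ Y ∧
      s = ι P4.hh ^ (j : ℕ) * y * (ι P4.hh ^ (j : ℕ))⁻¹} := by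
  rw [mem_centralizer_iff]
  rintro s ⟨j, y, hy, rfl⟩
  fin_cases j
  · simpa using (h0 y hy).eq.symm
  · simpa using (h1 y hy).eq.symm
  · simpa [pow_two] using (h2 y hy).eq.symm

/-- Odd normal subgroups vanish when solvable ones do. -/
theorem odd_normal_eq_bot [Finite G]
    (hcore : ∀ N : Subgroup G, N.Normal → Group.IsSolvable N → N = ⊥)
    (N : Subgroup G) (hN : N.Normal) (ho : Odd (Nat.card N)) : N = ⊥ :=
  hcore N hN (S0205.result ho)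

end Cfsg.Agent.SubdegThree
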